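import Groth.Prelude.Def_ChGrp

/-!
# Pseudo-torsors: points description
-/

set_option autoImplicit false
universe u

open CategoryTheory CategoryTheory.Limits MonoidalCategory CartesianMonoidalCategory MonObj GrpObj AlgebraicGeometry

namespace K826.Tors

variable {S : Scheme.{u}} {G X : Over S} [GrpObj G]

/-- pseudo-torsor: points description, direct part -/
theorem existsUnique_of_pseudo {a : AlgGrp.Action G X} (ha : NonAbH1.IsPseudoTorsorSch a)
    {T : Over S} (x y : T ⟶ X) : ∃! g : T ⟶ G, lift g x ≫ a.act = y := by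
  have hiso : IsIso (lift a.act (snd G X)) := ha
  have key : ∀ g : T ⟶ G, lift g x ≫ lift a.act (snd G X) = lift (lift g x ≫ a.act) x := by
    intro g
    rw [comp_lift, lift_snd]
  have h2 : (lift y x ≫ inv (lift a.act (snd G X))) ≫ lift a.act (snd G X) = lift y x := by
    rw [Category.assoc, IsIso.inv_hom_id, Category.comp_id]
  have h4 : (lift y x ≫ inv (lift a.act (snd G X))) ≫ snd G X = x := by
    have := congrArg (· ≫ snd X X) h2
    simpa using this
  have h5 : (lift y x ≫ inv (lift a.act (snd G X))) ≫ a.act = y := by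
    have := congrArg (· ≫ fst X X) h2
    simpa using this
  have h6 : lift ((lift y x ≫ inv (lift a.act (snd G X))) ≫ fst G X) x =
      lift y x ≫ inv (lift a.act (snd G X)) := by
    apply CartesianMonoidalCategory.hom_ext
    · simp
    · rw [lift_snd, h4]
  refine ⟨(lift y x ≫ inv (lift a.act (snd G X))) ≫ fst G X, ?_, ?_⟩
  · change lift _ x ≫ a.act = y
    rw [h6, h5]
  · intro g hg
    change lift g x ≫ a.act = y at hg
    have h7 := key g
    rw [hg] at h7
    rw [← h7, Category.assoc, Category.assoc, IsIso.hom_inv_id_assoc, lift_fst]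

/-- pseudo-torsor: points description, converse part -/
theorem pseudo_of_existsUnique {a : AlgGrp.Action G X}
    (h : ∀ (T : Over S) (x y : T ⟶ X), ∃! g : T ⟶ G, lift g x ≫ a.act = y) :
    NonAbH1.IsPseudoTorsorSch a := by
  obtain ⟨g, hg, -⟩ := h (X ⊗ X) (snd X X) (fst X X)
  refine ⟨⟨lift g (snd X X), ?_, ?_⟩⟩
  · have h1 : lift (lift a.act (snd G X) ≫ g) (snd G X) ≫ a.act = a.act := by
      have := congrArg (lift a.act (snd G X) ≫ ·) hg
      simp only [← Category.assoc, comp_lift, lift_snd, lift_fst] at this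
      exact this
    have h2 : lift (fst G X) (snd G X) ≫ a.act = a.act := by simp
    obtain ⟨_, _, hu⟩ := h (G ⊗ X) (snd G X) a.act
    have h3 := (hu _ h1).trans (hu _ h2).symm
    rw [comp_lift, h3, lift_snd, lift_fst_snd]
  · rw [comp_lift, hg, lift_snd, lift_fst_snd]

theorem pseudo_iff {a : AlgGrp.Action G X} : NonAbH1.IsPseudoTorsorSch a ↔
    ∀ (T : Over S) (x y : T ⟶ X), ∃! g : T ⟶ G, lift g x ≫ a.act = y :=
  ⟨fun h _ x y => existsUnique_of_pseudo h x y, pseudo_of_existsUnique⟩

/-- A commutative square which is cartesian on points is cartesian. -/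
theorem isPullback_of_points {C : Type*} [Category* C] {P X Y Z : C} {p : P ⟶ X} {q : P ⟶ Y}
    {f : X ⟶ Z} {g : Y ⟶ Z} (w : p ≫ f = q ≫ g)
    (h : ∀ (T : C) (x : T ⟶ X) (y : T ⟶ Y), x ≫ f = y ≫ g →
      ∃! e : T ⟶ P, e ≫ p = x ∧ e ≫ q = y) : IsPullback p q f g := by
  refine ⟨⟨w⟩, ⟨PullbackCone.IsLimit.mk w (fun s => (h _ s.fst s.snd s.condition).choose)
    (fun s => ?_) (fun s => ?_) (fun s m h1 h2 => ?_)⟩⟩
  · exact (h _ s.fst s.snd s.condition).choose_spec.1.1
  · exact (h _ s.fst s.snd s.condition).choose_spec.1.2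
  · exact (h _ s.fst s.snd s.condition).choose_spec.2 m ⟨h1, h2⟩

/-- Pulling back local triviality along a morphism. -/
theorem locTriv_of_pullback {K : Precoverage Scheme.{u}} [K.IsStableUnderBaseChange]
    {Y Z E F : Scheme.{u}} {p : E ⟶ Z} {φ : E ⟶ F} {σ : Z ⟶ Y} {q : F ⟶ Y}
    (h : IsPullback φ p q σ)
    (hq : NonAbH1.IsLocallyTrivialFor K (Over.mk q)) :
    NonAbH1.IsLocallyTrivialFor K (Over.mk p) := by
  obtain ⟨R, hR, hsec⟩ := hq
  obtain ⟨I, W, g, rfl⟩ := R.exists_eq_ofArrows
  refine ⟨Presieve.ofArrows (fun i => pullback σ (g i)) (fun i => pullback.fst σ (g i)),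
    Precoverage.mem_coverings_of_isPullback g hR σ _ (fun i => pullback.snd σ (g i))
      (fun i => IsPullback.of_hasPullback _ _), ?_⟩
  rintro _ _ ⟨i⟩
  obtain ⟨s, hs⟩ := hsec (g i) ⟨i⟩
  change s ≫ q = g i at hs
  refine ⟨h.lift (pullback.snd σ (g i) ≫ s) (pullback.fst σ (g i)) ?_, ?_⟩
  · rw [Category.assoc, hs, pullback.condition]
  · exact h.lift_snd _ _ _

/-- A morphism from `E` to the unit object, at the level of schemes. -/
theorem toUnit_left_eq (E : Over S) : (toUnit E).left = E.hom := by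
  exact (Category.comp_id (toUnit E).left).symm.trans (Over.w (toUnit E))

/-- Local triviality of the fibre of `π` over a section `σ`. -/
theorem locTriv_fibre {K : Precoverage Scheme.{u}} [K.IsStableUnderBaseChange]
    {E F Q : Over S} {φ : E ⟶ F} {π : F ⟶ Q} {σ : 𝟙_ (Over S) ⟶ Q}
    (h : IsPullback φ (toUnit E) π σ)
    (hq : NonAbH1.IsLocallyTrivialFor K (Over.mk π.left : Over Q.left)) :
    NonAbH1.IsLocallyTrivialFor K E := by
  have h1 : IsPullback φ.left (toUnit E).left π.left σ.left := h.map (Over.forget S)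
  obtain ⟨R, hR, hsec⟩ := locTriv_of_pullback (K := K) h1 hq
  refine ⟨R, hR, fun S' f hf => ?_⟩
  obtain ⟨s, hs⟩ := hsec f hf
  refine ⟨s, ?_⟩
  change s ≫ (toUnit E).left = f at hs
  rwa [toUnit_left_eq] at hs

end K826.Tors
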