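import Groth.Prelude.Def_ChGrp
import Mathlib.AlgebraicGeometry.Sites.Fpqc

/-!
# Descent of morphisms along a locally trivial S-scheme (for a subcanonical topology)
-/

set_option autoImplicit false
universe u

open CategoryTheory CategoryTheory.Limits MonoidalCategory CartesianMonoidalCategory MonObj GrpObj AlgebraicGeometry Opposite

namespace K826.Descend

variable {S : Scheme.{u}} {K : Precoverage Scheme.{u}}

theorem etale_le_fpqc : Scheme.etalePrecoverage.{u} ≤ Scheme.fpqcPrecoverage := by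
  refine le_trans ?_ Scheme.fppfPrecoverage_le_fpqcPrecoverage
  rw [Scheme.etalePrecoverage, Scheme.fppfPrecoverage]
  exact Scheme.precoverage_mono fun X Y f hf => ⟨inferInstance, inferInstance⟩

/-- The sieve of `T.left` of the morphisms over which `X` has a point. -/
def ptSieve (X T : Over S) : Sieve T.left where
  arrows _ r := Nonempty (Over.mk (r ≫ T.hom) ⟶ X)
  downward_closed := by
    rintro Y Z r ⟨x⟩ g
    exact ⟨(Over.homMk g (by simp) : Over.mk ((g ≫ r) ≫ T.hom) ⟶ Over.mk (r ≫ T.hom)) ≫ x⟩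

theorem ptSieve_mem {X : Over S} (hX : NonAbH1.IsLocallyTrivialFor K X) (T : Over S) :
    ptSieve X T ∈ K.toGrothendieck T.left := by
  obtain ⟨R, hR, hsec⟩ := hX
  have h1 := (K.toGrothendieck).pullback_stable T.hom (Precoverage.generate_mem_toGrothendieck hR)
  refine (K.toGrothendieck).superset_covering ?_ h1
  rintro Y r ⟨Z, q, g, hg, hqg⟩
  obtain ⟨s, hs⟩ := hsec g hg
  exact ⟨Over.homMk (q ≫ s) (by simp [hs, hqg])⟩

theorem isSheaf_yoneda (hK : K ≤ Scheme.fpqcPrecoverage) (Z : Scheme.{u}) :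
    Presieve.IsSheaf K.toGrothendieck (yoneda.obj Z) :=
  Presieve.isSheaf_of_le _ (Precoverage.toGrothendieck_mono hK)
    (GrothendieckTopology.Subcanonical.isSheaf_of_isRepresentable (J := Scheme.fpqcTopology) _)

/-- Separatedness: two morphisms `T ⟶ Y` over `S` agreeing on all `T' ⟶ T` with `X(T')` nonempty are equal. -/
theorem hom_ext_of_locTriv (hK : K ≤ Scheme.fpqcPrecoverage) {X : Over S}
    (hX : NonAbH1.IsLocallyTrivialFor K X) {T Y : Over S} {f g : T ⟶ Y}
    (h : ∀ (T' : Over S) (t : T' ⟶ T) (_ : T' ⟶ X), t ≫ f = t ≫ g) : f = g := by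
  apply Over.OverMorphism.ext
  have h1 := (isSheaf_yoneda hK Y.left).isSeparated _ (ptSieve_mem hX T)
  refine h1.ext fun Z r hr => ?_
  obtain ⟨x⟩ := hr
  have := congrArg (fun m => m.left) (h (Over.mk (r ≫ T.hom)) (Over.homMk r) x)
  simpa using this

theorem cancel_fst (hK : K ≤ Scheme.fpqcPrecoverage) {X : Over S}
    (hX : NonAbH1.IsLocallyTrivialFor K X) {T Y : Over S} {f g : T ⟶ Y}
    (h : fst T X ≫ f = fst T X ≫ g) : f = g := by
  refine hom_ext_of_locTriv hK hX fun T' t x => ?_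
  have := congrArg (lift t x ≫ ·) h
  simpa using this

/-- Descent of morphisms along `T ⊗ X ⟶ T` for `X` locally trivial. -/
theorem existsUnique_descend (hK : K ≤ Scheme.fpqcPrecoverage) {X : Over S}
    (hX : NonAbH1.IsLocallyTrivialFor K X) {T Y : Over S} (f : T ⊗ X ⟶ Y)
    (hf : ∀ (T' : Over S) (t : T' ⟶ T) (x x' : T' ⟶ X), lift t x ≫ f = lift t x' ≫ f) :
    ∃! h : T ⟶ Y, fst T X ≫ h = f := by
  have hmem := ptSieve_mem hX T
  have hsh := (isSheaf_yoneda hK Y.left) _ hmem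
  let fam : Presieve.FamilyOfElements (yoneda.obj Y.left) (ptSieve X T).arrows :=
    fun Z r hr => (lift (Over.homMk r : Over.mk (r ≫ T.hom) ⟶ T) hr.some ≫ f).left
  have hfam : ∀ {Z : Scheme.{u}} (r : Z ⟶ T.left) (hr : ptSieve X T r)
      (x : Over.mk (r ≫ T.hom) ⟶ X),
      fam r hr = (lift (Over.homMk r : Over.mk (r ≫ T.hom) ⟶ T) x ≫ f).left := by
    intro Z r hr x
    exact congrArg (fun m => m.left) (hf _ (Over.homMk r) hr.some x)
  have hcomp : fam.Compatible := by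
    rw [Presieve.compatible_iff_sieveCompatible]
    intro Z W r g hr
    let x0 : Over.mk (r ≫ T.hom) ⟶ X := hr.some
    let e : Over.mk ((g ≫ r) ≫ T.hom) ⟶ Over.mk (r ≫ T.hom) := Over.homMk g (by simp)
    let r0 : Over.mk (r ≫ T.hom) ⟶ T := Over.homMk r
    have he : (Over.homMk (g ≫ r) : Over.mk ((g ≫ r) ≫ T.hom) ⟶ T) = e ≫ r0 := by
      ext1
      simp [e, r0]
    rw [hfam (g ≫ r) _ (e ≫ x0), hfam r hr x0, he, ← comp_lift_assoc]
    rfl
  obtain ⟨h0, hh0, -⟩ := hsh fam hcomp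
  have hpt : ∀ (T' : Over S) (t : T' ⟶ T) (x : T' ⟶ X), t.left ≫ h0 = (lift t x ≫ f).left := by
    intro T' t x
    let e : Over.mk (t.left ≫ T.hom) ⟶ T' := Over.homMk (𝟙 _) (by simp)
    have hr : ptSieve X T t.left := ⟨e ≫ x⟩
    have h1 := hh0 t.left hr
    change t.left ≫ h0 = fam t.left hr at h1
    rw [h1, hfam _ hr (e ≫ x)]
    have h2 : (Over.homMk t.left : Over.mk (t.left ≫ T.hom) ⟶ T) = e ≫ t := by
      ext1
      simp [e]
    rw [h2, ← comp_lift, Category.assoc]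
    change 𝟙 _ ≫ (lift t x ≫ f).left = _
    rw [Category.id_comp]
  have hover : h0 ≫ Y.hom = T.hom := by
    refine ((isSheaf_yoneda hK S).isSeparated _ hmem).ext fun Z r hr => ?_
    change r ≫ h0 ≫ Y.hom = r ≫ T.hom
    have h1 := hh0 r hr
    change r ≫ h0 = fam r hr at h1
    rw [← Category.assoc, h1]
    exact Over.w (lift (Over.homMk r : Over.mk (r ≫ T.hom) ⟶ T) hr.some ≫ f)
  let h : T ⟶ Y := Over.homMk h0 hover
  have hpt' : ∀ (T' : Over S) (t : T' ⟶ T) (x : T' ⟶ X), t ≫ h = lift t x ≫ f := by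
    intro T' t x
    ext1
    exact hpt T' t x
  refine ⟨h, ?_, ?_⟩
  · change fst T X ≫ h = f
    rw [hpt' _ (fst T X) (snd T X), lift_fst_snd, Category.id_comp]
  · intro h' hh'
    change fst T X ≫ h' = f at hh'
    refine cancel_fst hK hX ?_
    rw [hh', hpt' _ (fst T X) (snd T X), lift_fst_snd, Category.id_comp]

theorem cancel_toUnit (hK : K ≤ Scheme.fpqcPrecoverage) {X : Over S}
    (hX : NonAbH1.IsLocallyTrivialFor K X) {Y : Over S} {f g : 𝟙_ (Over S) ⟶ Y}
    (h : toUnit X ≫ f = toUnit X ≫ g) : f = g := by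
  refine hom_ext_of_locTriv hK hX fun T' t x => ?_
  have := congrArg (x ≫ ·) h
  simp only [← Category.assoc] at this
  rwa [toUnit_unique (x ≫ toUnit X) t] at this

/-- Descent of morphisms along `X ⟶ S` for `X` locally trivial. -/
theorem existsUnique_descend_unit (hK : K ≤ Scheme.fpqcPrecoverage) {X : Over S}
    (hX : NonAbH1.IsLocallyTrivialFor K X) {Y : Over S} (f : X ⟶ Y)
    (hf : ∀ (T' : Over S) (x x' : T' ⟶ X), x ≫ f = x' ≫ f) :
    ∃! h : 𝟙_ (Over S) ⟶ Y, toUnit X ≫ h = f := by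
  obtain ⟨h, hh, -⟩ := existsUnique_descend hK hX (T := 𝟙_ (Over S)) (snd _ X ≫ f) (by
    intro T' t x x'
    rw [lift_snd_assoc, lift_snd_assoc]
    exact hf T' x x')
  have h1 : toUnit X ≫ h = f := by
    have := congrArg (lift (toUnit X) (𝟙 X) ≫ ·) hh
    simpa using this
  exact ⟨h, h1, fun h' hh' => cancel_toUnit hK hX (hh'.trans h1.symm)⟩

/-- Descent of points: the functor of points of `Y` is a sheaf. `f t x` is given for `t : T' ⟶ T`, `x : T' ⟶ X`. -/
theorem existsUnique_glue (hK : K ≤ Scheme.fpqcPrecoverage) {X : Over S}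
    (hX : NonAbH1.IsLocallyTrivialFor K X) {T Y : Over S}
    (f : ∀ (T' : Over S) (_ : T' ⟶ T) (_ : T' ⟶ X), T' ⟶ Y)
    (hnat : ∀ (T' T'' : Over S) (r : T'' ⟶ T') (t : T' ⟶ T) (x : T' ⟶ X),
      r ≫ f T' t x = f T'' (r ≫ t) (r ≫ x))
    (hf : ∀ (T' : Over S) (t : T' ⟶ T) (x x' : T' ⟶ X), f T' t x = f T' t x') :
    ∃! h : T ⟶ Y, ∀ (T' : Over S) (t : T' ⟶ T) (x : T' ⟶ X), t ≫ h = f T' t x := by
  have key : ∀ (T' : Over S) (t : T' ⟶ T) (x : T' ⟶ X),
      lift t x ≫ f _ (fst T X) (snd T X) = f T' t x := by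
    intro T' t x
    rw [hnat, lift_fst, lift_snd]
  obtain ⟨h, hh, -⟩ := existsUnique_descend hK hX (T := T) (f _ (fst T X) (snd T X)) (by
    intro T' t x x'
    rw [key, key]
    exact hf T' t x x')
  have h1 : ∀ (T' : Over S) (t : T' ⟶ T) (x : T' ⟶ X), t ≫ h = f T' t x := by
    intro T' t x
    have := congrArg (lift t x ≫ ·) hh
    simp only [lift_fst_assoc, key] at this
    exact this
  refine ⟨h, h1, fun h' hh' => ?_⟩
  exact hom_ext_of_locTriv hK hX fun T' t x => by rw [hh' T' t x, h1 T' t x]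

end K826.Descend
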