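import Groth.Agent.Desc.FpqcRefine
import Groth.Prelude.Def_NonAbH2

/-!
# An fpqc cover by one morphism trivialising a locally trivial S-scheme

`exists_cover`: if `P` over `S` is locally trivial for the fpqc precoverage there is a single flat surjective
`f : S' ⟶ S` such that every affine open of `S` is the image of a quasi-compact open of `S'`, with a
lift `S' ⟶ P`.
-/

set_option autoImplicit false
universe u

open CategoryTheory CategoryTheory.Limits AlgebraicGeometry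

namespace K826.TorsCover

variable {S : Scheme.{u}}

theorem exists_affine {P : Over S} (h : NonAbH1.IsLocallyTrivialFor Scheme.fpqcPrecoverage P)
    (V : S.affineOpens) :
    ∃ (n : ℕ) (W : Fin n → Scheme.{u}) (w : ∀ k, W k ⟶ V.1.toScheme) (y : ∀ k, W k ⟶ P.left),
      (∀ k, IsAffine (W k)) ∧ (∀ k, Flat (w k)) ∧ (∀ k, y k ≫ P.hom = w k ≫ V.1.ι) ∧
      ∀ s : V.1.toScheme, ∃ (k : Fin n) (x : W k), w k x = s := by
  obtain ⟨R, hR, hsec⟩ := h
  obtain ⟨I, X, g, rfl⟩ := R.exists_eq_ofArrows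
  have hR' : Presieve.ofArrows (fun i => pullback V.1.ι (g i)) (fun i => pullback.fst V.1.ι (g i)) ∈
      Scheme.fpqcPrecoverage V.1.toScheme :=
    Precoverage.mem_coverings_of_isPullback g hR V.1.ι _ (fun i => pullback.snd V.1.ι (g i))
      (fun i => IsPullback.of_hasPullback _ _)
  have : IsAffine V.1.toScheme := V.2
  obtain ⟨n, W, α, p, h1, h2, h3, h4⟩ := Groth.Agent.Desc.FpqcRefine.exists_refine _ hR'
  have hs := fun i => hsec (g i) ⟨i⟩
  choose s hs using hs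
  refine ⟨n, W, fun k => p k ≫ pullback.fst V.1.ι (g (α k)),
    fun k => p k ≫ pullback.snd V.1.ι (g (α k)) ≫ s (α k), h2, h3, fun k => ?_, h4⟩
  rw [Category.assoc, Category.assoc, Category.assoc, hs, pullback.condition]

theorem exists_cover {P : Over S} (h : NonAbH1.IsLocallyTrivialFor Scheme.fpqcPrecoverage P) :
    ∃ (S' : Scheme.{u}) (f : S' ⟶ S) (_ : Flat f) (_ : Surjective f) (y : S' ⟶ P.left),
      y ≫ P.hom = f ∧ ∀ V : S.Opens, IsAffineOpen V → ∃ W : S'.Opens, IsCompact (W : Set S') ∧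
        f.base '' (W : Set S') = (V : Set S) := by
  choose n W w y h1 h2 h3 h4 using exists_affine h
  let X : (Σ V : S.affineOpens, Fin (n V)) → Scheme.{u} := fun i => W i.1 i.2
  let F : ∀ i, X i ⟶ S := fun i => w i.1 i.2 ≫ i.1.1.ι
  let Y : ∀ i, X i ⟶ P.left := fun i => y i.1 i.2
  have hF : ∀ i, Flat (F i) := fun i => by
    have := h2 i.1 i.2
    infer_instance
  have hι : ∀ i, Sigma.ι X i ≫ Sigma.desc F = F i := fun i => Sigma.ι_desc _ _
  have hflat : Flat (Sigma.desc F) := IsZariskiLocalAtSource.sigmaDesc (P := @Flat) hF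
  have hsurj : Surjective (Sigma.desc F) := by
    apply Surjective.sigmaDesc_of_union_range_eq_univ
    rw [Set.eq_univ_iff_forall]
    intro s
    obtain ⟨_, ⟨V, hV, rfl⟩, hsV, -⟩ :=
      S.isBasis_affineOpens.exists_subset_of_mem_open (Set.mem_univ s) isOpen_univ
    obtain ⟨k, x, hx⟩ := h4 ⟨V, hV⟩ ⟨s, hsV⟩
    refine Set.mem_iUnion.mpr ⟨⟨⟨V, hV⟩, k⟩, ⟨x, ?_⟩⟩
    change (⟨V, hV⟩ : S.affineOpens).1.ι (w ⟨V, hV⟩ k x) = s
    rw [hx]
    rfl
  refine ⟨∐ X, Sigma.desc F, hflat, hsurj, Sigma.desc Y, ?_, fun V hV => ?_⟩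
  · apply Sigma.hom_ext
    intro i
    rw [← Category.assoc, Sigma.ι_desc, Sigma.ι_desc]
    exact h3 i.1 i.2
  · refine ⟨⨆ k : Fin (n ⟨V, hV⟩), (Sigma.ι X ⟨⟨V, hV⟩, k⟩).opensRange, ?_, ?_⟩
    · rw [TopologicalSpace.Opens.coe_iSup]
      refine isCompact_iUnion fun k => ?_
      have : IsAffine (X ⟨⟨V, hV⟩, k⟩) := h1 _ _
      exact isCompact_range (Sigma.ι X ⟨⟨V, hV⟩, k⟩).continuous
    · rw [TopologicalSpace.Opens.coe_iSup, Set.image_iUnion]
      ext s
      simp only [Set.mem_iUnion, Set.mem_image]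
      constructor
      · rintro ⟨k, _, ⟨x, rfl⟩, rfl⟩
        have h5 : (Sigma.desc F).base ((Sigma.ι X ⟨⟨V, hV⟩, k⟩).base x) = F ⟨⟨V, hV⟩, k⟩ x := by
          rw [← hι]
          rfl
        have h6 : F ⟨⟨V, hV⟩, k⟩ x ∈ V := (w ⟨V, hV⟩ k x).2
        rw [← h5] at h6
        exact h6
      · intro hs
        obtain ⟨k, x, hx⟩ := h4 ⟨V, hV⟩ ⟨s, hs⟩
        refine ⟨k, (Sigma.ι X ⟨⟨V, hV⟩, k⟩) x, ⟨x, rfl⟩, ?_⟩
        have h5 : (Sigma.desc F).base ((Sigma.ι X ⟨⟨V, hV⟩, k⟩).base x) = F ⟨⟨V, hV⟩, k⟩ x := by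
          rw [← hι]
          rfl
        refine h5.trans ?_
        change V.ι (w ⟨V, hV⟩ k x) = s
        rw [hx]
        rfl

end K826.TorsCover
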