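import Groth.Agent.PrincBund.K826.Tors
import Groth.Agent.PrincBund.K826.Descend
import Groth.Agent.Etbase.FpqcDescent
import Groth.Agent.RedSub.H658.TorsDiv

/-!
# Torsors over a field
-/

set_option autoImplicit false
universe u

open CategoryTheory CategoryTheory.Limits MonoidalCategory CartesianMonoidalCategory MonObj GrpObj AlgebraicGeometry

namespace K826.TorsField

open Groth.Agent.RedSub.H658.TorsDiv

section general

variable {S : Scheme.{u}} {G P Y : Over S} [GrpObj G] (a : AlgGrp.Action G P)
  (ha : IsIso (lift a.act (snd G P))) (y : Y ⟶ P)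

/-- The trivialisation `G × Y ≅ P × Y` given by a point `y : Y ⟶ P`. -/
noncomputable def trivY : G ⊗ Y ≅ P ⊗ Y where
  hom := lift (lift (fst G Y) (snd G Y ≫ y) ≫ a.act) (snd G Y)
  inv := lift (dv a ha (snd P Y ≫ y) (fst P Y)) (snd P Y)
  hom_inv_id := by
    apply AlgGrp.Action.hom_ext_lift₂
    intro T g t
    rw [comp_lift_assoc, comp_lift_assoc, lift_snd, comp_lift, comp_dv, lift_snd_assoc, lift_snd,
      lift_fst, lift_snd_assoc, lift_fst, Category.comp_id]
    congr 1
    symm
    apply eq_dv
    rfl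
  inv_hom_id := by
    apply AlgGrp.Action.hom_ext_lift₂
    intro T p t
    rw [comp_lift_assoc, lift_snd, comp_dv, lift_snd_assoc, lift_fst, comp_lift, comp_lift_assoc,
      lift_fst, lift_snd_assoc, lift_snd, Category.comp_id]
    congr 1
    exact ac_dv a ha _ _

theorem trivY_snd : (trivY a ha y).hom ≫ snd P Y = snd G Y := lift_snd _ _

include ha in
theorem prop_of_point (Q : MorphismProperty Scheme.{u}) [Q.IsStableUnderBaseChange]
    [Q.DescendsAlong (@Surjective ⊓ @Flat ⊓ @QuasiCompact)] (hG : Q G.hom)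
    (hY : (@Surjective ⊓ @Flat ⊓ @QuasiCompact : MorphismProperty Scheme.{u}) Y.hom)
    (y : Y ⟶ P) : Q P.hom := by
  have h1 : Q (snd G Y).left := MorphismProperty.pullback_snd (P := Q) G.hom Y.hom hG
  have h2 : Q (snd P Y).left := by
    have h3 : (snd G Y).left = (trivY a ha y).hom.left ≫ (snd P Y).left := by
      rw [← Over.comp_left, trivY_snd]
    rw [h3] at h1
    have : IsIso (trivY a ha y).hom.left :=
      inferInstanceAs (IsIso ((Over.forget S).map (trivY a ha y).hom))
    exact (MorphismProperty.cancel_left_of_respectsIso Q _ _).mp h1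
  exact MorphismProperty.of_pullback_snd_of_descendsAlong (P := Q)
    (Q := (@Surjective ⊓ @Flat ⊓ @QuasiCompact : MorphismProperty Scheme.{u})) hY h2

end general

variable {k : Type u} [Field k]

theorem surjective_of_nonempty {Z : Scheme.{u}} [Nonempty Z] (f : Z ⟶ Spec (CommRingCat.of k)) :
    Surjective f := by
  obtain ⟨z⟩ := ‹Nonempty Z›
  exact ⟨fun x => ⟨z, Subsingleton.elim _ _⟩⟩

theorem flat_of_field {Z : Scheme.{u}} (f : Z ⟶ Spec (CommRingCat.of k)) : Flat f := by
  infer_instance

/-- A nonempty quasi-compact scheme over a field is fpqc-locally trivial. -/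
theorem locTriv_of_nonempty (Z : Over (Spec (CommRingCat.of k))) [Nonempty Z.left]
    [QuasiCompact Z.hom] : NonAbH1.IsLocallyTrivialFor Scheme.fpqcPrecoverage Z := by
  have := surjective_of_nonempty Z.hom
  have := flat_of_field Z.hom
  refine ⟨_, Z.hom.singleton_mem_fpqcPrecoverage, ?_⟩
  rintro _ _ ⟨⟩
  exact ⟨𝟙 _, Category.id_comp _⟩

theorem nonempty_of_locTriv {P : Over (Spec (CommRingCat.of k))}
    (h : NonAbH1.IsLocallyTrivialFor Scheme.fpqcPrecoverage P) : Nonempty P.left := by
  obtain ⟨R, hR, hsec⟩ := h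
  obtain ⟨I, X, g, rfl⟩ := R.exists_eq_ofArrows
  have h1 : Presieve.ofArrows X g ∈ Scheme.precoverage @Flat _ := hR.2
  rw [Scheme.ofArrows_mem_precoverage_iff] at h1
  obtain ⟨i, x, -⟩ := h1.1 (IsLocalRing.closedPoint k)
  obtain ⟨s, -⟩ := hsec (g i) ⟨i⟩
  exact ⟨s x⟩

/-- Properties descending along fpqc morphisms are inherited by torsors over a field. -/
theorem prop_of_pseudo {G P : Over (Spec (CommRingCat.of k))} [GrpObj G] (a : AlgGrp.Action G P)
    (ha : NonAbH1.IsPseudoTorsorSch a) [Nonempty P.left]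
    (Q : MorphismProperty Scheme.{u}) [Q.IsStableUnderBaseChange]
    [Q.DescendsAlong (@Surjective ⊓ @Flat ⊓ @QuasiCompact)] (hG : Q G.hom) : Q P.hom := by
  obtain ⟨x⟩ := ‹Nonempty P.left›
  let Y : Over (Spec (CommRingCat.of k)) := Over.mk (P.left.fromSpecResidueField x ≫ P.hom)
  let y : Y ⟶ P := Over.homMk (P.left.fromSpecResidueField x)
  have : Nonempty Y.left := inferInstanceAs (Nonempty (Spec (P.left.residueField x)))
  have h1 : Surjective Y.hom := surjective_of_nonempty _
  have h2 : Flat Y.hom := flat_of_field _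
  have h3 : QuasiCompact Y.hom := by
    change QuasiCompact (P.left.fromSpecResidueField x ≫ P.hom)
    infer_instance
  exact prop_of_point a ha Q hG ⟨⟨h1, h2⟩, h3⟩ y

theorem isAffine_of_torsor {G P : Over (Spec (CommRingCat.of k))} [GrpObj G] [IsAffine G.left]
    (a : AlgGrp.Action G P) (ha : NonAbH1.IsPseudoTorsorSch a) [Nonempty P.left] :
    IsAffine P.left := by
  have := Groth.Agent.Etbase.FpqcDescent.descendsAlong_isAffineHom.{u}
  have h1 : IsAffineHom P.hom := prop_of_pseudo a ha @IsAffineHom inferInstance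
  exact isAffine_of_isAffineHom P.hom

theorem locallyOfFiniteType_of_torsor {G P : Over (Spec (CommRingCat.of k))} [GrpObj G]
    (a : AlgGrp.Action G P) (ha : NonAbH1.IsPseudoTorsorSch a) [Nonempty P.left]
    [LocallyOfFiniteType G.hom] : LocallyOfFiniteType P.hom :=
  prop_of_pseudo a ha @LocallyOfFiniteType inferInstance

end K826.TorsField
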