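import Groth.Agent.PrincBund.K826.PushRep

/-!
# The push forward torsor
-/

set_option autoImplicit false
universe u

open CategoryTheory CategoryTheory.Limits MonoidalCategory CartesianMonoidalCategory MonObj GrpObj AlgebraicGeometry Opposite

namespace K826.PushTors

open K826.FpqcSheaf K826.Push K826.PushRep Groth.Agent.RedSub.H658.TorsDiv

variable {X : Scheme.{u}} {J J' P : Over X} [GrpObj J] [GrpObj J'] (v : J ⟶ J')
  (a : AlgGrp.Action J P)

/-- left translation of an equivariant map by a point of `J'` -/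
noncomputable def tr {T : Over X} (j : T ⟶ J') (s : (pushF v a).obj (op T)) :
    (pushF v a).obj (op T) :=
  ⟨(fst T P ≫ j) * s.1, by
    intro T' t g p
    rw [comp_mul, comp_mul, lift_fst_assoc, lift_fst_assoc, s.2, _root_.mul_assoc]⟩

theorem tr_val {T : Over X} (j : T ⟶ J') (s : (pushF v a).obj (op T)) :
    (tr v a j s).1 = (fst T P ≫ j) * s.1 := rfl

theorem map_tr {T T' : Over X} (f : T' ⟶ T) (j : T ⟶ J') (s : (pushF v a).obj (op T)) :
    (pushF v a).map f.op (tr v a j s) = tr v a (f ≫ j) ((pushF v a).map f.op s) := by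
  apply Subtype.ext
  rw [pushF_map_val, tr_val, tr_val, pushF_map_val, comp_mul, whiskerRight_fst_assoc]

theorem one_tr {T : Over X} (s : (pushF v a).obj (op T)) : tr v a 1 s = s := by
  apply Subtype.ext
  rw [tr_val, comp_one, _root_.one_mul]

theorem mul_tr {T : Over X} (j j' : T ⟶ J') (s : (pushF v a).obj (op T)) :
    tr v a (j * j') s = tr v a j (tr v a j' s) := by
  apply Subtype.ext
  rw [tr_val, tr_val, tr_val, comp_mul, _root_.mul_assoc]

variable {E : Over X} (r : (pushF v a).RepresentableBy E)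

/-- translation on the representing object, on points -/
noncomputable def trE {T : Over X} (j : T ⟶ J') (e : T ⟶ E) : T ⟶ E :=
  r.homEquiv.symm (tr v a j (r.homEquiv e))

theorem homEquiv_trE {T : Over X} (j : T ⟶ J') (e : T ⟶ E) :
    r.homEquiv (trE v a r j e) = tr v a j (r.homEquiv e) := by
  rw [trE, Equiv.apply_symm_apply]

theorem comp_trE {T T' : Over X} (f : T' ⟶ T) (j : T ⟶ J') (e : T ⟶ E) :
    f ≫ trE v a r j e = trE v a r (f ≫ j) (f ≫ e) := by
  apply r.homEquiv.injective
  rw [r.homEquiv_comp, homEquiv_trE, homEquiv_trE, map_tr, r.homEquiv_comp]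

/-- The action of `J'` on the representing object. -/
noncomputable def actE : AlgGrp.Action J' E where
  act := trE v a r (fst J' E) (snd J' E)
  one_act := by
    apply AlgGrp.Action.hom_ext_lift₂
    intro T u e
    have hu : u ≫ η[J'] = 1 := by rw [Hom.one_def, toUnit_unique (toUnit T) u]
    rw [lift_whiskerRight_assoc, comp_trE, lift_fst, lift_snd, hu, leftUnitor_hom, lift_snd]
    apply r.homEquiv.injective
    rw [homEquiv_trE, one_tr]
  mul_act := by
    apply AlgGrp.Action.hom_ext_lift₃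
    intro T g h e
    rw [lift_whiskerRight_assoc, ← Hom.mul_def, comp_trE, lift_fst, lift_snd,
      lift_lift_associator_hom_assoc, lift_whiskerLeft_assoc, comp_trE, comp_trE,
      lift_fst, lift_snd, lift_fst, lift_snd]
    apply r.homEquiv.injective
    rw [homEquiv_trE, homEquiv_trE, homEquiv_trE, mul_tr]

theorem lift_actE {T : Over X} (j : T ⟶ J') (e : T ⟶ E) :
    lift j e ≫ (actE v a r).act = trE v a r j e := by
  change lift j e ≫ trE v a r (fst J' E) (snd J' E) = _
  rw [comp_trE, lift_fst, lift_snd]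

variable (ha : IsIso (lift a.act (snd J P)))
  (hl : NonAbH1.IsLocallyTrivialFor Scheme.fpqcPrecoverage P)

include ha hl in
theorem pseudo_actE [IsMonHom v] : NonAbH1.IsPseudoTorsorSch (actE v a r) := by
  apply K826.Tors.pseudo_of_existsUnique
  intro T e e'
  let s := r.homEquiv e
  let s' := r.homEquiv e'
  have hind : ∀ (T' : Over X) (t : T' ⟶ T) (p p' : T' ⟶ P),
      lift t p ≫ (s'.1 * s.1⁻¹) = lift t p' ≫ (s'.1 * s.1⁻¹) := by
    intro T' t p p'
    rw [comp_mul, comp_mul, comp_inv, comp_inv, Eqv.lift_eq v a ha s.2 t p p',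
      Eqv.lift_eq v a ha s'.2 t p p', _root_.mul_inv_rev, _root_.inv_inv]
    group
  obtain ⟨j, hj, hu⟩ := K826.Descend.existsUnique_descend le_rfl hl (s'.1 * s.1⁻¹) hind
  replace hj : fst T P ≫ j = s'.1 * s.1⁻¹ := hj
  refine ⟨j, ?_, fun j' hj' => hu j' ?_⟩
  · change lift j e ≫ (actE v a r).act = e'
    rw [lift_actE]
    apply r.homEquiv.injective
    rw [homEquiv_trE]
    apply Subtype.ext
    rw [tr_val, hj]
    exact inv_mul_cancel_right _ _
  · change lift j' e ≫ (actE v a r).act = e' at hj'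
    rw [lift_actE] at hj'
    have h1 := congrArg r.homEquiv hj'
    rw [homEquiv_trE] at h1
    have h2 := congrArg Subtype.val h1
    rw [tr_val] at h2
    change fst T P ≫ j' = s'.1 * s.1⁻¹
    exact eq_mul_inv_of_mul_eq h2

/-- The universal equivariant map `P ⟶ E`. -/
noncomputable def qE [IsMonHom v] : P ⟶ E :=
  r.homEquiv.symm ⟨mkS v a ha (𝟙 P) 1, eqv_mkS v a ha _ _⟩

theorem homEquiv_comp_qE [IsMonHom v] {T : Over X} (p0 : T ⟶ P) :
    (r.homEquiv (p0 ≫ qE v a r ha)).1 = mkS v a ha p0 1 := by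
  rw [r.homEquiv_comp, qE, Equiv.apply_symm_apply, pushF_map_val]
  apply AlgGrp.Action.hom_ext_lift₂
  intro T' t p
  rw [lift_whiskerRight_assoc, lift_mkS, lift_mkS, comp_one, comp_one, Category.comp_id]

theorem act_qE [IsMonHom v] : a.act ≫ qE v a r ha =
    lift (fst J P ≫ v) (snd J P ≫ qE v a r ha) ≫ (actE v a r).act := by
  apply AlgGrp.Action.hom_ext_lift₂
  intro T g p0
  rw [comp_lift_assoc, lift_actE]
  apply r.homEquiv.injective
  rw [homEquiv_trE]
  apply Subtype.ext
  rw [tr_val, ← Category.assoc, homEquiv_comp_qE, lift_snd_assoc, homEquiv_comp_qE, lift_fst_assoc]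
  apply AlgGrp.Action.hom_ext_lift₂
  intro T' t p
  rw [lift_mkS, comp_mul, lift_mkS, comp_one, _root_.one_mul, _root_.one_mul, lift_fst_assoc]
  have h1 : dv a ha (t ≫ p0) p = dv a ha (t ≫ lift g p0 ≫ a.act) p * (t ≫ g) := by
    symm
    apply eq_dv
    rw [mul_ac]
    have h2 : ac a (t ≫ g) (t ≫ p0) = t ≫ lift g p0 ≫ a.act := by
      rw [ac, comp_lift_assoc]
    rw [h2, ac_dv]
  rw [h1, MonObj.mul_comp, _root_.mul_inv_rev, Category.assoc, mul_inv_cancel_left]

end K826.PushTors
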