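import Groth.Prelude.Def_NonAbH2
import Groth.Prelude.Def_Red
import Mathlib.AlgebraicGeometry.Morphisms.FlatDescent
import Mathlib.AlgebraicGeometry.Sites.Fpqc

/-!
# Base change of pseudo-torsors and local triviality along fpqc morphisms
-/

set_option autoImplicit false
universe u

open CategoryTheory CategoryTheory.Limits MonoidalCategory CartesianMonoidalCategory MonObj GrpObj AlgebraicGeometry

namespace K826.BcTors

variable {S S' : Scheme.{u}} (t : S' ⟶ S)

theorem isPullback_map_left {X Y : Over S} (f : X ⟶ Y) :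
    IsPullback ((Over.pullback t).map f).left (pullback.fst X.hom t) (pullback.fst Y.hom t)
      f.left := by
  have h1 : IsPullback (pullback.snd Y.hom t) (pullback.fst Y.hom t) t Y.hom :=
    (IsPullback.of_hasPullback _ _).flip
  have h2 : IsPullback (((Over.pullback t).map f).left ≫ pullback.snd Y.hom t)
      (pullback.fst X.hom t) t (f.left ≫ Y.hom) := by
    have h3 : ((Over.pullback t).map f).left ≫ pullback.snd Y.hom t = pullback.snd X.hom t :=
      Over.w ((Over.pullback t).map f)
    rw [h3, Over.w f]
    exact (IsPullback.of_hasPullback _ _).flip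
  have h4 : ((Over.pullback t).map f).left ≫ pullback.fst Y.hom t =
      pullback.fst X.hom t ≫ f.left := by
    change pullback.lift (pullback.fst X.hom t ≫ f.left) (pullback.snd X.hom t) _ ≫ _ = _
    exact pullback.lift_fst _ _ _
  exact IsPullback.of_right h2 h4 h1

/-- Being an isomorphism can be tested after an fpqc base change. -/
theorem isIso_of_isIso_map [Flat t] [Surjective t] [QuasiCompact t] {X Y : Over S} (f : X ⟶ Y)
    [IsIso ((Over.pullback t).map f)] : IsIso f := by
  have h1 : IsIso ((Over.pullback t).map f).left :=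
    inferInstanceAs (IsIso ((Over.forget S').map ((Over.pullback t).map f)))
  have h2 : (@Surjective ⊓ @Flat ⊓ @QuasiCompact : MorphismProperty Scheme.{u})
      (pullback.fst Y.hom t) := ⟨⟨inferInstance, inferInstance⟩, inferInstance⟩
  have h3 : IsIso f.left :=
    MorphismProperty.of_isPullback_of_descendsAlong
      (P := MorphismProperty.isomorphisms Scheme.{u})
      (Q := (@Surjective ⊓ @Flat ⊓ @QuasiCompact : MorphismProperty Scheme.{u}))
      (isPullback_map_left t f) h2 h1
  have h4 : IsIso ((Over.forget S).map f) := h3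
  exact isIso_of_reflects_iso f (Over.forget S)

/-- For an action `a'` on the base change induced by `a`, the shear map of `a'`. -/
theorem isPseudoTorsorSch_bc_iff {J P : Over S} [GrpObj J] (a : AlgGrp.Action J P)
    (a' : AlgGrp.Action (Red.bc t J) (Red.bc t P))
    (ha' : Functor.LaxMonoidal.μ (Over.pullback t) J P ≫ (Over.pullback t).map a.act = a'.act) :
    NonAbH1.IsPseudoTorsorSch a' ↔ IsIso ((Over.pullback t).map (lift a.act (snd J P))) := by
  have h : lift a'.act (snd ((Over.pullback t).obj J) ((Over.pullback t).obj P)) =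
      Functor.LaxMonoidal.μ (Over.pullback t) J P ≫ (Over.pullback t).map (lift a.act (snd J P)) ≫
        Functor.OplaxMonoidal.δ (Over.pullback t) P P := by
    rw [Functor.OplaxMonoidal.lift_δ, comp_lift, ha']
    congr 1
    rw [Functor.Monoidal.μ_snd]
  have h1 : IsIso (Functor.LaxMonoidal.μ (Over.pullback t) J P) := inferInstance
  have h2 : IsIso (Functor.OplaxMonoidal.δ (Over.pullback t) P P) := inferInstance
  change IsIso (lift a'.act (snd ((Over.pullback t).obj J) ((Over.pullback t).obj P))) ↔ _
  rw [h]
  constructor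
  · intro h3
    have h4 : IsIso ((Over.pullback t).map (lift a.act (snd J P)) ≫
        Functor.OplaxMonoidal.δ (Over.pullback t) P P) := IsIso.of_isIso_comp_left
          (Functor.LaxMonoidal.μ (Over.pullback t) J P) _
    exact IsIso.of_isIso_comp_right _ (Functor.OplaxMonoidal.δ (Over.pullback t) P P)
  · intro h3
    infer_instance

/-- Local triviality of the base change from that of `P`. -/
theorem isLocallyTrivialFor_bc {K : Precoverage Scheme.{u}} [K.IsStableUnderBaseChange]
    {P : Over S} (h : NonAbH1.IsLocallyTrivialFor K P) :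
    NonAbH1.IsLocallyTrivialFor K (Red.bc t P) := by
  obtain ⟨R, hR, hsec⟩ := h
  obtain ⟨I, W, g, rfl⟩ := R.exists_eq_ofArrows
  refine ⟨Presieve.ofArrows (fun i => pullback t (g i)) (fun i => pullback.fst t (g i)),
    Precoverage.mem_coverings_of_isPullback g hR t _ (fun i => pullback.snd t (g i))
      (fun i => IsPullback.of_hasPullback _ _), ?_⟩
  rintro _ _ ⟨i⟩
  obtain ⟨s, hs⟩ := hsec (g i) ⟨i⟩
  refine ⟨pullback.lift (pullback.snd t (g i) ≫ s) (pullback.fst t (g i)) ?_, ?_⟩
  · rw [Category.assoc, hs, pullback.condition]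
  · exact pullback.lift_snd _ _ _

/-- Local triviality from that of the base change along a covering morphism. -/
theorem isLocallyTrivialFor_of_bc {K : Precoverage Scheme.{u}} [K.IsStableUnderComposition]
    (ht : Presieve.singleton t ∈ K S)
    {P : Over S} (h : NonAbH1.IsLocallyTrivialFor K (Red.bc t P)) :
    NonAbH1.IsLocallyTrivialFor K P := by
  obtain ⟨R, hR, hsec⟩ := h
  obtain ⟨I, W, g, rfl⟩ := R.exists_eq_ofArrows
  have ht' : Presieve.ofArrows (fun _ : PUnit.{1} => S') (fun _ => t) ∈ K S := by
    rwa [Presieve.ofArrows_pUnit]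
  refine ⟨_, Precoverage.comp_mem_coverings (fun _ : PUnit.{1} => t) ht'
    (σ := fun _ => I) (fun _ j => g j) (fun _ => hR), ?_⟩
  rintro _ _ ⟨⟨_, i⟩⟩
  obtain ⟨s, hs⟩ := hsec (g i) ⟨i⟩
  refine ⟨s ≫ pullback.fst P.hom t, ?_⟩
  change s ≫ pullback.snd P.hom t = g i at hs
  rw [Category.assoc, pullback.condition, ← Category.assoc, hs]

/-- Local triviality is invariant under isomorphism / can be transported along a morphism. -/
theorem isLocallyTrivialFor_of_hom {K : Precoverage Scheme.{u}} {P P' : Over S} (f : P ⟶ P')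
    (h : NonAbH1.IsLocallyTrivialFor K P) : NonAbH1.IsLocallyTrivialFor K P' := by
  obtain ⟨R, hR, hsec⟩ := h
  refine ⟨R, hR, fun S' g hg => ?_⟩
  obtain ⟨s, hs⟩ := hsec g hg
  exact ⟨s ≫ f.left, by rw [Category.assoc, Over.w f, hs]⟩

end K826.BcTors
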