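import Groth.Agent.LoccohA.OmPoly
import Mathlib.LinearAlgebra.TensorProduct.Basis

/-!
# Global functions on `X ×_k Spec R` for `X` quasi-compact over a field
-/

set_option autoImplicit false
universe u

open CategoryTheory AlgebraicGeometry TopologicalSpace Opposite TensorProduct

namespace K826.SecTensor

open Groth.Agent.LoccohA

variable {k R : Type u} [Field k] [CommRing R] [Algebra k R] {X Y : Scheme.{u}}
    (f : X ⟶ Spec (CommRingCat.of k)) (p : Y ⟶ X) (q : Y ⟶ Spec (CommRingCat.of R))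

/-- Restriction of sections. -/
abbrev rs (X : Scheme.{u}) {V W : X.Opens} (h : W ≤ V) : Γ(X, V) →+* Γ(X, W) :=
  (X.presheaf.map (homOfLE h).op).hom

/-- Constants. -/
noncomputable def cR (V : X.Opens) : R →+* Γ(Y, p ⁻¹ᵁ V) :=
  ((Scheme.ΓSpecIso (CommRingCat.of R)).inv ≫ q.appTop ≫
        Y.presheaf.map (homOfLE le_top : p ⁻¹ᵁ V ⟶ ⊤).op).hom

theorem cR_res {V W : X.Opens} (h : W ≤ V) (r : R) :
    rs Y (p.preimage_mono h) (cR p q V r) = cR p q W r := by
  rw [cR, cR]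
  simp only [rs, CommRingCat.hom_comp, RingHom.comp_apply]
  rw [← CommRingCat.comp_apply, ← Functor.map_comp]
  rfl

theorem app_res {V W : X.Opens} (h : W ≤ V) (m : Γ(X, V)) :
    rs Y (p.preimage_mono h) ((p.app V).hom m) = (p.app W).hom (rs X h m) := by
  have := p.naturality (homOfLE h).op
  exact (congrArg (fun φ => φ.hom m) this).symm

variable {ι : Type*} (β : Module.Basis ι k R)

/-- `Σ β_i ⊗ m_i` -/
noncomputable def Θ (V : X.Opens) (x : ι →₀ Γ(X, V)) : Γ(Y, p ⁻¹ᵁ V) :=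
  x.sum fun i m => cR p q V (β i) * (p.app V).hom m

theorem Θ_res {V W : X.Opens} (h : W ≤ V) (x : ι →₀ Γ(X, V)) :
    rs Y (p.preimage_mono h) (Θ p q β V x) = Θ p q β W (x.mapRange (rs X h) (map_zero _)) := by
  classical
  rw [Θ, Θ, Finsupp.sum_mapRange_index (by simp), Finsupp.sum, map_sum, Finsupp.sum]
  refine Finset.sum_congr rfl fun i _ => ?_
  rw [map_mul, cR_res p q h, app_res p h]

variable (H : IsPullback p q f (Spec.map (CommRingCat.ofHom (algebraMap k R))))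

include H in
theorem bij_affine {V : X.Opens} (hV : IsAffineOpen V) : Function.Bijective (Θ p q β V) := by
  have h1 := OmPoly.isPushout f p q H hV
  let i1 : Algebra Γ(X, V) Γ(Y, p ⁻¹ᵁ V) := (p.app V).hom.toAlgebra
  let i2 : Algebra k Γ(X, V) := ((Scheme.ΓSpecIso (CommRingCat.of k)).inv ≫ f.appTop ≫
    X.presheaf.map (homOfLE le_top : V ⟶ ⊤).op).hom.toAlgebra
  let i3 : Algebra R Γ(Y, p ⁻¹ᵁ V) :=
    ((Scheme.ΓSpecIso (CommRingCat.of R)).inv ≫ q.appTop ≫
        Y.presheaf.map (homOfLE le_top : p ⁻¹ᵁ V ⟶ ⊤).op).hom.toAlgebra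
  let i4 : Algebra k Γ(Y, p ⁻¹ᵁ V) := ((algebraMap R Γ(Y, p ⁻¹ᵁ V)).comp
    (algebraMap k R)).toAlgebra
  have i5 : IsScalarTower k R Γ(Y, p ⁻¹ᵁ V) := IsScalarTower.of_algebraMap_eq (fun _ => rfl)
  have i6 : IsScalarTower k Γ(X, V) Γ(Y, p ⁻¹ᵁ V) := IsScalarTower.of_algebraMap_eq (fun a =>
    congr($(h1.w) a))
  have h2 : Algebra.IsPushout k R Γ(X, V) Γ(Y, p ⁻¹ᵁ V) :=
    CommRingCat.isPushout_iff_isPushout.mp h1
  exact OmPoly.core _ h2.out β

theorem isBasis_affine_le (V : X.Opens) :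
    V ≤ ⨆ W : {W : X.Opens // IsAffineOpen W ∧ W ≤ V}, W.1 := by
  intro x hx
  obtain ⟨_, ⟨W, hW, rfl⟩, hxW, hWV⟩ := X.isBasis_affineOpens.exists_subset_of_mem_open hx V.2
  rw [TopologicalSpace.Opens.mem_iSup]
  exact ⟨⟨W, hW, hWV⟩, hxW⟩

include H in
theorem inj (V : X.Opens) : Function.Injective (Θ p q β V) := by
  intro x y hxy
  ext i
  refine X.sheaf.eq_of_locally_eq' (fun W : {W : X.Opens // IsAffineOpen W ∧ W ≤ V} => W.1) V
    (fun W => homOfLE W.2.2) (isBasis_affine_le V) _ _ fun W => ?_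
  have h1 := congrArg (rs Y (p.preimage_mono W.2.2)) hxy
  rw [Θ_res, Θ_res] at h1
  have h2 := (bij_affine f p q β H W.2.1).1 h1
  exact DFunLike.congr_fun h2 i

include H in
theorem surj_top [CompactSpace X] : Function.Surjective (Θ p q β ⊤) := by
  classical
  intro s
  let 𝒰 := X.affineCover.finiteSubcover
  have hfin : Finite 𝒰.I₀ := inferInstance
  have : Fintype 𝒰.I₀ := Fintype.ofFinite _
  let U : 𝒰.I₀ → X.Opens := fun i => (𝒰.f i).opensRange
  have hU : ∀ i, IsAffineOpen (U i) := fun i => isAffineOpen_opensRange _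
  have hUtop : ⊤ ≤ iSup U := by
    rw [𝒰.iSup_opensRange]
  have hex : ∀ i, ∃ x : ι →₀ Γ(X, U i), Θ p q β (U i) x = rs Y (p.preimage_mono (le_top : U i ≤ ⊤)) s :=
    fun i => (bij_affine f p q β H (hU i)).2 _
  choose x hx using hex
  have hcompat : ∀ j : ι, TopCat.Presheaf.IsCompatible X.sheaf.1 U (fun i => x i j) := by
    intro j a b
    have h1 : (x a).mapRange (rs X (inf_le_left : U a ⊓ U b ≤ U a)) (map_zero _) =
        (x b).mapRange (rs X (inf_le_right : U a ⊓ U b ≤ U b)) (map_zero _) := by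
      apply inj f p q β H
      rw [← Θ_res, ← Θ_res, hx, hx]
      simp only [rs]
      rw [← CommRingCat.comp_apply, ← CommRingCat.comp_apply, ← Functor.map_comp, ← Functor.map_comp]
      rfl
    exact DFunLike.congr_fun h1 j
  have hglue : ∀ j : ι, ∃ t : Γ(X, ⊤), ∀ i, rs X (le_top : U i ≤ ⊤) t = x i j := fun j => by
    obtain ⟨t, ht, -⟩ := X.sheaf.existsUnique_gluing' U ⊤ (fun i => homOfLE le_top) hUtop
      (fun i => x i j) (hcompat j)
    exact ⟨t, ht⟩
  choose t ht using hglue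
  let S : Finset ι := Finset.univ.biUnion fun i => (x i).support
  have hsupp : ∀ j, t j ≠ 0 → j ∈ S := by
    intro j hj
    by_contra hjS
    apply hj
    refine X.sheaf.eq_of_locally_eq' U ⊤ (fun i => homOfLE le_top) hUtop _ _ fun i => ?_
    refine (ht j i).trans ?_
    have : x i j = 0 := by
      rw [← Finsupp.notMem_support_iff]
      intro h
      exact hjS (Finset.mem_biUnion.2 ⟨i, Finset.mem_univ _, h⟩)
    rw [this]
    exact (map_zero (rs X (le_top : U i ≤ ⊤))).symm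
  refine ⟨Finsupp.onFinset S t hsupp, ?_⟩
  refine Y.sheaf.eq_of_locally_eq' (fun i => p ⁻¹ᵁ (U i)) _
    (fun i => homOfLE (p.preimage_mono le_top)) ?_ _ _ fun i => ?_
  · rw [← Scheme.Hom.preimage_iSup]
    exact p.preimage_mono hUtop
  · have h1 := Θ_res p q β (le_top : U i ≤ ⊤) (Finsupp.onFinset S t hsupp)
    refine h1.trans ?_
    refine Eq.trans ?_ (hx i)
    congr 1
    ext j
    exact ht j i

end K826.SecTensor
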