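import Groth.Agent.Books.AffBridge
import Groth.Agent.PrincBund.K826.SecTensor

/-!
# Morphisms over `Spec k` to affine schemes, and functions on `X × Spec B`
-/

set_option autoImplicit false
universe u

open CategoryTheory AlgebraicGeometry TopologicalSpace Opposite TensorProduct
open MonoidalCategory CartesianMonoidalCategory

namespace K826.AffHom

open Groth.Agent.Books.AffBridge

section scheme

variable {T T' : Scheme.{u}} {E F : Type u} [CommRing E] [CommRing F]

/-- Pullback of functions. -/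
noncomputable def gl (g : T ⟶ Spec (CommRingCat.of E)) : E →+* Γ(T, ⊤) :=
  g.appTop.hom.comp (Scheme.ΓSpecIso (CommRingCat.of E)).inv.hom

theorem ofHom_gl (g : T ⟶ Spec (CommRingCat.of E)) :
    CommRingCat.ofHom (gl g) = (Scheme.ΓSpecIso (CommRingCat.of E)).inv ≫ g.appTop := rfl

theorem gl_comp (h : T' ⟶ T) (g : T ⟶ Spec (CommRingCat.of E)) : gl (h ≫ g) = h.appTop.hom.comp (gl g) := by
  rw [gl, gl, Scheme.Hom.comp_appTop, CommRingCat.hom_comp, RingHom.comp_assoc]

theorem gl_map (g : T ⟶ Spec (CommRingCat.of E)) (φ : F →+* E) :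
    gl (g ≫ Spec.map (CommRingCat.ofHom φ)) = (gl g).comp φ := by
  have h1 : CommRingCat.ofHom (gl (g ≫ Spec.map (CommRingCat.ofHom φ))) =
      CommRingCat.ofHom φ ≫ CommRingCat.ofHom (gl g) := by
    rw [ofHom_gl, ofHom_gl, Scheme.Hom.comp_appTop, ← Category.assoc, ← Scheme.ΓSpecIso_inv_naturality,
      Category.assoc]
  exact congrArg (fun f => f.hom) h1

theorem gl_injective : Function.Injective (gl : (T ⟶ Spec (CommRingCat.of E)) → _) := by
  intro g g' h
  apply ext_of_isAffine
  rw [← cancel_epi (Scheme.ΓSpecIso (CommRingCat.of E)).inv, ← ofHom_gl, ← ofHom_gl, h]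

theorem exists_gl (φ : E →+* Γ(T, ⊤)) : ∃ g : T ⟶ Spec (CommRingCat.of E), gl g = φ := by
  refine ⟨T.toSpecΓ ≫ Spec.map (CommRingCat.ofHom φ), ?_⟩
  have h1 : CommRingCat.ofHom (gl (T.toSpecΓ ≫ Spec.map (CommRingCat.ofHom φ))) = CommRingCat.ofHom φ := by
    rw [ofHom_gl, Scheme.Hom.comp_appTop, ← Category.assoc, ← Scheme.ΓSpecIso_inv_naturality, Category.assoc,
      Scheme.toSpecΓ_appTop, Iso.inv_hom_id]
    exact Category.comp_id _
  exact congrArg (fun f => f.hom) h1

end scheme

section basic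

variable {k : Type u} [CommRing k]

/-- Constants. -/
noncomputable def str (T : Over (Spec (CommRingCat.of k))) : k →+* Γ(T.left, ⊤) := gl T.hom

variable {E F : Type u} [CommRing E] [Algebra k E] [CommRing F] [Algebra k F]

/-- Pullback of functions. -/
noncomputable def glob {T : Over (Spec (CommRingCat.of k))} (g : T ⟶ SpecOver k E) : E →+* Γ(T.left, ⊤) :=
  gl (E := E) g.left

theorem glob_comp {T T' : Over (Spec (CommRingCat.of k))} (h : T' ⟶ T) (g : T ⟶ SpecOver k E) :
    glob (h ≫ g) = h.left.appTop.hom.comp (glob g) :=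
  gl_comp h.left g.left

theorem glob_specMap {T : Over (Spec (CommRingCat.of k))} (g : T ⟶ SpecOver k E) (φ : F →ₐ[k] E) :
    glob (g ≫ specMap k φ) = (glob g).comp φ.toRingHom :=
  gl_map (E := E) g.left φ.toRingHom

theorem str_comp {T T' : Over (Spec (CommRingCat.of k))} (h : T' ⟶ T) :
    h.left.appTop.hom.comp (str T) = str T' := by
  rw [str, str, ← gl_comp, Over.w]

theorem glob_algebraMap {T : Over (Spec (CommRingCat.of k))} (g : T ⟶ SpecOver k E) :
    (glob g).comp (algebraMap k E) = str T := by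
  have h1 : (g.left : T.left ⟶ Spec (CommRingCat.of E)) ≫ Spec.map (CommRingCat.ofHom (algebraMap k E)) = T.hom :=
    Over.w g
  exact (gl_map (E := E) g.left (algebraMap k E)).symm.trans (congrArg gl h1)

theorem glob_injective {T : Over (Spec (CommRingCat.of k))} :
    Function.Injective (glob : (T ⟶ SpecOver k E) → _) := by
  intro g g' h
  apply Over.OverMorphism.ext
  exact gl_injective (E := E) h

theorem exists_glob {T : Over (Spec (CommRingCat.of k))} (φ : E →+* Γ(T.left, ⊤))
    (hφ : φ.comp (algebraMap k E) = str T) : ∃ g : T ⟶ SpecOver k E, glob g = φ := by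
  obtain ⟨g₀, hg₀⟩ := exists_gl φ
  refine ⟨Over.homMk g₀ ?_, hg₀⟩
  apply gl_injective (E := k)
  change gl (g₀ ≫ Spec.map (CommRingCat.ofHom (algebraMap k E))) = str T
  rw [gl_map, hg₀, hφ]

end basic

theorem cR_top {X Y : Scheme.{u}} {R : Type u} [CommRing R] (p : Y ⟶ X) (q : Y ⟶ Spec (CommRingCat.of R))
    (r : R) : SecTensor.cR p q ⊤ r = gl q r := by
  have h3 : (homOfLE le_top : p ⁻¹ᵁ ⊤ ⟶ ⊤) = 𝟙 _ := rfl
  have h4 : (Scheme.ΓSpecIso (CommRingCat.of R)).inv ≫ q.appTop ≫
        Y.presheaf.map (homOfLE le_top : p ⁻¹ᵁ ⊤ ⟶ ⊤).op = CommRingCat.ofHom (gl q) := by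
    refine (congrArg (fun z => (Scheme.ΓSpecIso (CommRingCat.of R)).inv ≫ q.appTop ≫ z)
      (Y.presheaf.map_id (op (p ⁻¹ᵁ ⊤)))).trans ?_
    rw [ofHom_gl]
    exact congrArg ((Scheme.ΓSpecIso (CommRingCat.of R)).inv ≫ ·) (Category.comp_id _)
  exact congrArg (fun f => f.hom r) h4

section field

variable {k : Type u} [Field k] (X : Over (Spec (CommRingCat.of k))) (B : Type u) [CommRing B] [Algebra k B]

/-- The algebra of functions. -/
@[reducible] noncomputable def algΓ (T : Over (Spec (CommRingCat.of k))) : Algebra k Γ(T.left, ⊤) :=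
  (str T).toAlgebra

/-- The comparison `B ⊗ Γ(X) → Γ(X × Spec B)`. -/
noncomputable def θ (X : Over (Spec (CommRingCat.of k))) (B : Type u) [CommRing B] [Algebra k B] :
    letI := algΓ X
    B ⊗[k] Γ(X.left, ⊤) →+* Γ((X ⊗ SpecOver k B).left, ⊤) :=
  letI := algΓ X
  letI := algΓ (X ⊗ SpecOver k B)
  (Algebra.TensorProduct.productMap
    ({ glob (snd X (SpecOver k B)) with
       commutes' := fun r => congrArg (fun f => f r) (glob_algebraMap (snd X (SpecOver k B))) } :
       B →ₐ[k] Γ((X ⊗ SpecOver k B).left, ⊤))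
    ({ (fst X (SpecOver k B)).left.appTop.hom with
       commutes' := fun r => congrArg (fun f => f r) (str_comp (fst X (SpecOver k B))) } :
       Γ(X.left, ⊤) →ₐ[k] Γ((X ⊗ SpecOver k B).left, ⊤))).toRingHom

theorem θ_tmul (b : B) (d : Γ(X.left, ⊤)) :
    letI := algΓ X
    θ X B (b ⊗ₜ d) = glob (snd X (SpecOver k B)) b * (fst X (SpecOver k B)).left.appTop.hom d := rfl

theorem bijective_θ [CompactSpace X.left] : Function.Bijective (θ X B) := by
  classical
  let _ := algΓ X
  let β := Module.Basis.ofVectorSpace k B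
  have H : IsPullback (fst X (SpecOver k B)).left (snd X (SpecOver k B)).left X.hom
      (Spec.map (CommRingCat.ofHom (algebraMap k B))) :=
    IsPullback.of_hasPullback X.hom (SpecOver k B).hom
  have h1 : Function.Bijective (SecTensor.Θ (fst X (SpecOver k B)).left (snd X (SpecOver k B)).left β ⊤) :=
    ⟨SecTensor.inj X.hom _ _ β H ⊤, SecTensor.surj_top X.hom _ _ β H⟩
  have h2 : (SecTensor.Θ (fst X (SpecOver k B)).left (snd X (SpecOver k B)).left β ⊤) =
      θ X B ∘ (TensorProduct.equivFinsuppOfBasisLeft β).symm := by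
    funext x
    rw [Function.comp_apply, TensorProduct.equivFinsuppOfBasisLeft_symm_apply, Finsupp.sum, map_sum,
      SecTensor.Θ, Finsupp.sum]
    refine Finset.sum_congr rfl fun i _ => ?_
    rw [θ_tmul]
    congr 1
    exact cR_top (fst X (SpecOver k B)).left (snd X (SpecOver k B)).left (β i)
  rw [h2] at h1
  exact (Function.Bijective.of_comp_iff _ (LinearEquiv.bijective _)).1 h1

end field

end K826.AffHom
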