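import Groth.Agent.Sga3.H219.Coact
import Groth.Agent.RedSub.H658.TorsDiv
import Groth.Agent.PrincBund.K826.AffHom
import Groth.Agent.GIT.K688.Reynolds
import Groth.Agent.Sga3.H808.SkewPrimExists

/-!
# Functions on an affine scheme with an action of an affine group over a field, in terms of points

A left action `a` of `Spec A` on `Spec B` gives the comodule structure `cm a` on `B`,
`(coact f)(x, g) = f(g⁻¹ x)`.
-/

set_option autoImplicit false
universe u

open CategoryTheory MonoidalCategory CartesianMonoidalCategory MonObj GrpObj AlgebraicGeometry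
open TensorProduct

namespace K826.ActFun

open Groth.Agent.Books.AffBridge Groth.Agent.RedSub.H658.TorsDiv Groth.Agent.Sga3.H219.Coact K826.AffHom

variable {k : Type u} [Field k] {B A : Type u} [CommRing B] [Algebra k B] [CommRing A] [HopfAlgebra k A]

/-- The right action `x · g = g⁻¹ x`. -/
noncomputable def rt (a : AlgGrp.Action (SpecOver k A) (SpecOver k B)) :
    SpecOver k B ⊗ SpecOver k A ⟶ SpecOver k B :=
  ac a (snd _ _)⁻¹ (fst _ _)

theorem lift_rt (a : AlgGrp.Action (SpecOver k A) (SpecOver k B)) {T : Over (Spec (CommRingCat.of k))}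
    (x : T ⟶ SpecOver k B) (g : T ⟶ SpecOver k A) : lift x g ≫ rt a = ac a g⁻¹ x := by
  rw [rt, comp_ac, comp_inv, lift_fst, lift_snd]

/-- The comodule structure on functions. -/
@[reducible] noncomputable def cm (a : AlgGrp.Action (SpecOver k A) (SpecOver k B)) : HopfRep.Comod k A B :=
  comod (rt a) (by
    intro Y v
    rw [lift_rt, inv_one, one_ac]) (by
    intro Y v x y
    rw [lift_rt, lift_rt, lift_rt, ← mul_ac, _root_.mul_inv_rev])

theorem coact_cm (a : AlgGrp.Action (SpecOver k A) (SpecOver k B)) (f : B) :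
    letI := cm a
    HopfRep.Comod.coact (k := k) (A := A) f = rho k (rt a) f := rfl

section ev

variable {C : Type u} [CommRing C] [Algebra k C]

/-- Pairs of points with values in any scheme. -/
theorem exists_pair {T : Over (Spec (CommRingCat.of k))} (x : T ⟶ SpecOver k B) (g : T ⟶ SpecOver k C) :
    ∃ w : T ⟶ SpecOver k (B ⊗[k] C), w ≫ specMap k Algebra.TensorProduct.includeLeft = x ∧
      w ≫ specMap k Algebra.TensorProduct.includeRight = g ∧ ∀ b c, glob w (b ⊗ₜ c) = glob x b * glob g c := by
  let _ := algΓ T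
  let φ : B →ₐ[k] Γ(T.left, ⊤) := { glob x with
    commutes' := fun r => congrArg (fun f => f r) (glob_algebraMap x) }
  let ψ : C →ₐ[k] Γ(T.left, ⊤) := { glob g with
    commutes' := fun r => congrArg (fun f => f r) (glob_algebraMap g) }
  let χ : B ⊗[k] C →ₐ[k] Γ(T.left, ⊤) := Algebra.TensorProduct.productMap φ ψ
  obtain ⟨w, hw⟩ := exists_glob (E := B ⊗[k] C) χ.toRingHom (by
    ext r
    exact χ.commutes r)
  refine ⟨w, ?_, ?_, ?_⟩
  · apply glob_injective
    rw [glob_specMap, hw]
    ext b
    change χ (b ⊗ₜ 1) = φ b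
    simp [χ]
  · apply glob_injective
    rw [glob_specMap, hw]
    ext b
    change χ (1 ⊗ₜ b) = ψ b
    simp [χ]
  · intro b c
    rw [hw]
    change χ (b ⊗ₜ c) = φ b * ψ c
    simp [χ]

theorem glob_sub {T : Over (Spec (CommRingCat.of k))} (x : T ⟶ SpecOver k B) (c : k) (b : B) :
    glob x (c • b) = str T c * glob x b := by
  rw [Algebra.smul_def, map_mul]
  congr 1
  exact congrArg (fun f => f c) (glob_algebraMap x)

/-- Evaluation of the coaction. -/
theorem exists_ev (a : AlgGrp.Action (SpecOver k A) (SpecOver k B)) {T : Over (Spec (CommRingCat.of k))}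
    (x : T ⟶ SpecOver k B) (g : T ⟶ SpecOver k A) : ∃ φ : B ⊗[k] A →+* Γ(T.left, ⊤),
      (∀ b c, φ (b ⊗ₜ c) = glob x b * glob g c) ∧ ∀ f, glob (ac a g⁻¹ x) f = φ (rho k (rt a) f) := by
  obtain ⟨w, hx, hg, hw⟩ := exists_pair x g
  refine ⟨glob w, hw, fun f => ?_⟩
  have h1 : ac a g⁻¹ x = w ≫ specMap k (rho k (rt a)) := by
    rw [rho, specMap_specPreimage, ← Category.assoc, comp_lift, hx, hg, lift_rt]
  rw [h1, glob_specMap]
  rfl

end ev

end K826.ActFun
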