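import Groth.Agent.PrincBund.K826.QuotFib
import Groth.Agent.Sga7.H758.FieldHom
import Groth.Agent.S0353
import Groth.Agent.Pic13.H965.LFT
import Groth.Agent.Flat2B.SmoothGeom

/-!
# Surjective homomorphisms in characteristic zero are fppf coverings
-/

set_option autoImplicit false

universe u

open CategoryTheory MonoidalCategory CartesianMonoidalCategory MonObj GrpObj AlgebraicGeometry Limits

namespace K826.CharZeroCov

open K826.QuotFib

variable {k : Type u} [Field k] [CharZero k]

instance isReduced_left (G : Over (Spec (CommRingCat.of k))) [GrpObj G] [LocallyOfFiniteType G.hom] :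
    IsReduced G.left := by
  have h1 : Smooth G.hom := Groth.Agent.S0353.result k G
  exact Groth.Agent.Flat2B.SmoothGeom.isReduced_of_smooth G.hom

theorem cov_of_surjective {G H : Over (Spec (CommRingCat.of k))} [GrpObj G] [GrpObj H] (f : G ⟶ H)
    [IsMonHom f] [CompactSpace G.left] [LocallyOfFiniteType G.hom] [LocallyOfFiniteType H.hom]
    (hs : Surjective f.left) : Cov f := by
  have hN : IsLocallyNoetherian H.left := LocallyOfFiniteType.isLocallyNoetherian H.hom
  have hqc : QuasiCompact f.left := inferInstance
  have hfl : Flat f.left := Groth.Agent.Sga7.H758.FieldHom.flat_of_surjective k f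
  have hlft : LocallyOfFiniteType f.left := by
    have h1 : LocallyOfFiniteType (f.left ≫ H.hom) := by
      rw [Over.w]
      infer_instance
    exact locallyOfFiniteType_of_comp f.left H.hom
  exact ⟨hs, hfl, LocallyOfFinitePresentation.iff_locallyOfFiniteType.2 hlft⟩

theorem lft_of_cov {S : Scheme.{u}} {G Q : Over S} {q : G ⟶ Q} (h : Cov q) [LocallyOfFiniteType G.hom] :
    LocallyOfFiniteType Q.hom := by
  obtain ⟨h1, h2, h3⟩ := h
  have : LocallyOfFiniteType (q.left ≫ Q.hom) := by
    rw [Over.w]
    infer_instance
  exact Groth.Agent.Pic13.H965.LFT.locallyOfFiniteType_of_fppf_comp q.left Q.hom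

end K826.CharZeroCov
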