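import Groth.Agent.Sga3B.Hens.WeilRes
import Mathlib.RingTheory.FiniteType

/-!
# Weil restriction of arbitrary algebras along a finite-dimensional algebra over a field
-/

set_option autoImplicit false

universe u

open TensorProduct

namespace K826.Weil

open Groth.Agent.Sga3B.Hens.WeilRes

/-- The functor of those `B`-points of `P` which kill an ideal of `P ⊗ A'` is given by an ideal. -/
theorem exists_ideal (A A' : Type u) [CommRing A] [CommRing A'] [Algebra A A'] [Module.Free A A']
    (P : Type u) [CommRing P] [Algebra A P] (a : Ideal (P ⊗[A] A')) :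
    ∃ b : Ideal P, ∀ (B : Type u) [CommRing B] [Algebra A B] (φ : P →ₐ[A] B),
      (∀ z ∈ a, Algebra.TensorProduct.map φ (AlgHom.id A A') z = 0) ↔ ∀ c ∈ b, φ c = 0 := by
  classical
  let κ := Module.Free.ChooseBasisIndex A A'
  let bb : Module.Basis κ A A' := Module.Free.chooseBasis A A'
  refine ⟨Ideal.span {c | ∃ z ∈ a, ∃ k, (bas bb P).repr z k = c}, ?_⟩
  intro B _ _ φ
  constructor
  · intro h
    have h1 : Ideal.span {c | ∃ z ∈ a, ∃ k, (bas bb P).repr z k = c} ≤ RingHom.ker φ := by
      rw [Ideal.span_le]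
      rintro c ⟨z, hz, k, rfl⟩
      exact (map_eq_zero_iff bb φ z).mp (h z hz) k
    exact fun c hc => h1 hc
  · intro h z hz
    exact (map_eq_zero_iff bb φ z).mpr fun k => h _ (Ideal.subset_span ⟨z, hz, k, rfl⟩)

/-- Weil restriction of a quotient of a polynomial algebra. -/
theorem exists_weil_of_surj (A A' : Type u) [CommRing A] [CommRing A'] [Algebra A A'] [Module.Finite A A']
    [Module.Free A A'] (E : Type u) [CommRing E] [Algebra A E] (σ : Type u)
    (f : MvPolynomial σ A →ₐ[A] E) (hf : Function.Surjective f) :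
    ∃ (P : Type u) (_ : CommRing P) (_ : Algebra A P) (π : E →ₐ[A] P ⊗[A] A'),
      (∀ (B : Type u) [CommRing B] [Algebra A B] (e : E →ₐ[A] B ⊗[A] A'),
        ∃! φ : P →ₐ[A] B, (Algebra.TensorProduct.map φ (AlgHom.id A A')).comp π = e) ∧
      (Finite σ → Algebra.FiniteType A P) := by
  classical
  let κ := Module.Free.ChooseBasisIndex A A'
  let bb : Module.Basis κ A A' := Module.Free.chooseBasis A A'
  have : Fintype κ := Module.Free.ChooseBasisIndex.fintype A A'
  let R := MvPolynomial (σ × κ) A
  let ψ : MvPolynomial σ A →ₐ[A] R ⊗[A] A' :=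
    MvPolynomial.aeval fun j => ∑ k, (MvPolynomial.X ⟨j, k⟩ : R) ⊗ₜ[A] bb k
  let a : Ideal (R ⊗[A] A') := (RingHom.ker f.toRingHom).map ψ.toRingHom
  obtain ⟨b, hbu⟩ := exists_ideal A A' R a
  have hcoord : ∀ (B : Type u) [CommRing B] [Algebra A B] (φ : R →ₐ[A] B) (j : σ) (k : κ),
      (bas bb B).repr (Algebra.TensorProduct.map φ (AlgHom.id A A') (ψ (MvPolynomial.X j))) k =
        φ (MvPolynomial.X ⟨j, k⟩) := by
    intro B _ _ φ j k
    rw [repr_map]
    congr 1
    simp only [ψ, MvPolynomial.aeval_X]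
    have h1 : ∀ k' : κ, (MvPolynomial.X ⟨j, k'⟩ : R) ⊗ₜ[A] bb k' =
        (MvPolynomial.X ⟨j, k'⟩ : R) • (bas bb R) k' := by
      intro k'
      rw [Algebra.TensorProduct.basis_apply, TensorProduct.smul_tmul', smul_eq_mul, mul_one]
    simp only [h1]
    rw [Module.Basis.repr_sum_self]
  let q : R →ₐ[A] R ⧸ b := Ideal.Quotient.mkₐ A b
  have hq : ∀ x ∈ RingHom.ker f.toRingHom,
      (Algebra.TensorProduct.map q (AlgHom.id A A')) (ψ x) = 0 := by
    intro x hx
    exact (hbu (R ⧸ b) q).mpr (fun c hc => Ideal.Quotient.eq_zero_iff_mem.mpr hc) _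
      (Ideal.mem_map_of_mem ψ.toRingHom hx)
  obtain ⟨π, hπ⟩ := exists_algHom_lift f hf ((Algebra.TensorProduct.map q (AlgHom.id A A')).comp ψ)
      (fun x hx => hq x hx)
  refine ⟨R ⧸ b, inferInstance, inferInstance, π, ?_, ?_⟩
  · intro B _ _ e
    let φ₀ : R →ₐ[A] B := MvPolynomial.aeval fun s => (bas bb B).repr (e (f (MvPolynomial.X s.1))) s.2
    have hφ₀ : (Algebra.TensorProduct.map φ₀ (AlgHom.id A A')).comp ψ = e.comp f := by
      refine MvPolynomial.algHom_ext fun j => ?_
      apply (bas bb B).repr.injective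
      ext k
      rw [AlgHom.comp_apply, hcoord]
      rw [AlgHom.comp_apply]
      exact MvPolynomial.aeval_X _ _
    have hφb : ∀ c ∈ b, φ₀ c = 0 := by
      refine (hbu B φ₀).mp ?_
      have h1 : a ≤ RingHom.ker (Algebra.TensorProduct.map φ₀ (AlgHom.id A A')) := by
        rw [Ideal.map_le_iff_le_comap]
        intro x hx
        have h2 := DFunLike.congr_fun hφ₀ x
        rw [AlgHom.comp_apply, AlgHom.comp_apply] at h2
        rw [Ideal.mem_comap, RingHom.mem_ker]
        refine h2.trans ?_
        have h3 : f x = 0 := hx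
        rw [h3, map_zero]
      exact fun z hz => h1 hz
    let φ : (R ⧸ b) →ₐ[A] B := Ideal.Quotient.liftₐ b φ₀ hφb
    have hφq : φ.comp q = φ₀ := by
      ext s
      rfl
    refine ⟨φ, ?_, ?_⟩
    · refine (AlgHom.cancel_right hf).mp ?_
      rw [← hφ₀]
      ext1 j
      show Algebra.TensorProduct.map φ (AlgHom.id A A') (π (f (MvPolynomial.X j))) = _
      rw [hπ, ← hφq]
      simp only [AlgHom.comp_apply]
      generalize ψ (MvPolynomial.X j) = z
      induction z using TensorProduct.induction_on with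
      | zero => simp
      | add x y hx hy => rw [map_add, map_add, map_add, hx, hy]
      | tmul x y => simp
    · intro φ' hφ'
      have h1 : φ'.comp q = φ₀ := by
        refine MvPolynomial.algHom_ext fun s => ?_
        obtain ⟨j, k⟩ := s
        have h2 := hcoord B (φ'.comp q) j k
        rw [← h2]
        simp only [φ₀, MvPolynomial.aeval_X]
        congr 2
        rw [← hφ', AlgHom.comp_apply, hπ]
        simp only [AlgHom.comp_apply]
        generalize ψ (MvPolynomial.X j) = z
        induction z using TensorProduct.induction_on with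
        | zero => simp
        | add x y hx hy => rw [map_add, map_add, map_add, hx, hy]
        | tmul x y => simp
      refine AlgHom.ext fun x => ?_
      obtain ⟨x, rfl⟩ := Ideal.Quotient.mkₐ_surjective A b x
      exact DFunLike.congr_fun (h1.trans hφq.symm) x
  · intro hσ
    exact Algebra.FiniteType.of_surjective q (Ideal.Quotient.mkₐ_surjective A b)

/-- Weil restriction along a finite free algebra. -/
theorem exists_weil (A A' : Type u) [CommRing A] [CommRing A'] [Algebra A A'] [Module.Finite A A']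
    [Module.Free A A'] (E : Type u) [CommRing E] [Algebra A E] :
    ∃ (P : Type u) (_ : CommRing P) (_ : Algebra A P) (π : E →ₐ[A] P ⊗[A] A'),
      (∀ (B : Type u) [CommRing B] [Algebra A B] (e : E →ₐ[A] B ⊗[A] A'),
        ∃! φ : P →ₐ[A] B, (Algebra.TensorProduct.map φ (AlgHom.id A A')).comp π = e) ∧
      (Algebra.FiniteType A E → Algebra.FiniteType A P) := by
  by_cases hE : Algebra.FiniteType A E
  · obtain ⟨ι, _, f, hf⟩ := (Algebra.FiniteType.iff_quotient_mvPolynomial').1 hE
    obtain ⟨P, _, _, π, h1, h2⟩ := exists_weil_of_surj A A' E ι f hf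
    exact ⟨P, _, _, π, h1, fun _ => h2 (Finite.of_fintype ι)⟩
  · obtain ⟨P, _, _, π, h1, h2⟩ := exists_weil_of_surj A A' E E (MvPolynomial.aeval id)
      (fun x => ⟨MvPolynomial.X x, by simp⟩)
    exact ⟨P, _, _, π, h1, fun h => (hE h).elim⟩

end K826.Weil
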