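import Groth.Agent.PrincBund.K826.AffHom
import Groth.Agent.PrincBund.K826.Weil
import Groth.Agent.Books.AffBridge2

/-!
# The scheme of morphisms to an affine scheme from a quasi-compact scheme with finite-dimensional functions
-/

set_option autoImplicit false
universe u

open CategoryTheory AlgebraicGeometry TopologicalSpace Opposite TensorProduct Limits
open MonoidalCategory CartesianMonoidalCategory

namespace K826.HomSch

open Groth.Agent.Books.AffBridge K826.AffHom

section glue

variable {S₀ : Scheme.{u}} {X M Z : Over S₀} (ev : X ⊗ M ⟶ Z)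

/-- `ev` represents `f ↦ Hom(X × S, Z)` on `S`. -/
def Rep (S : Over S₀) : Prop := ∀ f : X ⊗ S ⟶ Z, ∃! g : S ⟶ M, (X ◁ g) ≫ ev = f

theorem Rep.of_iso {S S' : Over S₀} (e : S ≅ S') (h : Rep ev S') : Rep ev S := by
  intro f
  obtain ⟨g, hg, huniq⟩ := h (X ◁ e.inv ≫ f)
  refine ⟨e.hom ≫ g, ?_, fun g' hg' => ?_⟩
  · dsimp only at hg ⊢
    rw [MonoidalCategory.whiskerLeft_comp, Category.assoc, hg, ← Category.assoc,
      ← MonoidalCategory.whiskerLeft_comp, Iso.hom_inv_id, MonoidalCategory.whiskerLeft_id, Category.id_comp]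
  · dsimp only at hg'
    have := huniq (e.inv ≫ g') (by
      dsimp only
      rw [MonoidalCategory.whiskerLeft_comp, Category.assoc, hg'])
    rw [← this, Iso.hom_inv_id_assoc]

theorem unique_of_affine (h : ∀ S : Over S₀, IsAffine S.left → Rep ev S) {S : Over S₀} {g₁ g₂ : S ⟶ M}
    (hg : (X ◁ g₁) ≫ ev = (X ◁ g₂) ≫ ev) : g₁ = g₂ := by
  apply Over.OverMorphism.ext
  refine Scheme.Cover.hom_ext S.left.affineCover _ _ fun i => ?_
  let ι : Over.mk (S.left.affineCover.f i ≫ S.hom) ⟶ S := Over.homMk (S.left.affineCover.f i)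
  have haff : IsAffine (Over.mk (S.left.affineCover.f i ≫ S.hom)).left := by
    change IsAffine (S.left.affineCover.X i)
    infer_instance
  have h1 := (h _ haff (X ◁ (ι ≫ g₁) ≫ ev)).unique (y₁ := ι ≫ g₁) (y₂ := ι ≫ g₂) rfl (by
    rw [MonoidalCategory.whiskerLeft_comp, MonoidalCategory.whiskerLeft_comp, Category.assoc,
      Category.assoc, hg])
  exact congrArg (fun m => m.left) h1

theorem rep_of_affine (h : ∀ S : Over S₀, IsAffine S.left → Rep ev S) (S : Over S₀) : Rep ev S := by
  intro f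
  let 𝒰 := S.left.affineCover
  let Si : 𝒰.I₀ → Over S₀ := fun i => Over.mk (𝒰.f i ≫ S.hom)
  let ι : ∀ i, Si i ⟶ S := fun i => Over.homMk (𝒰.f i)
  have haff : ∀ i, IsAffine (Si i).left := fun i => by
    change IsAffine (S.left.affineCover.X i)
    infer_instance
  choose g hg _ using fun i => h (Si i) (haff i) (X ◁ ι i ≫ f)
  dsimp only at hg
  have hcompat : ∀ i j, pullback.fst (𝒰.f i) (𝒰.f j) ≫ (g i).left = pullback.snd (𝒰.f i) (𝒰.f j) ≫ (g j).left := by
    intro i j
    let T : Over S₀ := Over.mk (pullback.fst (𝒰.f i) (𝒰.f j) ≫ 𝒰.f i ≫ S.hom)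
    let a : T ⟶ Si i := Over.homMk (pullback.fst (𝒰.f i) (𝒰.f j))
    let b : T ⟶ Si j := Over.homMk (pullback.snd (𝒰.f i) (𝒰.f j)) (by
      change pullback.snd (𝒰.f i) (𝒰.f j) ≫ 𝒰.f j ≫ S.hom = pullback.fst (𝒰.f i) (𝒰.f j) ≫ 𝒰.f i ≫ S.hom
      rw [← Category.assoc, ← Category.assoc, pullback.condition])
    have hab : a ≫ ι i = b ≫ ι j := by
      apply Over.OverMorphism.ext
      exact pullback.condition
    have h1 : a ≫ g i = b ≫ g j := by
      apply unique_of_affine ev h
      rw [MonoidalCategory.whiskerLeft_comp, MonoidalCategory.whiskerLeft_comp, Category.assoc,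
        Category.assoc, hg, hg, ← Category.assoc, ← Category.assoc, ← MonoidalCategory.whiskerLeft_comp,
        ← MonoidalCategory.whiskerLeft_comp, hab]
    exact congrArg (fun m => m.left) h1
  let r : S.left ⟶ M.left := Scheme.Cover.glueMorphisms 𝒰 (fun i => (g i).left) hcompat
  have hr : ∀ i, 𝒰.f i ≫ r = (g i).left := fun i => Scheme.Cover.ι_glueMorphisms 𝒰 _ hcompat i
  let ρ : S ⟶ M := Over.homMk r (by
    refine Scheme.Cover.hom_ext 𝒰 _ _ fun i => ?_
    rw [← Category.assoc, hr, Over.w]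
    rfl)
  have hρ : ∀ i, ι i ≫ ρ = g i := fun i => Over.OverMorphism.ext (hr i)
  have hρf : X ◁ ρ ≫ ev = f := by
    apply Over.OverMorphism.ext
    refine Scheme.Cover.hom_ext (𝒰.pullback₁ (snd X S).left) _ _ fun i => ?_
    let T : Over S₀ := Over.mk ((𝒰.pullback₁ (snd X S).left).f i ≫ (X ⊗ S).hom)
    let t : T ⟶ X ⊗ S := Over.homMk ((𝒰.pullback₁ (snd X S).left).f i)
    let y : T ⟶ Si i := Over.homMk (pullback.snd (snd X S).left (𝒰.f i)) (by
      change pullback.snd (snd X S).left (𝒰.f i) ≫ 𝒰.f i ≫ S.hom =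
        pullback.fst (snd X S).left (𝒰.f i) ≫ (X ⊗ S).hom
      rw [← Category.assoc, ← pullback.condition, Category.assoc, Over.w])
    have hty : t ≫ snd X S = y ≫ ι i := by
      apply Over.OverMorphism.ext
      exact pullback.condition
    have ht : t = lift (t ≫ fst X S) y ≫ (X ◁ ι i) := by
      apply CartesianMonoidalCategory.hom_ext
      · simp
      · simp [hty]
    have h1 : t ≫ (X ◁ ρ ≫ ev) = t ≫ f := by
      rw [ht, Category.assoc, Category.assoc, ← hg, ← Category.assoc (X ◁ ι i),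
        ← MonoidalCategory.whiskerLeft_comp, hρ]
    exact congrArg (fun m => m.left) h1
  exact ⟨ρ, hρf, fun ρ' hρ' => unique_of_affine ev h (hρ'.trans hρf.symm)⟩

end glue

section field

variable {k : Type u} [Field k] (X : Over (Spec (CommRingCat.of k)))

theorem θ_algebraMap (B : Type u) [CommRing B] [Algebra k B] (r : k) :
    letI := algΓ X
    θ X B (algebraMap k (B ⊗[k] Γ(X.left, ⊤)) r) = str (X ⊗ SpecOver k B) r := by
  let _ := algΓ X
  rw [Algebra.TensorProduct.algebraMap_apply, θ_tmul, map_one, mul_one]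
  exact congrArg (fun f => f r) (glob_algebraMap (snd X (SpecOver k B)))

theorem θ_nat {B C : Type u} [CommRing B] [Algebra k B] [CommRing C] [Algebra k C] (φ : B →ₐ[k] C) :
    letI := algΓ X
    ∀ z : B ⊗[k] Γ(X.left, ⊤), (X ◁ specMap k φ).left.appTop.hom (θ X B z) =
      θ X C (Algebra.TensorProduct.map φ (AlgHom.id k _) z) := by
  let _ := algΓ X
  intro z
  induction z with
  | zero => simp
  | add x y hx hy => rw [map_add, map_add, map_add, map_add, hx, hy]
  | tmul b d =>
    rw [Algebra.TensorProduct.map_tmul, θ_tmul, θ_tmul, map_mul]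
    congr 1
    · have h1 := congrArg (fun f => f b) (glob_comp (X ◁ specMap k φ) (snd X (SpecOver k B)))
      refine h1.symm.trans ?_
      rw [whiskerLeft_snd, glob_specMap]
      rfl
    · have h1 : (X ◁ specMap k φ).left ≫ (fst X (SpecOver k B)).left = (fst X (SpecOver k C)).left := by
        rw [← Over.comp_left, whiskerLeft_fst]
      rw [← h1, Scheme.Hom.comp_appTop]
      rfl

theorem rep_affine [CompactSpace X.left] {E P : Type u} [CommRing E] [Algebra k E] [CommRing P] [Algebra k P]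
    (π : letI := algΓ X
      E →ₐ[k] P ⊗[k] Γ(X.left, ⊤))
    (hπ : letI := algΓ X
      ∀ (B : Type u) [CommRing B] [Algebra k B] (e : E →ₐ[k] B ⊗[k] Γ(X.left, ⊤)),
        ∃! φ : P →ₐ[k] B, (Algebra.TensorProduct.map φ (AlgHom.id k _)).comp π = e)
    (ev : X ⊗ SpecOver k P ⟶ SpecOver k E) (hev : ∀ x, glob ev x = θ X P (π x))
    (B : Type u) [CommRing B] [Algebra k B] : Rep ev (SpecOver k B) := by
  let _ := algΓ X
  have key : ∀ (f : X ⊗ SpecOver k B ⟶ SpecOver k E) (φ : P →ₐ[k] B),
      X ◁ specMap k φ ≫ ev = f ↔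
        ∀ x, θ X B (Algebra.TensorProduct.map φ (AlgHom.id k _) (π x)) = glob f x := by
    intro f φ
    constructor
    · rintro rfl x
      rw [glob_comp, RingHom.comp_apply, hev, θ_nat]
    · intro h
      apply glob_injective
      ext x
      rw [glob_comp, RingHom.comp_apply, hev, θ_nat, h]
  intro f
  let θe : B ⊗[k] Γ(X.left, ⊤) ≃+* Γ((X ⊗ SpecOver k B).left, ⊤) :=
    RingEquiv.ofBijective (θ X B) (bijective_θ X B)
  let e : E →ₐ[k] B ⊗[k] Γ(X.left, ⊤) :=
    { (θe.symm : _ →+* _).comp (glob f) with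
      commutes' := fun r => by
        apply θe.injective
        change θe (θe.symm (glob f (algebraMap k E r))) = _
        rw [RingEquiv.apply_symm_apply]
        have h1 := congrArg (fun f => f r) (glob_algebraMap f)
        exact h1.trans (θ_algebraMap X B r).symm }
  have he : ∀ x, θ X B (e x) = glob f x := fun x => θe.apply_symm_apply _
  obtain ⟨φ, hφ, huniq⟩ := hπ B e
  refine ⟨specMap k φ, ?_, fun g hg => ?_⟩
  · refine (key f φ).2 fun x => ?_
    rw [← he, ← hφ]
    rfl
  · obtain ⟨ψ, rfl⟩ : ∃ ψ, specMap k ψ = g := ⟨specPreimage k g, specMap_specPreimage k g⟩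
    congr 1
    refine huniq ψ (AlgHom.ext fun x => ?_)
    apply (bijective_θ X B).1
    rw [he]
    exact (key f ψ).1 hg x

/-- Affine schemes over `Spec k` are spectra. -/
theorem exists_iso_specOver (Z : Over (Spec (CommRingCat.of k))) [IsAffine Z.left] :
    ∃ (E : Type u) (_ : CommRing E) (_ : Algebra k E), Nonempty (Z ≅ SpecOver k E) := by
  let _ := algΓ Z
  obtain ⟨g, hg⟩ := exists_glob (k := k) (T := Z) (E := Γ(Z.left, ⊤)) (RingHom.id _) rfl
  have h1 : g.left = Z.left.toSpecΓ := by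
    apply gl_injective (E := Γ(Z.left, ⊤))
    refine hg.trans ?_
    have h2 : CommRingCat.ofHom (gl (E := Γ(Z.left, ⊤)) Z.left.toSpecΓ) = 𝟙 _ := by
      rw [ofHom_gl, Scheme.toSpecΓ_appTop]
      exact Iso.inv_hom_id _
    exact (congrArg (fun f => f.hom) h2).symm
  have h3 : IsIso g.left := by
    rw [h1]
    exact inferInstanceAs (IsIso Z.left.toSpecΓ)
  have h4 : IsIso g := by
    have : IsIso ((Over.forget _).map g) := h3
    exact isIso_of_reflects_iso g (Over.forget _)
  exact ⟨Γ(Z.left, ⊤), inferInstance, inferInstance, ⟨asIso g⟩⟩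

/-- Existence of the scheme of morphisms. -/
theorem exists_homSch [CompactSpace X.left] (hfin : (str X).Finite)
    (Z : Over (Spec (CommRingCat.of k))) [IsAffine Z.left] :
    ∃ (M : Over (Spec (CommRingCat.of k))) (_ : IsAffine M.left) (ev : X ⊗ M ⟶ Z),
      (∀ (S : Over (Spec (CommRingCat.of k))), Rep ev S) ∧
      (LocallyOfFiniteType Z.hom → LocallyOfFiniteType M.hom) := by
  let _ := algΓ X
  obtain ⟨E, _, _, ⟨i⟩⟩ := exists_iso_specOver Z
  have hD : Module.Finite k Γ(X.left, ⊤) := hfin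
  obtain ⟨P, _, _, π, hπ, hft⟩ := Weil.exists_weil k Γ(X.left, ⊤) E
  obtain ⟨ev, hev⟩ := exists_glob (k := k) (T := X ⊗ SpecOver k P) (E := E) ((θ X P).comp π.toRingHom)
    (by
      ext r
      refine Eq.trans ?_ (θ_algebraMap X P r)
      exact congrArg (θ X P) (π.commutes r))
  have haff : IsAffine (SpecOver k P).left := inferInstanceAs (IsAffine (Spec _))
  have hrep : ∀ S : Over (Spec (CommRingCat.of k)), Rep ev S := by
    refine rep_of_affine ev fun S hS => ?_
    obtain ⟨B, _, _, ⟨j⟩⟩ := exists_iso_specOver S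
    exact Rep.of_iso ev j (rep_affine X π hπ ev (fun x => by rw [hev]; rfl) B)
  refine ⟨SpecOver k P, haff, ev ≫ i.inv, fun S f => ?_, fun h => ?_⟩
  · obtain ⟨g, hg, huniq⟩ := hrep S (f ≫ i.hom)
    refine ⟨g, ?_, fun g' hg' => huniq g' ?_⟩
    · dsimp only at hg ⊢
      rw [← Category.assoc, hg, Category.assoc, Iso.hom_inv_id, Category.comp_id]
    · dsimp only at hg' ⊢
      rw [← hg', Category.assoc, Category.assoc, Iso.inv_hom_id, Category.comp_id]
  · have h1 : LocallyOfFiniteType (SpecOver k E).hom := by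
      have h2 : (SpecOver k E).hom = i.inv.left ≫ Z.hom := (Over.w i.inv).symm
      rw [h2]
      infer_instance
    exact (Groth.Agent.Books.AffBridge2.locallyOfFiniteType_specOver_iff k P).2
      (hft ((Groth.Agent.Books.AffBridge2.locallyOfFiniteType_specOver_iff k E).1 h1))

end field

end K826.HomSch
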