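import Groth.Agent.PrincBund.K826.Kill
import Groth.Agent.PrincBund.K826.TorsField
import Groth.Agent.Sga3C.SubGrp

/-!
# Reductions of an affine torsor over a field to closed subgroups, as pairs of ideals; maximal ones exist
-/

set_option autoImplicit false
universe u

open CategoryTheory CategoryTheory.Limits MonoidalCategory CartesianMonoidalCategory MonObj GrpObj AlgebraicGeometry

namespace K826.ZornPair

open K826.Kill K826.TorsField Groth.Agent.RedSub.H658.TorsDiv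

section general

variable {S : Scheme.{u}} {G P : Over S} [GrpObj G] (a : AlgGrp.Action G P)

/-- `V(I)` is a pseudo-torsor under `V(J)`, in terms of points. -/
def Pr (I : Ideal Γ(P.left, ⊤)) (J : Ideal Γ(G.left, ⊤)) : Prop :=
  ∀ (T : Over S) (x : T ⟶ P) (g : T ⟶ G), Kills I x → (Kills I (ac a g x) ↔ Kills J g)

theorem pr_bot : Pr a ⊥ ⊥ := fun _ _ _ _ => ⟨fun _ => kills_bot _, fun _ => kills_bot _⟩

theorem pr_sSup (s : Set (Ideal Γ(P.left, ⊤) × Ideal Γ(G.left, ⊤))) (hs : ∀ p ∈ s, Pr a p.1 p.2) :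
    Pr a (sSup (Prod.fst '' s)) (sSup (Prod.snd '' s)) := by
  intro T x g hx
  rw [kills_sSup] at hx ⊢
  rw [kills_sSup]
  simp only [Set.forall_mem_image] at hx ⊢
  constructor
  · intro h p hp
    exact (hs p hp T x g (hx hp)).1 (h hp)
  · intro h p hp
    exact (hs p hp T x g (hx hp)).2 (h hp)

theorem sSup_ne_top {R M : Type*} [CommRing R] (s : Set (Ideal R × M)) [PartialOrder M] (hne : s.Nonempty)
    (hc : IsChain (· ≤ ·) s) (hs : ∀ p ∈ s, p.1 ≠ ⊤) : sSup (Prod.fst '' s) ≠ ⊤ := by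
  intro h
  have hd : DirectedOn (· ≤ ·) (Prod.fst '' s) := by
    rintro _ ⟨p, hp, rfl⟩ _ ⟨q, hq, rfl⟩
    rcases hc.total hp hq with h1 | h1
    · exact ⟨q.1, ⟨q, hq, rfl⟩, h1.1, le_rfl⟩
    · exact ⟨p.1, ⟨p, hp, rfl⟩, le_rfl, h1.1⟩
  have h1 : (1 : R) ∈ sSup (Prod.fst '' s) := by rw [h]; trivial
  rw [Submodule.mem_sSup_of_directed (hne.image _) hd] at h1
  obtain ⟨_, ⟨p, hp, rfl⟩, h2⟩ := h1
  exact hs p hp ((Ideal.eq_top_iff_one _).2 h2)

theorem exists_max (hP : (⊥ : Ideal Γ(P.left, ⊤)) ≠ ⊤) :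
    ∃ (I : Ideal Γ(P.left, ⊤)) (J : Ideal Γ(G.left, ⊤)), I ≠ ⊤ ∧ Pr a I J ∧
      ∀ (I' : Ideal Γ(P.left, ⊤)) (J' : Ideal Γ(G.left, ⊤)), I' ≠ ⊤ → Pr a I' J' → I ≤ I' → J ≤ J' →
        I' = I := by
  let Q : Set (Ideal Γ(P.left, ⊤) × Ideal Γ(G.left, ⊤)) := {p | p.1 ≠ ⊤ ∧ Pr a p.1 p.2}
  obtain ⟨m, hm⟩ := zorn_le₀ Q (by
    intro c hc hch
    rcases c.eq_empty_or_nonempty with rfl | hne
    · exact ⟨(⊥, ⊥), ⟨hP, pr_bot a⟩, by simp⟩
    · refine ⟨(sSup (Prod.fst '' c), sSup (Prod.snd '' c)), ⟨sSup_ne_top c hne hch (fun p hp => (hc hp).1),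
        pr_sSup a c (fun p hp => (hc hp).2)⟩, fun p hp => ⟨le_sSup ⟨p, hp, rfl⟩, le_sSup ⟨p, hp, rfl⟩⟩⟩)
  refine ⟨m.1, m.2, hm.prop.1, hm.prop.2, fun I' J' h1 h2 h3 h4 => ?_⟩
  have h5 : (I', J') ≤ m := hm.le_of_ge (y := (I', J')) ⟨h1, h2⟩ ⟨h3, h4⟩
  exact le_antisymm h5.1 h3

/-- Being killed is local for the fpqc topology. -/
theorem kills_of_local [IsAffine G.left] {X : Over S}
    (hX : NonAbH1.IsLocallyTrivialFor Scheme.fpqcPrecoverage X) {J : Ideal Γ(G.left, ⊤)} {T : Over S}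
    (g : T ⟶ G) (h : ∀ (T' : Over S) (t : T' ⟶ T) (_ : T' ⟶ X), Kills J (t ≫ g)) : Kills J g := by
  choose f hf using fun (T' : Over S) (t : T' ⟶ T) (x : T' ⟶ X) => kills_iff.1 (h T' t x)
  obtain ⟨m, hm, -⟩ := K826.Descend.existsUnique_glue le_rfl hX f (by
    intro T' T'' r t x
    rw [← cancel_mono (subι J), Category.assoc, hf, hf, Category.assoc]) (by
    intro T' t x x'
    rw [← cancel_mono (subι J), hf, hf])
  rw [kills_iff]
  refine ⟨m, K826.Descend.hom_ext_of_locTriv le_rfl hX fun T' t x => ?_⟩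
  rw [← Category.assoc, hm T' t x, hf]

variable {a} {I : Ideal Γ(P.left, ⊤)} {J : Ideal Γ(G.left, ⊤)} (hp : Pr a I J)
  [IsAffine G.left] [IsAffine P.left]
  (hZ : NonAbH1.IsLocallyTrivialFor Scheme.fpqcPrecoverage (subO I))

include hp hZ

theorem kills_mul {T : Over S} {g h : T ⟶ G} (hg : Kills J g) (hh : Kills J h) : Kills J (g * h) := by
  refine kills_of_local hZ _ fun T' t x => ?_
  have hx : Kills I (x ≫ subι I) := (kills_subι I).comp x
  rw [← hp T' (x ≫ subι I) _ hx, comp_mul, mul_ac]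
  have h1 := (hp T' (x ≫ subι I) (t ≫ h) hx).2 (hh.comp t)
  exact (hp T' _ (t ≫ g) h1).2 (hg.comp t)

theorem kills_one {T : Over S} : Kills J (1 : T ⟶ G) := by
  refine kills_of_local hZ _ fun T' t x => ?_
  have hx : Kills I (x ≫ subι I) := (kills_subι I).comp x
  rw [← hp T' (x ≫ subι I) _ hx, comp_one, one_ac]
  exact hx

theorem kills_inv {T : Over S} {g : T ⟶ G} (hg : Kills J g) : Kills J g⁻¹ := by
  refine kills_of_local hZ _ fun T' t x => ?_
  have hx : Kills I (x ≫ subι I) := (kills_subι I).comp x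
  have h1 := (hp T' (x ≫ subι I) (t ≫ g) hx).2 (hg.comp t)
  rw [← hp T' (ac a (t ≫ g) (x ≫ subι I)) _ h1, comp_inv, ← mul_ac, inv_mul_cancel, one_ac]
  exact hx

/-- `V(J)` is a closed subgroup. -/
theorem exists_grp : ∃ _ : GrpObj (subO J), IsMonHom (subι J) := by
  apply Groth.Agent.Sga3C.SubGrp.exists_grpObj_of_mono
  · have h1 : Kills J ((subι J ⊗ₘ subι J) ≫ μ[G]) := by
      have h2 : (subι J ⊗ₘ subι J) ≫ μ[G] = (fst _ _ ≫ subι J) * (snd _ _ ≫ subι J) := by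
        simp [Hom.mul_def]
      rw [h2]
      exact kills_mul hp hZ ((kills_subι J).comp _) ((kills_subι J).comp _)
    exact kills_iff.1 h1
  · have h1 : Kills J (η[G] : 𝟙_ (Over S) ⟶ G) := by
      have h2 : (η[G] : 𝟙_ (Over S) ⟶ G) = 1 := by rw [Hom.one_def]; simp
      rw [h2]
      exact kills_one hp hZ
    exact kills_iff.1 h1
  · have h1 : Kills J (subι J ≫ ι[G]) := by
      have h2 : subι J ≫ ι[G] = (subι J)⁻¹ := by rw [Hom.inv_def]
      rw [h2]
      exact kills_inv hp hZ (kills_subι J)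
    exact kills_iff.1 h1

omit hp hZ in
/-- The action of `V(J)` on `V(I)`. -/
theorem exists_act (hp : Pr a I J) [GrpObj (subO J)] [IsMonHom (subι J)] :
    ∃ b : AlgGrp.Action (subO J) (subO I), ∀ (T : Over S) (g : T ⟶ subO J) (x : T ⟶ subO I),
      ac b g x ≫ subι I = ac a (g ≫ subι J) (x ≫ subι I) := by
  have h1 : Kills I (ac a (fst (subO J) (subO I) ≫ subι J) (snd (subO J) (subO I) ≫ subι I)) :=
    (hp _ _ _ ((kills_subι I).comp _)).2 ((kills_subι J).comp _)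
  obtain ⟨m, hm⟩ := kills_iff.1 h1
  have hmp : ∀ (T : Over S) (g : T ⟶ subO J) (x : T ⟶ subO I),
      (lift g x ≫ m) ≫ subι I = ac a (g ≫ subι J) (x ≫ subι I) := by
    intro T g x
    rw [Category.assoc, hm, comp_ac, lift_fst_assoc, lift_snd_assoc]
  refine ⟨⟨m, ?_, ?_⟩, hmp⟩
  · rw [← cancel_mono (subι I)]
    apply AlgGrp.Action.hom_ext_lift₂
    intro T t x
    have ht : t ≫ η[subO J] = 1 := by rw [Hom.one_def, toUnit_unique (toUnit T) t]
    rw [Category.assoc, lift_whiskerRight_assoc, ht, ← Category.assoc, hmp, MonObj.one_comp, one_ac,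
      leftUnitor_hom, lift_snd_assoc]
  · rw [← cancel_mono (subι I)]
    apply AlgGrp.Action.hom_ext_lift₃
    intro T g h x
    rw [Category.assoc, lift_whiskerRight_assoc, ← Hom.mul_def, ← Category.assoc, hmp,
      Category.assoc, Category.assoc, lift_lift_associator_hom_assoc, lift_whiskerLeft_assoc,
      ← Category.assoc (lift g _), hmp, MonObj.mul_comp, mul_ac, hmp]

omit hZ in
theorem pseudo_act (ha : IsIso (lift a.act (snd G P))) [GrpObj (subO J)] [IsMonHom (subι J)]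
    (b : AlgGrp.Action (subO J) (subO I)) (hb : ∀ (T : Over S) (g : T ⟶ subO J) (x : T ⟶ subO I),
      ac b g x ≫ subι I = ac a (g ≫ subι J) (x ≫ subι I)) : NonAbH1.IsPseudoTorsorSch b := by
  apply K826.Tors.pseudo_of_existsUnique
  intro T x y
  let g := dv a ha (x ≫ subι I) (y ≫ subι I)
  have hg : ac a g (x ≫ subι I) = y ≫ subι I := ac_dv a ha _ _
  have h1 : Kills J g := by
    rw [← hp T (x ≫ subι I) g ((kills_subι I).comp _), hg]
    exact (kills_subι I).comp _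
  obtain ⟨g', hg'⟩ := kills_iff.1 h1
  refine ⟨g', ?_, fun g'' hg'' => ?_⟩
  · change ac b g' x = y
    rw [← cancel_mono (subι I), hb, hg', hg]
  · change ac b g'' x = y at hg''
    rw [← cancel_mono (subι J), hg']
    apply eq_dv
    rw [← hb, hg'']

end general

end K826.ZornPair
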