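import Groth.Agent.PrincBund.K826.MostowStep
import Groth.Agent.PrincBund.K826.ZornPair
import Groth.Agent.PrincBund.K826.HomSch
import Groth.Agent.Sga3.H808.Retract

/-!
# Fixed points of linearly reductive groups on equivariant torsors under unipotent groups (characteristic zero)
-/

set_option autoImplicit false
universe u

open CategoryTheory CategoryTheory.Limits MonoidalCategory CartesianMonoidalCategory MonObj GrpObj AlgebraicGeometry

namespace K826.MostowMain

open K826.Kill K826.TorsField K826.ZornPair Groth.Agent.RedSub.H658.TorsDiv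
open Groth.Agent.Books.AffBridge K826.AffHom

section actions

variable {S : Scheme.{u}} {G G' X X' : Over S} [GrpObj G] [GrpObj G']

/-- Actions from a description on points. -/
noncomputable def mkAct (m : G ⊗ X ⟶ X) (h1 : ∀ (T : Over S) (x : T ⟶ X), lift 1 x ≫ m = x)
    (hm : ∀ (T : Over S) (g h : T ⟶ G) (x : T ⟶ X), lift (g * h) x ≫ m = lift g (lift h x ≫ m) ≫ m) :
    AlgGrp.Action G X where
  act := m
  one_act := by
    apply AlgGrp.Action.hom_ext_lift₂
    intro T t x
    have ht : t ≫ η[G] = 1 := by rw [Hom.one_def, toUnit_unique (toUnit T) t]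
    rw [lift_whiskerRight_assoc, ht, h1, leftUnitor_hom, lift_snd]
  mul_act := by
    apply AlgGrp.Action.hom_ext_lift₃
    intro T g h x
    rw [lift_whiskerRight_assoc, ← Hom.mul_def, hm, lift_lift_associator_hom_assoc,
      lift_whiskerLeft_assoc]

/-- Transport of an action. -/
noncomputable def tr (a : AlgGrp.Action G X) (e : G' ⟶ G) [IsMonHom e] (i : X ≅ X') : AlgGrp.Action G' X' :=
  mkAct (ac a (fst _ _ ≫ e) (snd _ _ ≫ i.inv) ≫ i.hom) (by
    intro T x
    rw [← Category.assoc, comp_ac, lift_fst_assoc, lift_snd_assoc, MonObj.one_comp, one_ac, Category.assoc,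
      Iso.inv_hom_id, Category.comp_id]) (by
    intro T g h x
    simp only [← Category.assoc, comp_ac, lift_fst, lift_snd]
    rw [MonObj.mul_comp, mul_ac, Category.assoc (ac a (h ≫ e) (x ≫ i.inv)), Iso.hom_inv_id, Category.comp_id])

theorem ac_tr (a : AlgGrp.Action G X) (e : G' ⟶ G) [IsMonHom e] (i : X ≅ X') {T : Over S} (g : T ⟶ G')
    (x : T ⟶ X') : ac (tr a e i) g x = ac a (g ≫ e) (x ≫ i.inv) ≫ i.hom := by
  change lift g x ≫ ac a (fst _ _ ≫ e) (snd _ _ ≫ i.inv) ≫ i.hom = _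
  rw [← Category.assoc, comp_ac, lift_fst_assoc, lift_snd_assoc]

end actions

section zorn

variable {S : Scheme.{u}} {U P : Over S} [GrpObj U] (a : AlgGrp.Action U P)

theorem exists_max' (Q : Ideal Γ(P.left, ⊤) → Prop) (hQ0 : Q ⊥)
    (hQ : ∀ s : Set (Ideal Γ(P.left, ⊤)), (∀ I ∈ s, Q I) → Q (sSup s))
    (hP : (⊥ : Ideal Γ(P.left, ⊤)) ≠ ⊤) :
    ∃ (I : Ideal Γ(P.left, ⊤)) (J : Ideal Γ(U.left, ⊤)), I ≠ ⊤ ∧ Pr a I J ∧ Q I ∧
      ∀ (I' : Ideal Γ(P.left, ⊤)) (J' : Ideal Γ(U.left, ⊤)), I' ≠ ⊤ → Pr a I' J' → Q I' → I ≤ I' → J ≤ J' →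
        I' = I := by
  let R : Set (Ideal Γ(P.left, ⊤) × Ideal Γ(U.left, ⊤)) := {p | p.1 ≠ ⊤ ∧ Pr a p.1 p.2 ∧ Q p.1}
  obtain ⟨m, hm⟩ := zorn_le₀ R (by
    intro c hc hch
    rcases c.eq_empty_or_nonempty with rfl | hne
    · exact ⟨(⊥, ⊥), ⟨hP, pr_bot a, hQ0⟩, by simp⟩
    · refine ⟨(sSup (Prod.fst '' c), sSup (Prod.snd '' c)), ⟨sSup_ne_top c hne hch (fun p hp => (hc hp).1),
        pr_sSup a c (fun p hp => (hc hp).2.1), hQ _ ?_⟩, fun p hp => ⟨le_sSup ⟨p, hp, rfl⟩, le_sSup ⟨p, hp, rfl⟩⟩⟩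
      rintro _ ⟨p, hp, rfl⟩
      exact (hc hp).2.2)
  refine ⟨m.1, m.2, hm.prop.1, hm.prop.2.1, hm.prop.2.2, fun I' J' h1 h2 hq h3 h4 => ?_⟩
  have h5 : (I', J') ≤ m := hm.le_of_ge (y := (I', J')) ⟨h1, h2, hq⟩ ⟨h3, h4⟩
  exact le_antisymm h5.1 h3

end zorn

section kill

variable {S : Scheme.{u}} {P : Over S} [IsAffine P.left]

/-- The ideal of `P` cut out in `V(I)` by some functions. -/
theorem kills_comap_span (I : Ideal Γ(P.left, ⊤)) (L : Set Γ((subO I).left, ⊤)) {T : Over S} (x : T ⟶ P) :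
    Kills ((Ideal.span L).comap (subι I).left.appTop.hom) x ↔
      ∃ z : T ⟶ subO I, z ≫ subι I = x ∧ ∀ f ∈ L, z.left.appTop.hom f = 0 := by
  constructor
  · intro h
    have h1 : Kills I x := by
      intro p hp
      apply h
      rw [Ideal.mem_comap]
      have h2 : (subι I).left.appTop.hom p = 0 := kills_subι I hp
      rw [h2]
      exact Ideal.zero_mem _
    obtain ⟨z, rfl⟩ := kills_iff.1 h1
    refine ⟨z, rfl, fun f hf => ?_⟩
    obtain ⟨p, rfl⟩ := surjective_appTop (subι I) f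
    have h2 : p ∈ (Ideal.span L).comap (subι I).left.appTop.hom := Ideal.subset_span hf
    have h3 := h h2
    rw [RingHom.mem_ker] at h3
    simpa using h3
  · rintro ⟨z, rfl, hz⟩ p hp
    have h1 : Ideal.span L ≤ RingHom.ker z.left.appTop.hom := by
      rw [Ideal.span_le]
      exact hz
    have h2 := h1 hp
    rw [RingHom.mem_ker] at h2 ⊢
    simpa using h2

theorem comap_span_ne_top (I : Ideal Γ(P.left, ⊤)) {L : Set Γ((subO I).left, ⊤)} (h : Ideal.span L ≠ ⊤) :
    (Ideal.span L).comap (subι I).left.appTop.hom ≠ ⊤ := by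
  intro h1
  exact h (Ideal.comap_eq_top_iff.1 h1)

theorem comap_span_ne (I : Ideal Γ(P.left, ⊤)) {L : Set Γ((subO I).left, ⊤)} {f : Γ((subO I).left, ⊤)}
    (hf : f ∈ L) (hf0 : f ≠ 0) : (Ideal.span L).comap (subι I).left.appTop.hom ≠ I := by
  intro h
  obtain ⟨p, rfl⟩ := surjective_appTop (subι I) f
  have h1 : p ∈ (Ideal.span L).comap (subι I).left.appTop.hom := Ideal.subset_span hf
  rw [h] at h1
  exact hf0 (kills_subι I h1)

theorem le_comap_span (I : Ideal Γ(P.left, ⊤)) (L : Set Γ((subO I).left, ⊤)) :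
    I ≤ (Ideal.span L).comap (subι I).left.appTop.hom := by
  intro p hp
  rw [Ideal.mem_comap]
  have h2 : (subι I).left.appTop.hom p = 0 := kills_subι I hp
  rw [h2]
  exact Ideal.zero_mem _

end kill

variable {k : Type u} [Field k]

theorem bijective_glob {Z : Over (Spec (CommRingCat.of k))} {B : Type u} [CommRing B] [Algebra k B]
    (i : Z ≅ SpecOver k B) : Function.Bijective (glob i.hom) := by
  have h1 : (i.inv.left.appTop.hom).comp (glob i.hom) = glob (𝟙 (SpecOver k B)) := by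
    rw [← glob_comp, Iso.inv_hom_id]
  have h2 : Function.Bijective (glob (𝟙 (SpecOver k B))) := by
    have h3 : glob (𝟙 (SpecOver k B)) = (Scheme.ΓSpecIso (CommRingCat.of B)).inv.hom := by
      have h5 : (𝟙 (Spec (CommRingCat.of B)) : _ ⟶ _).appTop = 𝟙 _ := Scheme.Hom.id_appTop
      have h6 : CommRingCat.ofHom (gl (𝟙 (Spec (CommRingCat.of B)))) =
          (Scheme.ΓSpecIso (CommRingCat.of B)).inv := by
        rw [ofHom_gl, h5]
        exact Category.comp_id _
      exact congrArg (fun f => f.hom) h6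
    rw [h3]
    exact ConcreteCategory.bijective_of_isIso (Scheme.ΓSpecIso (CommRingCat.of B)).inv
  have h4 : Function.Bijective i.inv.left.appTop.hom := by
    have : IsIso i.inv.left.appTop := by
      have : IsIso i.inv.left := inferInstance
      exact inferInstanceAs (IsIso (i.inv.left.app ⊤))
    exact ConcreteCategory.bijective_of_isIso i.inv.left.appTop
  rw [← h1, RingHom.coe_comp] at h2
  exact (Function.Bijective.of_comp_iff' h4 _).1 h2


section main

variable [CharZero k] {G U P : Over (Spec (CommRingCat.of k))} [GrpObj G] [GrpObj U] [IsAffine U.left]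
  [IsAffine P.left]

/-- `V(I)` is stable under `G`. -/
def GSt (d : AlgGrp.Action G P) (I : Ideal Γ(P.left, ⊤)) : Prop :=
  ∀ (T : Over (Spec (CommRingCat.of k))) (g : T ⟶ G) (x : T ⟶ P), Kills I x → Kills I (ac d g x)

theorem exists_fixed {A : Type u} [CommRing A] [HopfAlgebra k A] (hA : HopfRep.IsLinearlyReductive k A)
    (eG : G ≅ SpecOver k A) [IsMonHom eG.hom]
    {H₀ : Type u} [CommRing H₀] [HopfAlgebra k H₀] (hH₀ : HopfRep.IsUnipotent k H₀)
    (eU : U ≅ SpecOver k H₀) [IsMonHom eU.hom] (c : AlgGrp.Action G U)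
    (hc : ∀ (T : Over (Spec (CommRingCat.of k))) (g : T ⟶ G) (u₁ u₂ : T ⟶ U),
      ac c g (u₁ * u₂) = ac c g u₁ * ac c g u₂)
    (d : AlgGrp.Action G P) (b : AlgGrp.Action U P) (hb : IsIso (lift b.act (snd U P))) [Nonempty P.left]
    (hcomp : ∀ (T : Over (Spec (CommRingCat.of k))) (g : T ⟶ G) (v : T ⟶ U) (p : T ⟶ P),
      ac d g (ac b v p) = ac b (ac c g v) (ac d g p)) :
    ∃ x : 𝟙_ (Over (Spec (CommRingCat.of k))) ⟶ P, ∀ (T : Over (Spec (CommRingCat.of k))) (g : T ⟶ G),
      ac d g (toUnit T ≫ x) = toUnit T ≫ x := by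
  have hne0 : (⊥ : Ideal Γ(P.left, ⊤)) ≠ ⊤ := by
    have : Nontrivial Γ(P.left, ⊤) := by
      obtain ⟨x⟩ := ‹Nonempty P.left›
      have : Nonempty (⊤ : P.left.Opens) := ⟨⟨x, trivial⟩⟩
      infer_instance
    exact bot_ne_top
  obtain ⟨I, J, hI, hp, hG, hmax⟩ := exists_max' b (GSt d)
    (fun T g x _ => kills_bot _) (fun s hs T g x hx => by
      rw [kills_sSup] at hx ⊢
      exact fun I hI => hs I hI T g x (hx I hI)) hne0
  have hneZ : Nonempty (subO I).left := nonempty_subO hI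
  have hZl : NonAbH1.IsLocallyTrivialFor Scheme.fpqcPrecoverage (subO I) := locTriv_of_nonempty _
  obtain ⟨gV, hgV⟩ := exists_grp hp hZl
  obtain ⟨b', hb'⟩ := exists_act hp
  have hbp := pseudo_act hp hb b' hb'
  -- the action of `G` on `V(I)` and `V(J)`
  obtain ⟨mZ, hmZ⟩ := kills_iff.1 (hG _ (fst G (subO I)) (snd G (subO I) ≫ subι I) ((kills_subι I).comp _))
  have hmZ' : ∀ (T : Over (Spec (CommRingCat.of k))) (g : T ⟶ G) (x : T ⟶ subO I),
      (lift g x ≫ mZ) ≫ subι I = ac d g (x ≫ subι I) := by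
    intro T g x
    rw [Category.assoc, hmZ, comp_ac, lift_fst, lift_snd_assoc]
  let d' : AlgGrp.Action G (subO I) := mkAct mZ (by
    intro T x
    rw [← cancel_mono (subι I), hmZ', one_ac]) (by
    intro T g h x
    rw [← cancel_mono (subι I), hmZ', hmZ', hmZ', mul_ac])
  have hd' : ∀ (T : Over (Spec (CommRingCat.of k))) (g : T ⟶ G) (x : T ⟶ subO I),
      ac d' g x ≫ subι I = ac d g (x ≫ subι I) := hmZ'
  have hcJ : ∀ (T : Over (Spec (CommRingCat.of k))) (g : T ⟶ G) (v : T ⟶ U), Kills J v → Kills J (ac c g v) := by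
    intro T g v hv
    refine kills_of_local hZl _ fun T' t x => ?_
    rw [comp_ac]
    have hx : Kills I (x ≫ subι I) := (kills_subι I).comp x
    have hx' := hG T' (t ≫ g) _ hx
    rw [← hp T' _ _ hx', ← hcomp]
    exact hG T' _ _ ((hp T' _ _ hx).2 (hv.comp t))
  obtain ⟨mV, hmV⟩ := kills_iff.1 (hcJ _ (fst G (subO J)) (snd G (subO J) ≫ subι J) ((kills_subι J).comp _))
  have hmV' : ∀ (T : Over (Spec (CommRingCat.of k))) (g : T ⟶ G) (x : T ⟶ subO J),
      (lift g x ≫ mV) ≫ subι J = ac c g (x ≫ subι J) := by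
    intro T g x
    rw [Category.assoc, hmV, comp_ac, lift_fst, lift_snd_assoc]
  let c' : AlgGrp.Action G (subO J) := mkAct mV (by
    intro T x
    rw [← cancel_mono (subι J), hmV', one_ac]) (by
    intro T g h x
    rw [← cancel_mono (subι J), hmV', hmV', hmV', mul_ac])
  have hc' : ∀ (T : Over (Spec (CommRingCat.of k))) (g : T ⟶ G) (x : T ⟶ subO J),
      ac c' g x ≫ subι J = ac c g (x ≫ subι J) := hmV'
  have hc'm : ∀ (T : Over (Spec (CommRingCat.of k))) (g : T ⟶ G) (u₁ u₂ : T ⟶ subO J),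
      ac c' g (u₁ * u₂) = ac c' g u₁ * ac c' g u₂ := by
    intro T g u₁ u₂
    rw [← cancel_mono (subι J), hc', MonObj.mul_comp, hc, MonObj.mul_comp, hc', hc']
  have hcomp' : ∀ (T : Over (Spec (CommRingCat.of k))) (g : T ⟶ G) (v : T ⟶ subO J) (p : T ⟶ subO I),
      ac d' g (ac b' v p) = ac b' (ac c' g v) (ac d' g p) := by
    intro T g v p
    rw [← cancel_mono (subι I), hd', hb', hcomp, hb', hc', hd']
  -- coordinates
  obtain ⟨B, _, _, ⟨i⟩⟩ := K826.HomSch.exists_iso_specOver (subO I)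
  obtain ⟨H, _, _, e, he⟩ := exists_hopf k (subO J)
  have hHU : HopfRep.IsUnipotent k H := by
    have h1 : IsMonHom (e.inv ≫ subι J ≫ eU.hom) := inferInstance
    obtain ⟨φ, hφ⟩ := exists_bialgHom_of_isMonHom k (e.inv ≫ subι J ≫ eU.hom)
    refine Groth.Agent.Sga3.H808.Retract.isUnipotent_of_surjective φ ?_ hH₀
    have h2 : IsClosedImmersion (specMap k (φ : H₀ →ₐ[k] H)).left := by
      rw [hφ]
      have : IsIso e.inv.left := inferInstance
      have : IsIso eU.hom.left := inferInstance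
      rw [Over.comp_left, Over.comp_left]
      infer_instance
    exact (Groth.Agent.Books.AffBridge2.isClosedImmersion_specMap_iff k _).1 h2
  have hBn : Nontrivial B := by
    have h1 : Nontrivial Γ((subO I).left, ⊤) := by
      obtain ⟨x⟩ := hneZ
      have : Nonempty (⊤ : (subO I).left.Opens) := ⟨⟨x, trivial⟩⟩
      infer_instance
    exact (bijective_glob i).2.nontrivial
  let d₁ : AlgGrp.Action (SpecOver k A) (SpecOver k B) := tr d' eG.inv i
  let c₁ : AlgGrp.Action (SpecOver k A) (SpecOver k H) := tr c' eG.inv e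
  let b₁ : AlgGrp.Action (SpecOver k H) (SpecOver k B) := tr b' e.inv i
  have hc₁ : ∀ (T : Over (Spec (CommRingCat.of k))) (g : T ⟶ SpecOver k A) (u₁ u₂ : T ⟶ SpecOver k H),
      ac c₁ g (u₁ * u₂) = ac c₁ g u₁ * ac c₁ g u₂ := by
    intro T g u₁ u₂
    rw [ac_tr, ac_tr, ac_tr, MonObj.mul_comp, hc'm, MonObj.mul_comp]
  have hcomp₁ : ∀ (T : Over (Spec (CommRingCat.of k))) (g : T ⟶ SpecOver k A) (v : T ⟶ SpecOver k H)
      (p : T ⟶ SpecOver k B), ac d₁ g (ac b₁ v p) = ac b₁ (ac c₁ g v) (ac d₁ g p) := by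
    intro T g v p
    rw [ac_tr, ac_tr, ac_tr, ac_tr, ac_tr]
    simp only [Category.assoc, Iso.hom_inv_id, Category.comp_id]
    rw [hcomp']
  have hb₁ : IsIso (lift b₁.act (snd (SpecOver k H) (SpecOver k B))) := by
    refine K826.Tors.pseudo_of_existsUnique fun T x y => ?_
    obtain ⟨g, hg, hu⟩ := K826.Tors.existsUnique_of_pseudo hbp (x ≫ i.inv) (y ≫ i.inv)
    change ac b' g (x ≫ i.inv) = y ≫ i.inv at hg
    refine ⟨g ≫ e.hom, ?_, fun g' hg' => ?_⟩
    · change ac b₁ (g ≫ e.hom) x = y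
      rw [ac_tr, Category.assoc, Iso.hom_inv_id, Category.comp_id, hg, Category.assoc, Iso.inv_hom_id,
        Category.comp_id]
    · change ac b₁ g' x = y at hg'
      rw [ac_tr] at hg'
      have h1 : ac b' (g' ≫ e.inv) (x ≫ i.inv) = y ≫ i.inv := by
        rw [← hg', Category.assoc, Iso.hom_inv_id, Category.comp_id]
      rw [← hu _ h1, Category.assoc, Iso.inv_hom_id, Category.comp_id]
  by_cases hK : K826.AddFun.K k B = ⊤
  · -- `V(I)` is a point
    have hbij : Function.Bijective (algebraMap k B) := by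
      refine ⟨FaithfulSMul.algebraMap_injective k B, fun x => ?_⟩
      have hx : x ∈ K826.AddFun.K k B := by rw [hK]; trivial
      exact hx
    have huniq : ∀ (T : Over (Spec (CommRingCat.of k))) (z z' : T ⟶ SpecOver k B), z = z' := by
      intro T z z'
      apply glob_injective
      ext x
      obtain ⟨r, rfl⟩ := hbij.2 x
      exact (congrArg (fun f => f r) (glob_algebraMap z)).trans
        (congrArg (fun f => f r) (glob_algebraMap z')).symm
    have huniq' : ∀ (T : Over (Spec (CommRingCat.of k))) (z z' : T ⟶ subO I), z = z' := by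
      intro T z z'
      rw [← cancel_mono i.hom]
      exact huniq T _ _
    obtain ⟨x, -⟩ := exists_glob (T := 𝟙_ (Over (Spec (CommRingCat.of k)))) (E := B)
      ((str (𝟙_ (Over (Spec (CommRingCat.of k))))).comp (RingEquiv.ofBijective _ hbij).symm.toRingHom) (by
        ext r
        have h1 : (RingEquiv.ofBijective _ hbij).symm (algebraMap k B r) = r :=
          (RingEquiv.ofBijective _ hbij).symm_apply_apply r
        exact congrArg (str (𝟙_ (Over (Spec (CommRingCat.of k))))) h1)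
    refine ⟨(x ≫ i.inv) ≫ subι I, fun T g => ?_⟩
    rw [← Category.assoc, ← hd', huniq' T (ac d' g (toUnit T ≫ x ≫ i.inv)) (toUnit T ≫ x ≫ i.inv)]
  · exfalso
    obtain ⟨L, M, ⟨f₀, hf₀, hf₀'⟩, hLtop, hLG, hLU⟩ :=
      K826.MostowStep.exists_step hA hHU d₁ c₁ b₁ hc₁ hcomp₁ hb₁ hK
    let L' : Set Γ((subO I).left, ⊤) := glob i.hom '' L
    let M' : Set Γ((subO J).left, ⊤) := glob e.hom '' M
    have hLz : ∀ (T : Over (Spec (CommRingCat.of k))) (z : T ⟶ subO I),
        (∀ f ∈ L', z.left.appTop.hom f = 0) ↔ ∀ f ∈ L, glob (z ≫ i.hom) f = 0 := by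
      intro T z
      simp only [L', Set.forall_mem_image, glob_comp]
      rfl
    have hMz : ∀ (T : Over (Spec (CommRingCat.of k))) (z : T ⟶ subO J),
        (∀ f ∈ M', z.left.appTop.hom f = 0) ↔ ∀ f ∈ M, glob (z ≫ e.hom) f = 0 := by
      intro T z
      simp only [M', Set.forall_mem_image, glob_comp]
      rfl
    have hL'top : Ideal.span L' ≠ ⊤ := by
      intro h
      apply hLtop
      have h1 : Ideal.map (glob i.hom) (Ideal.span L) = ⊤ := by rw [Ideal.map_span]; exact h
      have h2 := congrArg (Ideal.comap (glob i.hom)) h1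
      rwa [Ideal.comap_map_of_bijective _ (bijective_glob i), Ideal.comap_top] at h2
    have hfin := hmax ((Ideal.span L').comap (subι I).left.appTop.hom)
      ((Ideal.span M').comap (subι J).left.appTop.hom) (comap_span_ne_top I hL'top) ?_ ?_
      (le_comap_span I L') (le_comap_span J M')
    · refine comap_span_ne I (L := L') (f := glob i.hom f₀) (Set.mem_image_of_mem _ hf₀) ?_ hfin
      rw [Ne, map_eq_zero_iff _ (bijective_glob i).1]
      exact hf₀'
    · intro T x g hx
      obtain ⟨z, rfl, hz⟩ := (kills_comap_span I L' x).1 hx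
      rw [hLz] at hz
      rw [kills_comap_span, kills_comap_span]
      have key : ∀ v : T ⟶ subO J, (∀ f ∈ L, glob (ac b' v z ≫ i.hom) f = 0) ↔
          ∀ m ∈ M, glob (v ≫ e.hom) m = 0 := by
        intro v
        rw [← hLU T (v ≫ e.hom) (z ≫ i.hom) hz, ac_tr]
        simp only [Category.assoc, Iso.hom_inv_id, Category.comp_id]
      constructor
      · rintro ⟨z', hz', hz'L⟩
        have h1 : Kills J g := by
          rw [← hp T (z ≫ subι I) g ((kills_subι I).comp _), ← hz']
          exact (kills_subι I).comp _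
        obtain ⟨v, hv⟩ := kills_iff.1 h1
        refine ⟨v, hv, ?_⟩
        rw [hMz, ← key]
        have h2 : ac b' v z = z' := by
          rw [← cancel_mono (subι I), hb', hv, hz']
        rw [h2, ← hLz]
        exact hz'L
      · rintro ⟨v, rfl, hv⟩
        refine ⟨ac b' v z, hb' _ _ _, ?_⟩
        rw [hLz, key, ← hMz]
        exact hv
    · intro T g x hx
      obtain ⟨z, rfl, hz⟩ := (kills_comap_span I L' x).1 hx
      rw [hLz] at hz
      rw [kills_comap_span]
      refine ⟨ac d' g z, hd' _ _ _, ?_⟩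
      rw [hLz]
      have h1 := hLG T (g ≫ eG.hom) (z ≫ i.hom) hz
      rw [ac_tr] at h1
      simp only [Category.assoc, Iso.hom_inv_id, Category.comp_id] at h1
      exact h1

end main

end K826.MostowMain
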