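import Groth.Agent.PRed.K543.UnipPts
import Groth.Agent.PrincBund.K826.MostowMain
import Groth.Prelude.Def_Par
import Groth.Prelude.Def_AGF

/-!
# Unipotent radicals in characteristic zero: Hopf algebra, conjugacy of lifts
-/

set_option autoImplicit false
universe u

open CategoryTheory CategoryTheory.Limits MonoidalCategory CartesianMonoidalCategory MonObj GrpObj AlgebraicGeometry

namespace K826.URad

open Groth.Agent.Books.AffBridge Groth.Agent.RedSub.H658.TorsDiv K826.MostowMain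

section conn

variable {k : Type u} [Field k]

theorem surjective_geomPt (s : Spec (CommRingCat.of k)) : Surjective (Red.geomPt s) := by
  refine ⟨fun x => ⟨IsLocalRing.closedPoint _, Subsingleton.elim _ _⟩⟩

theorem connectedSpace_of_geom (s : Spec (CommRingCat.of k)) (U : Over (Spec (CommRingCat.of k)))
    (h : ConnectedSpace (Red.geomFibre s U).left) : ConnectedSpace U.left := by
  have hs := surjective_geomPt s
  have h1 : Surjective (pullback.fst U.hom (Red.geomPt s)) := inferInstance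
  have h2 : ConnectedSpace ↥(pullback U.hom (Red.geomPt s)) := h
  exact (pullback.fst U.hom (Red.geomPt s)).surjective.connectedSpace
    (pullback.fst U.hom (Red.geomPt s)).continuous

/-- The unipotent radical is the spectrum of a unipotent Hopf algebra. -/
theorem exists_hopf_unip {G U : Over (Spec (CommRingCat.of k))} [GrpObj G] [IsAffine G.left] [GrpObj U]
    (u : U ⟶ G) (hU : Par.IsUnipotentRadical u) :
    IsAffine U.left ∧ ∃ (A : Type u) (_ : CommRing A) (_ : HopfAlgebra k A) (e : U ≅ SpecOver k A),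
      IsMonHom e.hom ∧ Algebra.Smooth k A ∧ HopfRep.IsUnipotent k A := by
  obtain ⟨-, hcl, -, hsm, -, hgeo, -⟩ := hU
  have haff : IsAffine U.left := isAffine_of_isAffineHom u.left
  have hconn : ConnectedSpace U.left :=
    connectedSpace_of_geom (IsLocalRing.closedPoint k) U (hgeo _).1
  exact ⟨haff, K543.UnipPts.exists_isUnipotent U fun s => (hgeo s).2⟩

end conn

section conj

variable {k : Type u} [Field k] [CharZero k] {G U G' : Over (Spec (CommRingCat.of k))} [GrpObj G] [GrpObj U]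
  [GrpObj G'] [IsAffine U.left]

/-- Two homomorphisms from a linearly reductive group to `G` which agree modulo a normal unipotent subgroup `U` are
conjugate by a rational point of `U`. -/
theorem exists_conj {A : Type u} [CommRing A] [HopfAlgebra k A] (hA : HopfRep.IsLinearlyReductive k A)
    (eG : G' ≅ SpecOver k A) [IsMonHom eG.hom]
    {H₀ : Type u} [CommRing H₀] [HopfAlgebra k H₀] (hH₀ : HopfRep.IsUnipotent k H₀)
    (eU : U ≅ SpecOver k H₀) [IsMonHom eU.hom] (u : U ⟶ G) [IsMonHom u] [Mono u]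
    (hn : AlgGrp.IsNormalHom u) (f₁ f₂ : G' ⟶ G) [IsMonHom f₁] [IsMonHom f₂]
    (hagree : ∀ (T : Over (Spec (CommRingCat.of k))) (x : T ⟶ G'), ∃ w : T ⟶ U, x ≫ f₂ = (w ≫ u) * (x ≫ f₁)) :
    ∃ v : 𝟙_ (Over (Spec (CommRingCat.of k))) ⟶ U, f₂ = AGF.conjBy (v ≫ u) f₁ := by
  -- `f₂(g) p f₁(g)⁻¹`
  have hex : ∀ (T : Over (Spec (CommRingCat.of k))) (g : T ⟶ G') (p : T ⟶ U),
      ∃ q : T ⟶ U, q ≫ u = (g ≫ f₂) * (p ≫ u) * (g ≫ f₁)⁻¹ := by
    intro T g p
    obtain ⟨w, hw⟩ := hagree T g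
    obtain ⟨n, hn⟩ := hn T (g ≫ f₁) p
    refine ⟨w * n, ?_⟩
    rw [MonObj.mul_comp, ← hn, hw]
    group
  obtain ⟨m, hm⟩ := hex (G' ⊗ U) (fst _ _) (snd _ _)
  have hm' : ∀ (T : Over (Spec (CommRingCat.of k))) (g : T ⟶ G') (p : T ⟶ U),
      (lift g p ≫ m) ≫ u = (g ≫ f₂) * (p ≫ u) * (g ≫ f₁)⁻¹ := by
    intro T g p
    rw [Category.assoc, hm, MonObj.comp_mul, MonObj.comp_mul, GrpObj.comp_inv, lift_fst_assoc, lift_snd_assoc,
      lift_fst_assoc]
  obtain ⟨m₂, hm₂⟩ := hn (G' ⊗ U) (fst _ _ ≫ f₂) (snd _ _)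
  have hm₂' : ∀ (T : Over (Spec (CommRingCat.of k))) (g : T ⟶ G') (p : T ⟶ U),
      (lift g p ≫ m₂) ≫ u = (g ≫ f₂) * (p ≫ u) * (g ≫ f₂)⁻¹ := by
    intro T g p
    rw [Category.assoc, ← hm₂, MonObj.comp_mul, MonObj.comp_mul, GrpObj.comp_inv, lift_fst_assoc, lift_snd_assoc]
  let d : AlgGrp.Action G' U := mkAct m (by
    intro T x
    rw [← cancel_mono u, hm', MonObj.one_comp, MonObj.one_comp]
    group) (by
    intro T g h x
    rw [← cancel_mono u, hm', hm', hm', MonObj.mul_comp, MonObj.mul_comp]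
    group)
  let c : AlgGrp.Action G' U := mkAct m₂ (by
    intro T x
    rw [← cancel_mono u, hm₂', MonObj.one_comp]
    group) (by
    intro T g h x
    rw [← cancel_mono u, hm₂', hm₂', hm₂', MonObj.mul_comp]
    group)
  let b : AlgGrp.Action U U := mkAct μ[U] (by
    intro T x
    rw [← Hom.mul_def, _root_.one_mul]) (by
    intro T g h x
    rw [← Hom.mul_def, ← Hom.mul_def, ← Hom.mul_def, _root_.mul_assoc])
  have hd : ∀ (T : Over (Spec (CommRingCat.of k))) (g : T ⟶ G') (p : T ⟶ U),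
      ac d g p ≫ u = (g ≫ f₂) * (p ≫ u) * (g ≫ f₁)⁻¹ := hm'
  have hc : ∀ (T : Over (Spec (CommRingCat.of k))) (g : T ⟶ G') (p : T ⟶ U),
      ac c g p ≫ u = (g ≫ f₂) * (p ≫ u) * (g ≫ f₂)⁻¹ := hm₂'
  have hb : ∀ (T : Over (Spec (CommRingCat.of k))) (g p : T ⟶ U), ac b g p = g * p := by
    intro T g p
    rw [Hom.mul_def]
    rfl
  have hne : Nonempty U.left := ⟨(η[U] : 𝟙_ (Over (Spec (CommRingCat.of k))) ⟶ U).left
    (IsLocalRing.closedPoint k)⟩
  obtain ⟨v, hv⟩ := exists_fixed hA eG hH₀ eU c (by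
    intro T g u₁ u₂
    rw [← cancel_mono u, hc, MonObj.mul_comp, MonObj.mul_comp, hc, hc]
    group) d b (by
      refine K826.Tors.pseudo_of_existsUnique fun T x y => ⟨y * x⁻¹, ?_, fun g hg => ?_⟩
      · change ac b (y * x⁻¹) x = y
        rw [hb]
        group
      · change ac b g x = y at hg
        rw [hb] at hg
        rw [← hg]
        group) (by
    intro T g v p
    rw [hb, hb, ← cancel_mono u, hd, MonObj.mul_comp, MonObj.mul_comp, hc, hd]
    group)
  refine ⟨v, ?_⟩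
  have h1 := congrArg (· ≫ u) (hv G' (𝟙 G'))
  rw [hd, Category.id_comp, Category.id_comp, Category.assoc] at h1
  rw [AGF.conjBy]
  have h2 : f₂ * (toUnit G' ≫ v ≫ u) = (toUnit G' ≫ v ≫ u) * f₁ := by
    rw [← mul_inv_eq_iff_eq_mul]
    exact h1
  rw [← h2]
  group

end conj

end K826.URad
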