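import Groth.Agent.PrincBund.K826.ActFun

/-!
# Additive functions: `f(u⁻¹ z) = f(z) + l(u)`

`F b` is the space of functions `f` on `Z = Spec B` such that `f(u⁻¹ z) = f(z) + l(u)` for some function `l`
on the group `U = Spec H` acting on `Z`.
-/

set_option autoImplicit false
universe u

open CategoryTheory MonoidalCategory CartesianMonoidalCategory MonObj GrpObj AlgebraicGeometry
open TensorProduct

namespace K826.AddFun

open Groth.Agent.Books.AffBridge Groth.Agent.RedSub.H658.TorsDiv Groth.Agent.Sga3.H219.Coact K826.AffHom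
open K826.ActFun Groth.Agent.Books.ComodBasic Groth.Agent.Books.ComodHom HopfRep

variable {k : Type u} [Field k] {B H A : Type u} [CommRing B] [Algebra k B] [CommRing H] [HopfAlgebra k H]
  [CommRing A] [HopfAlgebra k A]

/-- Functions which are additive along `U`. -/
noncomputable def F (b : AlgGrp.Action (SpecOver k H) (SpecOver k B)) : Submodule k B where
  carrier := {f | ∃ l : H, rho k (rt b) f = f ⊗ₜ[k] (1 : H) + (1 : B) ⊗ₜ[k] l}
  add_mem' := by
    rintro f f' ⟨l, hl⟩ ⟨l', hl'⟩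
    refine ⟨l + l', ?_⟩
    rw [map_add, hl, hl', TensorProduct.add_tmul, TensorProduct.tmul_add]
    abel
  zero_mem' := ⟨0, by simp⟩
  smul_mem' := by
    rintro c f ⟨l, hl⟩
    refine ⟨c • l, ?_⟩
    rw [map_smul, hl, smul_add, TensorProduct.smul_tmul', TensorProduct.tmul_smul]

theorem mem_F {b : AlgGrp.Action (SpecOver k H) (SpecOver k B)} {f : B} :
    f ∈ F b ↔ ∃ l : H, rho k (rt b) f = f ⊗ₜ[k] (1 : H) + (1 : B) ⊗ₜ[k] l := Iff.rfl

/-- The constants. -/
noncomputable def K (k : Type u) [Field k] (B : Type u) [CommRing B] [Algebra k B] : Submodule k B :=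
  LinearMap.range (Algebra.linearMap k B)

theorem mem_K {f : B} : f ∈ K k B ↔ ∃ c : k, algebraMap k B c = f := Iff.rfl

theorem K_le_F (b : AlgGrp.Action (SpecOver k H) (SpecOver k B)) : K k B ≤ F b := by
  rintro _ ⟨c, rfl⟩
  refine ⟨0, ?_⟩
  rw [TensorProduct.tmul_zero, add_zero]
  exact (rho k (rt b)).commutes c

theorem isSubcomod_K (b : AlgGrp.Action (SpecOver k H) (SpecOver k B)) :
    letI := cm b
    IsSubcomod (k := k) (A := H) (K k B) := by
  let _ := cm b
  rw [isSubcomod_iff_dact]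
  rintro φ _ ⟨c, rfl⟩
  rw [dact_apply, coact_cm, Algebra.linearMap_apply, AlgHom.commutes]
  change slice B φ (algebraMap k B c ⊗ₜ[k] (1 : H)) ∈ K k B
  rw [slice_tmul]
  exact Submodule.smul_mem _ _ ⟨c, rfl⟩

/-- `1 ⊗ -` is injective. -/
theorem one_tmul_inj [Nontrivial B] {V : Type u} [CommRing V] [Algebra k V] {v w : V}
    (h : (1 : B) ⊗ₜ[k] v = (1 : B) ⊗ₜ[k] w) : v = w :=
  Algebra.TensorProduct.includeRight_injective (R := k) (A := B) (B := V)
    (FaithfulSMul.algebraMap_injective k B) h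

theorem mem_K_of_tmul {f : B} (h : f ⊗ₜ[k] (1 : B) = (1 : B) ⊗ₜ[k] f) : f ∈ K k B := by
  by_cases hB : Nontrivial B
  · obtain ⟨φ, hφ⟩ := Module.Projective.exists_dual_eq_one k (one_ne_zero : (1 : B) ≠ 0)
    have h1 := congrArg (slice B φ) h
    rw [slice_tmul, slice_tmul, hφ, one_smul] at h1
    exact ⟨φ f, by rw [Algebra.linearMap_apply, Algebra.algebraMap_eq_smul_one]; exact h1.symm⟩
  · have : Subsingleton B := not_nontrivial_iff_subsingleton.1 hB
    exact ⟨0, Subsingleton.elim _ _⟩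

/-- Elements of the kernel of `B ⊗ V → B / k ⊗ V` are `1 ⊗ v`. -/
theorem exists_of_mkQ {V : Type u} [AddCommGroup V] [Module k V] {x : B ⊗[k] V}
    (h : (K k B).mkQ.rTensor V x = 0) : ∃ v : V, x = (1 : B) ⊗ₜ[k] v := by
  have hex : Function.Exact ((Algebra.linearMap k B).rTensor V) ((K k B).mkQ.rTensor V) :=
    _root_.rTensor_exact V (f := Algebra.linearMap k B) (g := (K k B).mkQ)
      (by
        intro y
        rw [Submodule.mkQ_apply, Submodule.Quotient.mk_eq_zero]
        exact Iff.rfl) (Submodule.mkQ_surjective _)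
  obtain ⟨y, rfl⟩ := (hex x).1 h
  refine ⟨TensorProduct.lid k V y, ?_⟩
  induction y with
  | zero => simp
  | tmul c v =>
    rw [LinearMap.rTensor_tmul, Algebra.linearMap_apply, TensorProduct.lid_tmul, TensorProduct.tmul_smul,
      Algebra.algebraMap_eq_smul_one, TensorProduct.smul_tmul']
  | add y z hy hz =>
    rw [map_add, map_add, TensorProduct.tmul_add, hy (by
      rw [← LinearMap.comp_apply, ← LinearMap.rTensor_comp]
      have : (K k B).mkQ ∘ₗ Algebra.linearMap k B = 0 := by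
        ext
        simp only [LinearMap.comp_apply, Submodule.mkQ_apply, LinearMap.zero_apply,
          Submodule.Quotient.mk_eq_zero]
        exact ⟨1, rfl⟩
      rw [this, LinearMap.rTensor_zero, LinearMap.zero_apply]), hz (by
      rw [← LinearMap.comp_apply, ← LinearMap.rTensor_comp]
      have : (K k B).mkQ ∘ₗ Algebra.linearMap k B = 0 := by
        ext
        simp only [LinearMap.comp_apply, Submodule.mkQ_apply, LinearMap.zero_apply,
          Submodule.Quotient.mk_eq_zero]
        exact ⟨1, rfl⟩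
      rw [this, LinearMap.rTensor_zero, LinearMap.zero_apply])]

/-- If `U` is unipotent and there are nonconstant functions, there are nonconstant additive functions. -/
theorem exists_mem_F (hU : IsUnipotent k H) (b : AlgGrp.Action (SpecOver k H) (SpecOver k B))
    (hB : K k B ≠ ⊤) : ∃ f ∈ F b, f ∉ K k B := by
  let _ := cm b
  let _ : Comod k H (B ⧸ K k B) := quotComod (K k B) (isSubcomod_K b)
  obtain ⟨f₀, hf₀⟩ : ∃ f₀ : B, f₀ ∉ K k B := by
    by_contra h
    push Not at h
    exact hB (eq_top_iff.2 fun f _ => h f)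
  have h1 : (K k B).mkQ f₀ ≠ 0 := by
    rwa [Submodule.mkQ_apply, Ne, Submodule.Quotient.mk_eq_zero]
  obtain ⟨x, hx, hx'⟩ := Groth.Agent.Sga3.H808.SkewPrim.exists_fixed_of_unipotent hU (B ⧸ K k B) h1
  obtain ⟨f, rfl⟩ := (K k B).mkQ_surjective x
  rw [Submodule.mkQ_apply, Ne, Submodule.Quotient.mk_eq_zero] at hx
  refine ⟨f, ?_, hx⟩
  have h2 : (K k B).mkQ.rTensor H (Comod.coact (k := k) (A := H) f) = (K k B).mkQ f ⊗ₜ[k] (1 : H) := by
    rw [← hx']
    exact (isComodHom_mkQ (K k B) (isSubcomod_K b) f).symm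
  have h3 : (K k B).mkQ.rTensor H (rho k (rt b) f - f ⊗ₜ[k] (1 : H)) = 0 := by
    rw [map_sub, LinearMap.rTensor_tmul, ← h2]
    exact sub_self _
  obtain ⟨l, hl⟩ := exists_of_mkQ h3
  exact ⟨l, by rw [← hl]; abel⟩

section stab

variable (d : AlgGrp.Action (SpecOver k A) (SpecOver k B)) (c : AlgGrp.Action (SpecOver k A) (SpecOver k H))
  (b : AlgGrp.Action (SpecOver k H) (SpecOver k B))
  (hc : ∀ (T : Over (Spec (CommRingCat.of k))) (g : T ⟶ SpecOver k A) (u₁ u₂ : T ⟶ SpecOver k H),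
    ac c g (u₁ * u₂) = ac c g u₁ * ac c g u₂)
  (hcomp : ∀ (T : Over (Spec (CommRingCat.of k))) (g : T ⟶ SpecOver k A) (v : T ⟶ SpecOver k H)
    (p : T ⟶ SpecOver k B), ac d g (ac b v p) = ac b (ac c g v) (ac d g p))

include hc in
theorem ac_inv {T : Over (Spec (CommRingCat.of k))} (g : T ⟶ SpecOver k A) (u : T ⟶ SpecOver k H) :
    ac c g u⁻¹ = (ac c g u)⁻¹ := by
  have h1 : ac c g 1 = 1 := by
    have := hc T g 1 1
    rw [_root_.mul_one] at this
    exact left_eq_mul.1 this
  rw [eq_inv_iff_mul_eq_one, ← hc, inv_mul_cancel, h1]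

include hc hcomp in
theorem ac_inv_ac_inv {T : Over (Spec (CommRingCat.of k))} (g : T ⟶ SpecOver k A) (u : T ⟶ SpecOver k H)
    (z : T ⟶ SpecOver k B) : ac d g⁻¹ (ac b u⁻¹ z) = ac b (ac c g⁻¹ u)⁻¹ (ac d g⁻¹ z) := by
  rw [hcomp, ac_inv c hc]

theorem lift_comp' {R : Type u} [CommRing R] [Algebra k R] {B A : Type u} [CommRing B] [Algebra k B]
    [CommRing A] [HopfAlgebra k A] (a : AlgGrp.Action (SpecOver k A) (SpecOver k B)) (v : B →ₐ[k] R)
    (x : A →ₐ[k] R) : ac a (specMap k x)⁻¹ (specMap k v) =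
      specMap k ((Algebra.TensorProduct.lift v x (fun _ _ => Commute.all _ _)).comp (rho k (rt a))) := by
  rw [← lift_rt, lift_comp]

/-- Slices of a pushed forward element. -/
theorem slice_lift {D : Type u} [CommRing D] [Algebra k D] (w : B →ₐ[k] D) (φ : A →ₗ[k] k) (y : B ⊗[k] A) :
    slice D φ (Algebra.TensorProduct.lift ((Algebra.TensorProduct.includeLeft : D →ₐ[k] D ⊗[k] A).comp w)
      (Algebra.TensorProduct.includeRight : A →ₐ[k] D ⊗[k] A) (fun _ _ => Commute.all _ _) y) =
    w (slice B φ y) := by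
  have h1 : ∀ y : B ⊗[k] A, Algebra.TensorProduct.lift
      ((Algebra.TensorProduct.includeLeft : D →ₐ[k] D ⊗[k] A).comp w)
      (Algebra.TensorProduct.includeRight : A →ₐ[k] D ⊗[k] A) (fun _ _ => Commute.all _ _) y =
      w.toLinearMap.rTensor A y := by
    intro y
    induction y with
    | zero => simp
    | tmul b a => simp
    | add y z hy hz => rw [map_add, map_add, hy, hz]
  rw [h1, slice_rTensor]
  rfl

include hc hcomp in
/-- `F` is a subcomodule for the group `Spec A`, and the additive functions transform accordingly. -/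
theorem rho_slice {f : B} {l : H} (hf : rho k (rt b) f = f ⊗ₜ[k] (1 : H) + (1 : B) ⊗ₜ[k] l)
    (φ : A →ₗ[k] k) : rho k (rt b) (slice B φ (rho k (rt d) f)) =
      (slice B φ (rho k (rt d) f)) ⊗ₜ[k] (1 : H) + (1 : B) ⊗ₜ[k] (slice H φ (rho k (rt c) l)) := by
  let z : B →ₐ[k] (B ⊗[k] H) ⊗[k] A :=
    (Algebra.TensorProduct.includeLeft : (B ⊗[k] H) →ₐ[k] (B ⊗[k] H) ⊗[k] A).comp
      Algebra.TensorProduct.includeLeft
  let u : H →ₐ[k] (B ⊗[k] H) ⊗[k] A :=
    (Algebra.TensorProduct.includeLeft : (B ⊗[k] H) →ₐ[k] (B ⊗[k] H) ⊗[k] A).comp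
      Algebra.TensorProduct.includeRight
  let g : A →ₐ[k] (B ⊗[k] H) ⊗[k] A := Algebra.TensorProduct.includeRight
  have h1 := ac_inv_ac_inv d c b hc hcomp (specMap k g) (specMap k u) (specMap k z)
  rw [lift_comp' b, lift_comp' d, lift_comp' c, lift_comp' d, lift_comp' b] at h1
  have h2 := congrArg (fun q : B →ₐ[k] (B ⊗[k] H) ⊗[k] A => q f) (specMap_injective k h1)
  simp only [AlgHom.comp_apply, hf, map_add, Algebra.TensorProduct.lift_tmul, map_one, _root_.mul_one,
    _root_.one_mul] at h2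
  have h3 : (Algebra.TensorProduct.lift z u (fun _ _ => Commute.all _ _)).comp (rho k (rt b)) =
      (Algebra.TensorProduct.includeLeft : (B ⊗[k] H) →ₐ[k] (B ⊗[k] H) ⊗[k] A).comp (rho k (rt b)) := by
    have h4 : Algebra.TensorProduct.lift z u (fun _ _ => Commute.all _ _) =
        (Algebra.TensorProduct.includeLeft : (B ⊗[k] H) →ₐ[k] (B ⊗[k] H) ⊗[k] A) := by
      apply Algebra.TensorProduct.ext
      · ext x
        simp [z]
      · ext x
        simp [u]
    rw [h4]
  rw [h3] at h2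
  have h5 := congrArg (slice (B ⊗[k] H) φ) h2
  rw [map_add, slice_lift, slice_lift, slice_lift] at h5
  exact h5

include hc hcomp in
theorem isSubcomod_F : letI := cm d; IsSubcomod (k := k) (A := A) (F b) := by
  let _ := cm d
  rw [isSubcomod_iff_dact]
  rintro φ f ⟨l, hl⟩
  exact ⟨_, rho_slice d c b hc hcomp hl φ⟩

end stab

section prim

variable (b : AlgGrp.Action (SpecOver k H) (SpecOver k B))

/-- The additive part is primitive. -/
theorem isPrim [Nontrivial B] {f : B} {l : H} (hf : rho k (rt b) f = f ⊗ₜ[k] (1 : H) + (1 : B) ⊗ₜ[k] l) :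
    CoalgebraStruct.comul (R := k) l = l ⊗ₜ[k] (1 : H) + (1 : H) ⊗ₜ[k] l := by
  let _ := cm b
  have h1 := LinearMap.congr_fun (Comod.coassoc (k := k) (A := H) (V := B)) f
  simp only [LinearMap.comp_apply, coact_cm] at h1
  rw [hf, map_add, map_add, LinearMap.rTensor_tmul, LinearMap.rTensor_tmul, map_add, LinearMap.lTensor_tmul,
    LinearMap.lTensor_tmul] at h1
  rw [coact_cm, coact_cm, hf, map_one, TensorProduct.add_tmul, map_add, Algebra.TensorProduct.one_def,
    LinearEquiv.coe_coe, TensorProduct.assoc_tmul, TensorProduct.assoc_tmul, TensorProduct.assoc_tmul,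
    Bialgebra.comul_one, Algebra.TensorProduct.one_def, add_assoc, add_right_inj, ← TensorProduct.tmul_add] at h1
  exact (one_tmul_inj h1).symm

/-- Invariant functions are constant when `b` is a torsor. -/
theorem mem_K_of_inv (hb : IsIso (lift b.act (snd (SpecOver k H) (SpecOver k B)))) {f : B}
    (hf : rho k (rt b) f = f ⊗ₜ[k] (1 : H)) : f ∈ K k B := by
  apply mem_K_of_tmul
  let x : SpecOver k (B ⊗[k] B) ⟶ SpecOver k B := specMap k Algebra.TensorProduct.includeLeft
  let y : SpecOver k (B ⊗[k] B) ⟶ SpecOver k B := specMap k Algebra.TensorProduct.includeRight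
  have h1 : ac b ((dv b hb x y)⁻¹)⁻¹ x = y := by rw [_root_.inv_inv, ac_dv]
  obtain ⟨w, hw⟩ : ∃ w : H →ₐ[k] B ⊗[k] B, specMap k w = (dv b hb x y)⁻¹ :=
    ⟨specPreimage k _, specMap_specPreimage k _⟩
  rw [← hw, lift_comp'] at h1
  have h2 := congrArg (fun q : B →ₐ[k] B ⊗[k] B => q f) (specMap_injective k h1)
  simp only [AlgHom.comp_apply, hf, Algebra.TensorProduct.lift_tmul, map_one, _root_.mul_one,
    Algebra.TensorProduct.includeLeft_apply, Algebra.TensorProduct.includeRight_apply] at h2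
  exact h2

end prim

end K826.AddFun
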