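import Groth.Agent.PrincBund.K826.PtSurj
import Groth.Agent.Agf.H601.LieCartier
import Mathlib.LinearAlgebra.TensorProduct.Basis
import Groth.Prelude.Def_HopfRep

/-!
# Separation by rational points in characteristic zero
-/

set_option autoImplicit false
universe u v w

open TensorProduct

namespace K826.CharZeroPts

open Groth.Agent.Sga3C.NormalHopfF Groth.Agent.Sga3C.SubHopf

/-- Cartier's theorem, without finiteness hypothesis. -/
theorem isReduced_hopf (k : Type u) [Field k] [IsAlgClosed k] [CharZero k] (A : Type u) [CommRing A]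
    [HopfAlgebra k A] : IsReduced A := by
  refine ⟨fun a ha => ?_⟩
  obtain ⟨D, hD, hfg, haD⟩ := exists_fg_hopfSubalgebra (k := k) (A := A) {a}
  let _ := hopfB hD
  have hft : Algebra.FiniteType k D := D.fg_iff_finiteType.1 hfg
  have hr : IsReduced D := Groth.Agent.Agf.H601.LieCartier.isReduced_hopf k D
  have ha' : a ∈ D := haD (by simp)
  have h1 : IsNilpotent (⟨a, ha'⟩ : D) := by
    obtain ⟨n, hn⟩ := ha
    exact ⟨n, Subtype.ext (by simpa using hn)⟩
  have := h1.eq_zero
  exact congrArg Subtype.val this

theorem isAlgClosed_of_ringEquiv {k : Type u} {K : Type v} [Field k] [Field K] [IsAlgClosed k]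
    (e : k ≃+* K) : IsAlgClosed K := by
  refine IsAlgClosed.of_exists_root _ fun p _ hp => ?_
  have hdeg : (p.map (e.symm : K →+* k)).degree ≠ 0 := by
    rw [Polynomial.degree_map]
    intro h
    exact hp.not_isUnit (Polynomial.isUnit_iff_degree_eq_zero.2 h)
  obtain ⟨x, hx⟩ := IsAlgClosed.exists_root _ hdeg
  refine ⟨e x, ?_⟩
  rw [Polynomial.IsRoot, Polynomial.eval_map] at hx
  have h1 := congrArg (e : k →+* K) hx
  rw [Polynomial.hom_eval₂, map_zero] at h1
  have h2 : ((e : k →+* K).comp (e.symm : K →+* k)) = RingHom.id K := by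
    ext y
    exact e.apply_symm_apply y
  rw [h2, Polynomial.eval₂_id] at h1
  exact h1

/-- In characteristic `0`, the rational points of an affine group scheme over an algebraically closed
field separate functions. -/
theorem exists_point_ne_zero (k : Type u) (A : Type v) [Field k] [IsAlgClosed k] [CharZero k]
    [CommRing A] [HopfAlgebra k A] (a : A) (ha : a ≠ 0) : ∃ g : A →ₐ[k] k, g a ≠ 0 := by
  let K := ULift.{v} k
  have : IsAlgClosed K := isAlgClosed_of_ringEquiv (k := k) (ULift.ringEquiv (R := k)).symm
  have : CharZero K := charZero_of_injective_ringHom (f := (ULift.ringEquiv (R := k)).symm.toRingHom)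
    (ULift.ringEquiv (R := k)).symm.injective
  let A' := K ⊗[k] A
  let a' : A' := 1 ⊗ₜ a
  have ha' : a' ≠ 0 := by
    intro h
    apply ha
    have h2 : Function.Injective (Algebra.TensorProduct.includeRight : A →ₐ[k] K ⊗[k] A) :=
      Algebra.TensorProduct.includeRight_injective (algebraMap k K).injective
    apply h2
    rw [map_zero]
    exact h
  have hred : IsReduced A' := isReduced_hopf K A'
  obtain ⟨g, hg⟩ := PtSurj.exists_point_basicOpen (k := K) a' (fun h => ha' h.eq_zero)
  refine ⟨((ULift.algEquiv (R := k) (A := k)).toAlgHom).comp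
    ((g.restrictScalars k).comp Algebra.TensorProduct.includeRight), ?_⟩
  intro h
  apply hg
  exact (ULift.algEquiv (R := k) (A := k)).injective (h.trans (map_zero _).symm)

/-- An element of `M ⊗ A` all whose contractions vanish is zero. -/
theorem eq_zero_of_contract {k : Type u} {A : Type v} {M : Type w} [Field k] [AddCommGroup A] [Module k A]
    [AddCommGroup M] [Module k M] (z : M ⊗[k] A)
    (hz : ∀ f : M →ₗ[k] k, TensorProduct.lid k A (f.rTensor A z) = 0) : z = 0 := by
  classical
  apply (TensorProduct.equivFinsuppOfBasisLeft (N := A) (Module.Basis.ofVectorSpace k M)).injective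
  rw [map_zero]
  ext i
  rw [TensorProduct.equivFinsuppOfBasisLeft_apply, hz]
  rfl

theorem eq_zero_of_points {k : Type u} {A : Type v} {M : Type w} [Field k] [IsAlgClosed k] [CharZero k]
    [CommRing A] [HopfAlgebra k A] [AddCommGroup M] [Module k M] (z : M ⊗[k] A)
    (hz : ∀ g : A →ₐ[k] k, TensorProduct.rid k M (g.toLinearMap.lTensor M z) = 0) : z = 0 := by
  refine eq_zero_of_contract z fun f => ?_
  by_contra hne
  obtain ⟨g, hg⟩ := exists_point_ne_zero k A _ hne
  apply hg
  have h1 := congrArg f (hz g)
  rw [map_zero] at h1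
  rw [← h1]
  clear h1 hne hg hz
  induction z with
  | zero => simp
  | add x y hx hy => simp only [map_add, hx, hy]
  | tmul m a => simp [mul_comm]

end K826.CharZeroPts
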