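import Groth.Agent.PrincBund.K826.TorsionLin
import Groth.Agent.Sga3B.RG.IdComp
import Groth.Agent.Sga3B.RG.RepAlg
import Groth.Agent.Sga3B.RG.ConjPts
import Groth.Agent.Agf.H593.QuotPt
import Mathlib.GroupTheory.Finiteness

/-!
# Finitely generated dense subgroups of linear algebraic groups in characteristic zero
-/

set_option autoImplicit false
universe u

open WithConv Module
open Groth.Agent.Sga3B.RG

namespace K826.FgDense

variable {K : Type u} [Field K] [IsAlgClosed K] {A : Type u} [CommRing A] [HopfAlgebra K A]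
  [Algebra.FiniteType K A]

theorem exists_trace {V : Type u} [AddCommGroup V] [Module K V] [FiniteDimensional K V]
    {ρ : Representation K (Pt K A) V} (hρ : IsAlg ρ) : ∃ f : A, ∀ g, LinearMap.trace K V (ρ g) = g f := by
  classical
  let b := Module.finBasis K V
  choose a ha using fun i => hρ (b.coord i) (b i)
  refine ⟨∑ i, a i, fun g => ?_⟩
  rw [LinearMap.trace_eq_matrix_trace K b, Matrix.trace]
  have h1 : g (∑ i, a i) = ∑ i, g (a i) := map_sum g.ofConv _ _
  rw [h1]
  refine Finset.sum_congr rfl fun i _ => ?_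
  rw [← ha, Matrix.diag_apply, LinearMap.toMatrix_apply, Module.Basis.coord_apply]

theorem idComp_clSub (H : Subgroup (Pt K A)) : idComp (clSub H) = idComp H := by
  have h4 : clSub (clSub H) = clSub H := clSub_eq_self (isCl_clSub H)
  apply SetLike.coe_injective
  rw [coe_idComp]
  apply eq_idCompSet
  · have h6 := idCompSet_mem (clSub H)
    rwa [h4] at h6
  · exact one_mem_idCompSet (clSub H)

/-- A torsion linear algebraic group in characteristic zero has trivial identity component. -/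
theorem idComp_eq_bot [CharZero K] [IsReduced A] (ht : ∀ g : Pt K A, ∃ n : ℕ, n ≠ 0 ∧ g ^ n = 1) :
    idComp (⊤ : Subgroup (Pt K A)) = ⊥ := by
  obtain ⟨V, _, _, _, ρ, hρ, hinj⟩ := exists_faithful K A
  obtain ⟨f, hf⟩ := exists_trace hρ
  let J := vanIdeal (idComp (⊤ : Subgroup (Pt K A)) : Set (Pt K A))
  have hJ : J.IsPrime := isConn_idComp _
  let D := A ⧸ J
  let f₀ : D := Ideal.Quotient.mk J f
  have hkey : ∀ (g : Pt K A) (m : ℕ), g f = m → m ≤ finrank K V ∧ (m = finrank K V → g = 1) := by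
    intro g m hm
    obtain ⟨n, hn, hgn⟩ := ht g
    have h1 : (ρ g) ^ n = 1 := by rw [← map_pow, hgn, map_one]
    have h2 := TorsionLin.trace_bound hn h1 m (by rw [hf, hm])
    refine ⟨h2.1, fun h => hinj ?_⟩
    rw [h2.2 h, map_one]
  by_cases halg : IsAlgebraic K f₀
  · -- the trace is constant
    have hint : IsIntegral K f₀ := halg.isIntegral
    obtain ⟨c, hc⟩ : f₀ ∈ (algebraMap K D).range :=
      minpoly.mem_range_of_degree_eq_one K f₀
        (IsAlgClosed.degree_eq_one_of_irreducible K (minpoly.irreducible hint))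
    have hval : ∀ g ∈ idComp (⊤ : Subgroup (Pt K A)), g f = c := by
      intro g hg
      have h1 : f - algebraMap K A c ∈ J := by
        rw [← Ideal.Quotient.mk_eq_mk_iff_sub_mem]
        exact hc.symm
      have h2 : g (f - algebraMap K A c) = 0 := h1 g hg
      have h3 : g (f - algebraMap K A c) = g f - c := by
        change g.ofConv (f - algebraMap K A c) = g.ofConv f - c
        rw [map_sub, AlgHom.commutes]
        rfl
      rw [h3] at h2
      exact sub_eq_zero.1 h2
    have hone : c = (finrank K V : K) := by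
      rw [← hval 1 (one_mem _), ← hf, map_one]
      exact LinearMap.trace_one K V
    rw [eq_bot_iff]
    intro g hg
    rw [Subgroup.mem_bot]
    exact (hkey g (finrank K V) (by rw [hval g hg, hone])).2 rfl
  · -- the trace takes a large integral value
    exfalso
    let φ : Polynomial K →ₐ[K] D := Polynomial.aeval f₀
    have hφ : Function.Injective φ := by
      rw [injective_iff_map_eq_zero]
      intro p hp
      by_contra hne
      exact halg ⟨p, hne, hp⟩
    obtain ⟨h, hh, hext⟩ := exists_extend_open φ hφ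
    have hinf : {m : ℕ | finrank K V < m}.Infinite := Set.Ioi_infinite _
    have hfin : {m : ℕ | h.eval (m : K) = 0}.Finite := by
      have h1 : {x : K | h.IsRoot x}.Finite := Polynomial.finite_setOf_isRoot hh
      exact h1.preimage (Nat.cast_injective.injOn)
    obtain ⟨m, hm, hm0⟩ := (hinf.diff hfin).nonempty
    obtain ⟨ψ, hψ⟩ := hext (Polynomial.aeval (m : K)) (by
      rw [Polynomial.coe_aeval_eq_eval]
      exact hm0)
    let g : Pt K A := toConv (ψ.comp (Ideal.Quotient.mkₐ K J))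
    have hg : g f = m := by
      have h1 := congrArg (fun χ => χ Polynomial.X) hψ
      change ψ (Polynomial.aeval f₀ Polynomial.X) = Polynomial.aeval (m : K) Polynomial.X at h1
      rw [Polynomial.aeval_X, Polynomial.aeval_X] at h1
      exact h1
    exact absurd (hkey g m hg).1 (not_le.2 hm)

theorem finite_of_torsion [CharZero K] [IsReduced A] (ht : ∀ g : Pt K A, ∃ n : ℕ, n ≠ 0 ∧ g ^ n = 1) :
    Finite (Pt K A) := by
  have h1 := relIndex_idComp_ne_zero (H := (⊤ : Subgroup (Pt K A))) (by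
    rw [Subgroup.coe_top]
    exact isCl_univ)
  rw [idComp_eq_bot ht, Subgroup.relIndex_top_right, Subgroup.index_bot] at h1
  exact Nat.finite_of_card_ne_zero h1

/-- Finitely generated Zariski dense subgroups exist. -/
theorem exists_fg_dense [CharZero K] [IsReduced A] :
    ∃ Φ : Subgroup (Pt K A), Φ.FG ∧ vanIdeal (Φ : Set (Pt K A)) = ⊥ := by
  classical
  have hNoeth : IsNoetherianRing A := Algebra.FiniteType.isNoetherianRing K A
  let F : Subgroup (Pt K A) → ℕ∞ := fun T => (vanIdeal (idComp T : Set (Pt K A))).height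
  obtain ⟨Φ, hΦ, hmin⟩ : ∃ Φ : Subgroup (Pt K A), Φ.FG ∧ ∀ Φ' : Subgroup (Pt K A), Φ'.FG → F Φ ≤ F Φ' := by
    have hne : (F '' {Φ | Φ.FG}).Nonempty := ⟨_, ⊥, Subgroup.FG.bot, rfl⟩
    obtain ⟨T, hT, hTe⟩ := csInf_mem hne
    refine ⟨T, hT, fun T' hT' => ?_⟩
    rw [hTe]
    exact csInf_le' ⟨T', hT', rfl⟩
  have hmax : ∀ Φ' : Subgroup (Pt K A), Φ'.FG → Φ ≤ Φ' → idComp Φ' = idComp Φ := by
    intro Φ' hΦ' hle
    have h2 : vanIdeal (idComp Φ' : Set (Pt K A)) ≤ vanIdeal (idComp Φ : Set (Pt K A)) :=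
      vanIdeal_anti (idComp_mono hle)
    have hp : (vanIdeal (idComp Φ' : Set (Pt K A))).IsPrime := isConn_idComp _
    have hp2 : (vanIdeal (idComp Φ : Set (Pt K A))).IsPrime := isConn_idComp _
    rcases h2.lt_or_eq with h3 | h3
    · exact absurd (hmin Φ' hΦ') (not_le.2 (Ideal.height_strict_mono_of_isPrime h3))
    · exact SetLike.coe_injective ((isCl_idComp Φ').ext (isCl_idComp Φ) h3)
  let N := idComp Φ
  have hadd : ∀ g : Pt K A, (Φ ⊔ Subgroup.zpowers g).FG ∧ Φ ≤ Φ ⊔ Subgroup.zpowers g ∧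
      g ∈ clSub (Φ ⊔ Subgroup.zpowers g) := by
    intro g
    refine ⟨hΦ.sup ((Subgroup.fg_iff _).2 ⟨{g}, (Subgroup.zpowers_eq_closure g).symm, Set.finite_singleton g⟩),
      le_sup_left, le_clSub _ (Subgroup.mem_sup_right (Subgroup.mem_zpowers g))⟩
  have hnormal : N.Normal := by
    refine ⟨fun x hx g => ?_⟩
    obtain ⟨h1, h2, h3⟩ := hadd g
    have h4 : idComp (clSub (Φ ⊔ Subgroup.zpowers g)) = N := by
      rw [idComp_clSub, hmax _ h1 h2]
    rw [← h4] at hx ⊢
    exact conj_mem_idComp (isCl_clSub _) (fun h hh => mul_mem (mul_mem h3 hh) (inv_mem h3)) hx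
  have htors : ∀ g : Pt K A, ∃ n : ℕ, n ≠ 0 ∧ g ^ n ∈ N := by
    intro g
    obtain ⟨h1, h2, h3⟩ := hadd g
    have h4 : idComp (clSub (Φ ⊔ Subgroup.zpowers g)) = N := by
      rw [idComp_clSub, hmax _ h1 h2]
    have h5 := relIndex_idComp_ne_zero (isCl_clSub (Φ ⊔ Subgroup.zpowers g))
    obtain ⟨n, hn, -, hn'⟩ := Subgroup.exists_pow_mem_of_relIndex_ne_zero h5 h3
    rw [h4] at hn'
    exact ⟨n, hn.ne', hn'.1⟩
  obtain ⟨C, _, _, φ, hCft, hφ, hsurj, hker⟩ := Groth.Agent.Agf.H593.QuotPt.exists_quotient N (isCl_idComp Φ) hnormal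
  have hCred : IsReduced C := isReduced_of_injective (φ : C →+* A) hφ
  have hfin : Finite (Pt K C) := by
    apply finite_of_torsion
    intro q
    obtain ⟨g, rfl⟩ := hsurj q
    obtain ⟨n, hn, hgn⟩ := htors g
    refine ⟨n, hn, ?_⟩
    rw [← hker, MonoidHom.mem_ker, map_pow] at hgn
    exact hgn
  have hsec : ∀ q : Pt K C, ∃ g : Pt K A, Pt.map φ g = q := hsurj
  choose s hs using hsec
  let T : Subgroup (Pt K A) := Subgroup.closure (Set.range s)
  have hT : T.FG := (Subgroup.fg_iff _).2 ⟨Set.range s, rfl, Set.finite_range s⟩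
  refine ⟨Φ ⊔ T, hΦ.sup hT, ?_⟩
  have htop : clSub (Φ ⊔ T) = ⊤ := by
    rw [eq_top_iff]
    intro g _
    have h1 : s (Pt.map φ g) ∈ clSub (Φ ⊔ T) :=
      le_clSub _ (Subgroup.mem_sup_right (Subgroup.subset_closure ⟨_, rfl⟩))
    have h2 : (s (Pt.map φ g))⁻¹ * g ∈ N := by
      rw [← hker, MonoidHom.mem_ker, map_mul, map_inv, hs, inv_mul_cancel]
    have h3 : (s (Pt.map φ g))⁻¹ * g ∈ clSub (Φ ⊔ T) := by
      have h4 : N ≤ clSub Φ := idComp_le_clSub Φ
      have h5 : clSub Φ ≤ clSub (Φ ⊔ T) := clSub_le (le_sup_left.trans (le_clSub _)) (isCl_clSub _)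
      exact h5 (h4 h2)
    have := mul_mem h1 h3
    rwa [mul_inv_cancel_left] at this
  rw [← vanIdeal_clSub, htop, Subgroup.coe_top]
  exact vanIdeal_univ

end K826.FgDense
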