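import Mathlib.AlgebraicGeometry.Sites.Fpqc
import Groth.Agent.Desc.SecPresheaf
import Groth.Agent.Picfga.OverRep

/-!
# Sheaves on `Over X` for the fpqc topology, in elementary form

* `IsFpqcSheaf Q`: sheaf condition for sieves of `T.left` in Mathlib's fpqc topology;
* `isFpqcSheaf_yoneda`;
* `IsFpqcSheaf.isZarSheaf`, `IsFpqcSheaf.isDesc`: the elementary Zariski / single-morphism conditions used in
  `Groth.Agent.Desc`.
-/

set_option autoImplicit false
universe w u

open CategoryTheory CategoryTheory.Limits AlgebraicGeometry Opposite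
open Groth.Agent.Desc.SecPresheaf Groth.Agent.Picfga.OverRep

namespace K826.FpqcSheaf

variable {S : Scheme.{u}}

/-- The sheaf condition for the fpqc topology, for a presheaf on `Over S`. -/
def IsFpqcSheaf (Q : (Over S)ᵒᵖ ⥤ Type w) : Prop :=
  ∀ (T : Over S) (Sv : Sieve T.left) (_ : Sv ∈ Scheme.fpqcTopology T.left)
    (f : ∀ (T' : Over S) (t : T' ⟶ T), Sv t.left → Q.obj (op T')),
    (∀ (T' T'' : Over S) (r : T'' ⟶ T') (t : T' ⟶ T) (ht : Sv t.left) (ht' : Sv (r ≫ t).left),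
      Q.map r.op (f T' t ht) = f T'' (r ≫ t) ht') →
    ∃! h : Q.obj (op T), ∀ (T' : Over S) (t : T' ⟶ T) (ht : Sv t.left), Q.map t.op h = f T' t ht

/-- Separatedness. -/
theorem IsFpqcSheaf.ext {Q : (Over S)ᵒᵖ ⥤ Type w} (hQ : IsFpqcSheaf Q) {T : Over S}
    {Sv : Sieve T.left} (hS : Sv ∈ Scheme.fpqcTopology T.left) {a b : Q.obj (op T)}
    (h : ∀ (T' : Over S) (t : T' ⟶ T), Sv t.left → Q.map t.op a = Q.map t.op b) : a = b := by
  obtain ⟨c, hc, hu⟩ := hQ T Sv hS (fun T' t _ => Q.map t.op b) (by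
    intro T' T'' r t ht ht'
    simp)
  rw [hu a fun T' t ht => h T' t ht, hu b fun T' t ht => rfl]

theorem isSheaf_yoneda (Z : Scheme.{u}) :
    Presieve.IsSheaf Scheme.fpqcTopology.{u} (yoneda.obj Z) :=
  GrothendieckTopology.Subcanonical.isSheaf_of_isRepresentable (J := Scheme.fpqcTopology) _

theorem isFpqcSheaf_yoneda (Y : Over S) : IsFpqcSheaf (yoneda.obj Y) := by
  intro T Sv hS f hf
  have hsh := (isSheaf_yoneda Y.left) _ hS
  have hcg : ∀ (T' : Over S) (t t' : T' ⟶ T) (_ : t = t') (ht : Sv t.left) (ht' : Sv t'.left),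
      f T' t ht = f T' t' ht' := by
    rintro T' t t' rfl ht ht'
    rfl
  let fam : Presieve.FamilyOfElements (yoneda.obj Y.left) Sv.arrows :=
    fun Z r hr => (f (Over.mk (r ≫ T.hom)) (Over.homMk r) hr).left
  have hpt : ∀ (T' : Over S) (t : T' ⟶ T) (ht : Sv t.left), fam t.left ht = (f T' t ht).left := by
    intro T' t ht
    let e : Over.mk (t.left ≫ T.hom) ⟶ T' := Over.homMk (𝟙 _) (by simp)
    have h2 : e ≫ t = (Over.homMk t.left : Over.mk (t.left ≫ T.hom) ⟶ T) := by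
      ext1
      simp [e]
    have ht' : Sv (e ≫ t).left := by rw [h2]; exact ht
    have h1 := hf _ _ e t ht ht'
    have h3 : f (Over.mk (t.left ≫ T.hom)) (e ≫ t) ht' =
        f (Over.mk (t.left ≫ T.hom)) (Over.homMk t.left) ht := hcg _ _ _ h2 _ _
    have h4 : (f T' t ht).left = ((yoneda.obj Y).map e.op (f T' t ht)).left := by
      change _ = 𝟙 _ ≫ (f T' t ht).left
      rw [Category.id_comp]
    rw [h4, h1, h3]
  have hcomp : fam.Compatible := by
    rw [Presieve.compatible_iff_sieveCompatible]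
    intro Z W r g hr
    let e : Over.mk ((g ≫ r) ≫ T.hom) ⟶ Over.mk (r ≫ T.hom) := Over.homMk g (by simp)
    let r0 : Over.mk (r ≫ T.hom) ⟶ T := Over.homMk r
    have he : (Over.homMk (g ≫ r) : Over.mk ((g ≫ r) ≫ T.hom) ⟶ T) = e ≫ r0 := by
      ext1
      simp [e, r0]
    have h1 := hf _ _ e r0 hr (by rw [← he]; exact Sv.downward_closed hr g)
    have h2 := hcg _ _ _ he (Sv.downward_closed hr g) (by rw [← he]; exact Sv.downward_closed hr g)
    change (f _ (Over.homMk (g ≫ r) : Over.mk ((g ≫ r) ≫ T.hom) ⟶ T) _).left = _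
    rw [h2, ← h1]
    rfl
  obtain ⟨h0, hh0, hu⟩ := hsh fam hcomp
  have hh1 : ∀ (T' : Over S) (t : T' ⟶ T) (ht : Sv t.left), t.left ≫ h0 = (f T' t ht).left := by
    intro T' t ht
    rw [← hpt T' t ht]
    exact hh0 t.left ht
  have hover : h0 ≫ Y.hom = T.hom := by
    refine ((isSheaf_yoneda S).isSeparated _ hS).ext fun Z r hr => ?_
    change r ≫ h0 ≫ Y.hom = r ≫ T.hom
    have h1 := hh0 r hr
    change r ≫ h0 = fam r hr at h1
    rw [← Category.assoc, h1]
    exact Over.w (f (Over.mk (r ≫ T.hom)) (Over.homMk r) hr)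
  refine ⟨(Over.homMk h0 hover : T ⟶ Y), fun T' t ht => ?_, fun h' hh' => ?_⟩
  · exact Over.OverMorphism.ext (hh1 T' t ht)
  · refine Over.OverMorphism.ext ?_
    refine ((isSheaf_yoneda Y.left).isSeparated _ hS).ext fun Z r hr => ?_
    have h5 := congrArg (fun m => m.left) (hh' (Over.mk (r ≫ T.hom)) (Over.homMk r) hr)
    have h6 := hh1 (Over.mk (r ≫ T.hom)) (Over.homMk r) hr
    change r ≫ h'.left = _ at h5
    change r ≫ h0 = _ at h6
    change r ≫ h'.left = r ≫ h0
    rw [h5, h6]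

/-- An fpqc sheaf satisfies the elementary Zariski sheaf condition. -/
theorem IsFpqcSheaf.isZarSheaf {Q : (Over S)ᵒᵖ ⥤ Type w} (hQ : IsFpqcSheaf Q) : IsZarSheaf Q := by
  intro T 𝒰 x hx
  have hcov : Sieve.ofArrows (fun i : 𝒰.ι => (𝒰.V i).left) (fun i => (𝒰.j i).left) ∈
      Scheme.fpqcTopology T.left := by
    have := 𝒰.openCover.mem₀
    exact Precoverage.generate_mem_toGrothendieck (Scheme.zariskiPrecoverage_le_fpqcPrecoverage _ this)
  have hfac : ∀ (T' : Over S) (t : T' ⟶ T),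
      (Sieve.ofArrows (fun i : 𝒰.ι => (𝒰.V i).left) (fun i => (𝒰.j i).left)) t.left →
      ∃ (i : 𝒰.ι) (q : T' ⟶ 𝒰.V i), q ≫ 𝒰.j i = t := by
    rintro T' t ht
    rw [Sieve.mem_ofArrows_iff] at ht
    obtain ⟨i, q, hq⟩ := ht
    refine ⟨i, Over.homMk q ?_, ?_⟩
    · rw [← Over.w (𝒰.j i), ← Category.assoc, ← hq]
      exact Over.w t
    · ext1
      exact hq.symm
  choose i q hq using hfac
  obtain ⟨h, hh, hu⟩ := hQ T _ hcov (fun T' t ht => Q.map (q T' t ht).op (x (i T' t ht))) (by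
    intro T' T'' r t ht ht'
    rw [← ConcreteCategory.comp_apply, ← Q.map_comp, ← op_comp]
    apply hx
    rw [Category.assoc, hq, hq])
  have hmem : ∀ i : 𝒰.ι, (Sieve.ofArrows (fun i : 𝒰.ι => (𝒰.V i).left) (fun i => (𝒰.j i).left))
      (𝒰.j i).left := fun i => Sieve.ofArrows_mk _ _ i
  have h1 : ∀ i, Q.map (𝒰.j i).op h = x i := by
    intro k
    rw [hh _ (𝒰.j k) (hmem k)]
    have := hx _ _ _ (q _ (𝒰.j k) (hmem k)) (𝟙 _) (by rw [hq, Category.id_comp])
    rw [this]
    simp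
  refine ⟨h, h1, fun h' hh' => ?_⟩
  refine hQ.ext hcov fun T' t ht => ?_
  rw [← hq T' t ht, op_comp, Q.map_comp, ConcreteCategory.comp_apply, ConcreteCategory.comp_apply,
    h1, hh']

/-- An fpqc sheaf satisfies the sheaf condition for single fpqc morphisms. -/
theorem IsFpqcSheaf.isDesc {Q : (Over S)ᵒᵖ ⥤ Type w} (hQ : IsFpqcSheaf Q) {T' T : Over S}
    (g : T' ⟶ T) (h1 : Flat g.left) (h2 : Surjective g.left) (h3 : QuasiCompact g.left) :
    IsDesc Q g := by
  have hcov : Sieve.generate (Presieve.singleton g.left) ∈ Scheme.fpqcTopology T.left :=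
    Precoverage.generate_mem_toGrothendieck g.left.singleton_mem_fpqcPrecoverage
  have hfac : ∀ (T'' : Over S) (t : T'' ⟶ T), (Sieve.generate (Presieve.singleton g.left)) t.left →
      ∃ (q : T'' ⟶ T'), q ≫ g = t := by
    rintro T'' t ⟨Z, q, _, ⟨⟩, hq⟩
    refine ⟨Over.homMk q ?_, ?_⟩
    · rw [← Over.w g, ← Category.assoc, hq]
      exact Over.w t
    · ext1
      exact hq
  constructor
  · intro a b hab
    refine hQ.ext hcov fun T'' t ht => ?_
    obtain ⟨q, rfl⟩ := hfac T'' t ht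
    rw [op_comp, Q.map_comp, ConcreteCategory.comp_apply, ConcreteCategory.comp_apply, hab]
  · intro a ha
    choose q hq using hfac
    obtain ⟨h, hh, -⟩ := hQ T _ hcov (fun T'' t ht => Q.map (q T'' t ht).op a) (by
      intro U' U'' r t ht ht'
      rw [← ConcreteCategory.comp_apply, ← Q.map_comp, ← op_comp]
      apply ha
      rw [Category.assoc, hq, hq])
    refine ⟨h, ?_⟩
    have hm : (Sieve.generate (Presieve.singleton g.left)) g.left :=
      ⟨_, 𝟙 _, g.left, Presieve.singleton_self _, Category.id_comp _⟩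
    rw [hh _ g hm, ha _ (q _ g hm) (𝟙 _) (by rw [hq, Category.id_comp])]
    simp

end K826.FpqcSheaf
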