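import Mathlib.AlgebraicGeometry.Morphisms.ClosedImmersion
import Mathlib.AlgebraicGeometry.AffineScheme
import Mathlib.CategoryTheory.Comma.Over.Basic

/-!
# Closed subschemes of an affine object of `Over S` attached to ideals, in terms of points
-/

set_option autoImplicit false
universe u

open CategoryTheory CategoryTheory.Limits AlgebraicGeometry Opposite

namespace K826.Kill

variable {S : Scheme.{u}} {P : Over S}

/-- The point `x` of `P` is killed by the ideal `I` of global functions. -/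
def Kills (I : Ideal Γ(P.left, ⊤)) {T : Over S} (x : T ⟶ P) : Prop :=
  I ≤ RingHom.ker x.left.appTop.hom

theorem Kills.comp {I : Ideal Γ(P.left, ⊤)} {T T' : Over S} {x : T ⟶ P} (h : Kills I x)
    (t : T' ⟶ T) : Kills I (t ≫ x) := by
  intro f hf
  rw [RingHom.mem_ker]
  have h1 : (t ≫ x).left.appTop.hom f = t.left.appTop.hom (x.left.appTop.hom f) := by
    simp
  rw [h1, (RingHom.mem_ker).1 (h hf), map_zero]

theorem kills_bot {T : Over S} (x : T ⟶ P) : Kills (⊥ : Ideal Γ(P.left, ⊤)) x := bot_le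

theorem kills_sSup {s : Set (Ideal Γ(P.left, ⊤))} {T : Over S} {x : T ⟶ P} :
    Kills (sSup s) x ↔ ∀ I ∈ s, Kills I x := sSup_le_iff

theorem kills_mono {I J : Ideal Γ(P.left, ⊤)} (h : I ≤ J) {T : Over S} {x : T ⟶ P}
    (hx : Kills J x) : Kills I x := h.trans hx

variable [IsAffine P.left]

/-- The closed subscheme attached to an ideal of global functions. -/
noncomputable def subO (I : Ideal Γ(P.left, ⊤)) : Over S :=
  Over.mk (Spec.map (CommRingCat.ofHom (Ideal.Quotient.mk I)) ≫ P.left.isoSpec.inv ≫ P.hom)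

/-- Its inclusion. -/
noncomputable def subι (I : Ideal Γ(P.left, ⊤)) : subO I ⟶ P :=
  Over.homMk (Spec.map (CommRingCat.ofHom (Ideal.Quotient.mk I)) ≫ P.left.isoSpec.inv)
    (by simp [subO])

instance (I : Ideal Γ(P.left, ⊤)) : IsAffine (subO I).left :=
  inferInstanceAs (IsAffine (Spec _))

instance (I : Ideal Γ(P.left, ⊤)) : IsClosedImmersion (subι I).left := by
  have h1 : IsClosedImmersion (Spec.map (CommRingCat.ofHom (Ideal.Quotient.mk I))) :=
    IsClosedImmersion.spec_of_surjective _ Ideal.Quotient.mk_surjective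
  change IsClosedImmersion (Spec.map (CommRingCat.ofHom (Ideal.Quotient.mk I)) ≫ P.left.isoSpec.inv)
  infer_instance

instance (I : Ideal Γ(P.left, ⊤)) : Mono (subι I) :=
  Over.mono_of_mono_left (subι I)

theorem isoSpec_inv_appTop (Y : Scheme.{u}) [IsAffine Y] :
    Y.isoSpec.inv.appTop = (Scheme.ΓSpecIso Γ(Y, ⊤)).inv := by
  have h4 : Y.isoSpec.hom.appTop = (Scheme.ΓSpecIso Γ(Y, ⊤)).hom := Scheme.toSpecΓ_appTop Y
  have h5 : Y.isoSpec.inv.appTop ≫ (Scheme.ΓSpecIso Γ(Y, ⊤)).hom = 𝟙 _ := by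
    rw [← h4, ← Scheme.Hom.comp_appTop, Iso.hom_inv_id, Scheme.Hom.id_appTop]
  rw [← cancel_mono (Scheme.ΓSpecIso Γ(Y, ⊤)).hom, h5, Iso.inv_hom_id]

theorem kills_subι (I : Ideal Γ(P.left, ⊤)) : Kills I (subι I) := by
  intro f hf
  rw [RingHom.mem_ker]
  let m : Γ(P.left, ⊤) ⟶ CommRingCat.of (Γ(P.left, ⊤) ⧸ I) := CommRingCat.ofHom (Ideal.Quotient.mk I)
  have h1 : (subι I).left = Spec.map m ≫ P.left.isoSpec.inv := rfl
  have h5 : (subι I).left.appTop = m ≫ (Scheme.ΓSpecIso _).inv := by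
    rw [h1, Scheme.Hom.comp_appTop, isoSpec_inv_appTop]
    exact (Scheme.ΓSpecIso_inv_naturality m).symm
  rw [h5]
  change (Scheme.ΓSpecIso (CommRingCat.of (Γ(P.left, ⊤) ⧸ I))).inv.hom (Ideal.Quotient.mk I f) = 0
  rw [Ideal.Quotient.eq_zero_iff_mem.mpr hf]
  exact map_zero _

theorem surjective_appTop {Z : Over S} (z : Z ⟶ P) [IsClosedImmersion z.left] :
    Function.Surjective z.left.appTop.hom :=
  (IsClosedImmersion.isAffine_surjective_of_isAffine z.left).2

/-- Lifting through a closed immersion. -/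
theorem exists_lift_of_ker_le {Z : Over S} (z : Z ⟶ P) [IsClosedImmersion z.left] {T : Over S}
    {x : T ⟶ P} (hx : Kills (RingHom.ker z.left.appTop.hom) x) : ∃ x' : T ⟶ Z, x' ≫ z = x := by
  have haff : IsAffine Z.left := (IsClosedImmersion.isAffine_surjective_of_isAffine z.left).1
  have hs := surjective_appTop z
  let φ : Γ(Z.left, ⊤) ⟶ Γ(T.left, ⊤) :=
    CommRingCat.ofHom (RingHom.liftOfSurjective z.left.appTop.hom hs ⟨x.left.appTop.hom, hx⟩)
  have hφ : z.left.appTop ≫ φ = x.left.appTop := by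
    ext f
    exact RingHom.liftOfRightInverse_comp_apply _ _ (Function.rightInverse_surjInv hs)
      ⟨x.left.appTop.hom, hx⟩ f
  have h1 : (T.left.toSpecΓ ≫ Spec.map φ ≫ Z.left.isoSpec.inv) ≫ z.left = x.left := by
    rw [Category.assoc, Category.assoc, ← Scheme.isoSpec_inv_naturality, ← Spec.map_comp_assoc, hφ]
    rw [← Scheme.toSpecΓ_naturality_assoc, Scheme.toSpecΓ_isoSpec_inv, Category.comp_id]
  refine ⟨Over.homMk (T.left.toSpecΓ ≫ Spec.map φ ≫ Z.left.isoSpec.inv) ?_, ?_⟩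
  · rw [← Over.w z, ← Category.assoc, h1, Over.w x]
  · ext1
    exact h1

/-- For a closed immersion `z : Z ⟶ P`, a point of `P` is killed by the kernel of `Γ(P) → Γ(Z)` iff it
factors through `Z`. -/
theorem kills_ker_iff {Z : Over S} (z : Z ⟶ P) [IsClosedImmersion z.left] {T : Over S} {x : T ⟶ P} :
    Kills (RingHom.ker z.left.appTop.hom) x ↔ ∃ x' : T ⟶ Z, x' ≫ z = x :=
  ⟨exists_lift_of_ker_le z, by rintro ⟨x', rfl⟩; exact Kills.comp le_rfl x'⟩

theorem ker_subι (I : Ideal Γ(P.left, ⊤)) : RingHom.ker (subι I).left.appTop.hom = I := by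
  refine le_antisymm ?_ (kills_subι I)
  intro f hf
  rw [RingHom.mem_ker] at hf
  let m : Γ(P.left, ⊤) ⟶ CommRingCat.of (Γ(P.left, ⊤) ⧸ I) := CommRingCat.ofHom (Ideal.Quotient.mk I)
  have h1 : (subι I).left = Spec.map m ≫ P.left.isoSpec.inv := rfl
  have h5 : (subι I).left.appTop = m ≫ (Scheme.ΓSpecIso _).inv := by
    rw [h1, Scheme.Hom.comp_appTop, isoSpec_inv_appTop]
    exact (Scheme.ΓSpecIso_inv_naturality m).symm
  rw [h5] at hf
  have h6 : (Scheme.ΓSpecIso (CommRingCat.of (Γ(P.left, ⊤) ⧸ I))).inv.hom (Ideal.Quotient.mk I f) =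
      (Scheme.ΓSpecIso (CommRingCat.of (Γ(P.left, ⊤) ⧸ I))).inv.hom 0 := by
    rw [map_zero]; exact hf
  exact Ideal.Quotient.eq_zero_iff_mem.mp
    ((ConcreteCategory.bijective_of_isIso (Scheme.ΓSpecIso (CommRingCat.of (Γ(P.left, ⊤) ⧸ I))).inv).1 h6)

theorem exists_lift {I : Ideal Γ(P.left, ⊤)} {T : Over S} {x : T ⟶ P} (hx : Kills I x) :
    ∃ x' : T ⟶ subO I, x' ≫ subι I = x :=
  exists_lift_of_ker_le (subι I) (by rwa [ker_subι])

theorem kills_iff {I : Ideal Γ(P.left, ⊤)} {T : Over S} {x : T ⟶ P} :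
    Kills I x ↔ ∃ x' : T ⟶ subO I, x' ≫ subι I = x :=
  ⟨exists_lift, by rintro ⟨x', rfl⟩; exact (kills_subι I).comp x'⟩

/-- `subO I` is nonempty when `I` is proper. -/
theorem nonempty_subO {I : Ideal Γ(P.left, ⊤)} (hI : I ≠ ⊤) : Nonempty (subO I).left := by
  have : Nontrivial (Γ(P.left, ⊤) ⧸ I) := Ideal.Quotient.nontrivial_iff.mpr hI
  exact inferInstanceAs (Nonempty (PrimeSpectrum (Γ(P.left, ⊤) ⧸ I)))

end K826.Kill
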