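import Groth.Agent.PrincBund.K826.ZornPair
import Groth.Agent.S14540
import Groth.Agent.Sga3B.RadGlue409

/-!
# The maximal reduction has trivial group: step for one finite type quotient
-/

set_option autoImplicit false
universe u

open CategoryTheory CategoryTheory.Limits MonoidalCategory CartesianMonoidalCategory MonObj GrpObj AlgebraicGeometry

namespace K826.ZornStep

open K826.Kill K826.TorsField K826.ZornPair Groth.Agent.RedSub.H658.TorsDiv

variable {k : Type u} [Field k]

/-- A section of a separated morphism is a closed immersion. -/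
theorem isClosedImmersion_section {S : Scheme.{u}} {P : Over S} [IsSeparated P.hom] (y : 𝟙_ (Over S) ⟶ P) :
    IsClosedImmersion y.left := by
  have h : y.left ≫ P.hom = 𝟙 S := Over.w y
  have h0 : IsClosedImmersion (𝟙 S) := inferInstance
  have : IsClosedImmersion (y.left ≫ P.hom) := by rw [h]; exact h0
  exact IsClosedImmersion.of_comp y.left P.hom

/-- A nonempty scheme locally of finite type over an algebraically closed field has a rational point. -/
theorem exists_point [IsAlgClosed k] (P : Over (Spec (CommRingCat.of k))) [Nonempty P.left]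
    [LocallyOfFiniteType P.hom] : Nonempty (𝟙_ (Over (Spec (CommRingCat.of k))) ⟶ P) := by
  obtain ⟨y, hy, -⟩ := Groth.Agent.Sga3B.RadGlue409.exists_point_mem P.hom (W := Set.univ) isOpen_univ
    Set.univ_nonempty (IsLocalRing.closedPoint k)
  exact ⟨Over.homMk y hy⟩

theorem ker_ne_top {S : Scheme.{u}} {Z P : Over S} (z : Z ⟶ P) [Nonempty Z.left] :
    RingHom.ker z.left.appTop.hom ≠ ⊤ := by
  intro h
  have h1 : (1 : Γ(P.left, ⊤)) ∈ RingHom.ker z.left.appTop.hom := by rw [h]; trivial
  rw [RingHom.mem_ker, map_one] at h1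
  obtain ⟨x⟩ := ‹Nonempty Z.left›
  have h2 : (1 : Z.left.presheaf.stalk x) = 0 := by
    have := congrArg (Z.left.presheaf.germ ⊤ x trivial).hom h1
    rwa [map_one, map_zero] at this
  exact one_ne_zero h2

variable {G P : Over (Spec (CommRingCat.of k))} [GrpObj G] [IsAffine G.left] [IsAffine P.left]
  {a : AlgGrp.Action G P} {I : Ideal Γ(P.left, ⊤)} {J : Ideal Γ(G.left, ⊤)}

/-- Step: for a maximal reduction `(I, J)` every flat surjective homomorphism from `V(J)` to an affine group of
finite type is trivial. -/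
theorem hom_trivial [IsAlgClosed k] (ha : IsIso (lift a.act (snd G P)))
    (hp : Pr a I J) (hI : I ≠ ⊤)
    (hmax : ∀ (I' : Ideal Γ(P.left, ⊤)) (J' : Ideal Γ(G.left, ⊤)), I' ≠ ⊤ → Pr a I' J' → I ≤ I' →
      J ≤ J' → I' = I) [GrpObj (subO J)] [IsMonHom (subι J)]
    (H : Over (Spec (CommRingCat.of k))) [GrpObj H] [IsAffine H.left] [LocallyOfFiniteType H.hom]
    (h : subO J ⟶ H) [IsMonHom h] [Surjective h.left] (T : Over (Spec (CommRingCat.of k)))
    (g : T ⟶ subO J) : g ≫ h = 1 := by
  have hne : Nonempty (subO I).left := nonempty_subO hI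
  have hZl : NonAbH1.IsLocallyTrivialFor Scheme.fpqcPrecoverage (subO I) := locTriv_of_nonempty _
  obtain ⟨b, hb⟩ := exists_act hp
  have hbp := pseudo_act hp ha b hb
  obtain ⟨P', q, hq⟩ := Groth.Agent.S14540.result h
    (⟨subO I, b, hbp, hZl⟩ : NonAbH1.TorsorSch (subO J) Scheme.fpqcPrecoverage)
  change b.act ≫ q = lift (fst (subO J) (subO I) ≫ h) (snd (subO J) (subO I) ≫ q) ≫ P'.act.act at hq
  have hqp : ∀ (T : Over (Spec (CommRingCat.of k))) (g : T ⟶ subO J) (x : T ⟶ subO I),
      ac b g x ≫ q = ac P'.act (g ≫ h) (x ≫ q) := by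
    intro T g x
    rw [ac, Category.assoc, hq, comp_lift_assoc, lift_fst_assoc, lift_snd_assoc, ac]
  have hne' : Nonempty P'.X.left := nonempty_of_locTriv P'.isTorsor.2
  have hlft : LocallyOfFiniteType P'.X.hom := locallyOfFiniteType_of_torsor P'.act P'.isTorsor.1
  have haff : IsAffine P'.X.left := isAffine_of_torsor P'.act P'.isTorsor.1
  obtain ⟨y⟩ := exists_point P'.X
  have hP's : IsIso (lift P'.act.act (snd H P'.X)) := P'.isTorsor.1
  -- the fibre of `q` over `y`
  have hycl : IsClosedImmersion y.left := isClosedImmersion_section y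
  have hηcl : IsClosedImmersion (η[H] : 𝟙_ (Over (Spec (CommRingCat.of k))) ⟶ H).left :=
    isClosedImmersion_section _
  let Z' : Over (Spec (CommRingCat.of k)) := pullback q y
  let z' : Z' ⟶ subO I := pullback.fst q y
  have hz'pb : IsPullback z' (pullback.snd q y) q y := IsPullback.of_hasPullback q y
  have hz'cl : IsClosedImmersion z'.left :=
    MorphismProperty.of_isPullback (P := @IsClosedImmersion) (hz'pb.map (Over.forget _)).flip hycl
  let N' : Over (Spec (CommRingCat.of k)) := pullback h η[H]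
  let n' : N' ⟶ subO J := pullback.fst h η[H]
  have hn'pb : IsPullback n' (pullback.snd h η[H]) h η[H] := IsPullback.of_hasPullback h η[H]
  have hn'cl : IsClosedImmersion n'.left :=
    MorphismProperty.of_isPullback (P := @IsClosedImmersion) (hn'pb.map (Over.forget _)).flip hηcl
  have hz'c : IsClosedImmersion (z' ≫ subι I).left := by rw [Over.comp_left]; infer_instance
  have hn'c : IsClosedImmersion (n' ≫ subι J).left := by rw [Over.comp_left]; infer_instance
  let I' := RingHom.ker (z' ≫ subι I).left.appTop.hom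
  let J' := RingHom.ker (n' ≫ subι J).left.appTop.hom
  have hI' : ∀ (T : Over (Spec (CommRingCat.of k))) (x : T ⟶ P), Kills I' x ↔
      ∃ x₁ : T ⟶ subO I, x₁ ≫ subι I = x ∧ x₁ ≫ q = toUnit T ≫ y := by
    intro T x
    rw [kills_ker_iff (z' ≫ subι I)]
    constructor
    · rintro ⟨x', rfl⟩
      refine ⟨x' ≫ z', Category.assoc _ _ _, ?_⟩
      rw [Category.assoc, hz'pb.w, ← Category.assoc, toUnit_unique (x' ≫ pullback.snd q y) (toUnit T)]
    · rintro ⟨x₁, rfl, h1⟩
      exact ⟨hz'pb.lift x₁ (toUnit T) h1, by rw [← Category.assoc, hz'pb.lift_fst]⟩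
  have hJ' : ∀ (T : Over (Spec (CommRingCat.of k))) (x : T ⟶ G), Kills J' x ↔
      ∃ x₁ : T ⟶ subO J, x₁ ≫ subι J = x ∧ x₁ ≫ h = 1 := by
    intro T x
    rw [kills_ker_iff (n' ≫ subι J)]
    constructor
    · rintro ⟨x', rfl⟩
      refine ⟨x' ≫ n', Category.assoc _ _ _, ?_⟩
      rw [Category.assoc, hn'pb.w, ← Category.assoc, toUnit_unique (x' ≫ pullback.snd h η[H]) (toUnit T),
        Hom.one_def]
    · rintro ⟨x₁, rfl, h1⟩
      exact ⟨hn'pb.lift x₁ (toUnit T) (by rw [h1, Hom.one_def]), by
        rw [← Category.assoc, hn'pb.lift_fst]⟩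
  have hfree : ∀ (T : Over (Spec (CommRingCat.of k))) (g : T ⟶ H) (x : T ⟶ P'.X),
      ac P'.act g x = x → g = 1 := by
    intro T g x hg
    exact ac_injective P'.act hP's (hg.trans (one_ac P'.act x).symm)
  have hpr : Pr a I' J' := by
    intro T x g hx
    obtain ⟨x₁, hx₁, hx₂⟩ := (hI' T x).1 hx
    have hKx : Kills I x := by rw [← hx₁]; exact (kills_subι I).comp _
    rw [hI', hJ']
    constructor
    · rintro ⟨x₂, hx₃, hx₄⟩
      have h1 : Kills J g := by
        rw [← hp T x g hKx, ← hx₃]
        exact (kills_subι I).comp _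
      obtain ⟨g₁, hg₁⟩ := kills_iff.1 h1
      refine ⟨g₁, hg₁, ?_⟩
      have h2 : ac b g₁ x₁ = x₂ := by
        rw [← cancel_mono (subι I), hb, hg₁, hx₁, hx₃]
      apply hfree T _ (x₁ ≫ q)
      rw [← hqp, h2, hx₄, hx₂]
    · rintro ⟨g₁, hg₁, hg₂⟩
      refine ⟨ac b g₁ x₁, ?_, ?_⟩
      · rw [hb, hg₁, hx₁]
      · rw [hqp, hg₂, one_ac, hx₂]
  -- the fibre is nonempty
  have hne'' : Nonempty Z'.left := by
    let h0 : subO I ⟶ H := dv P'.act hP's q (toUnit _ ≫ y)
    have hh0 : ac P'.act h0 q = toUnit _ ≫ y := ac_dv P'.act hP's q _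
    let T'' : Over (Spec (CommRingCat.of k)) := pullback h h0
    have hpb : IsPullback (pullback.fst h h0) (pullback.snd h h0) h h0 := IsPullback.of_hasPullback h h0
    have hsurj : Surjective (pullback.snd h h0).left :=
      MorphismProperty.of_isPullback (P := @Surjective) (hpb.map (Over.forget _)) ‹Surjective h.left›
    obtain ⟨w, -⟩ := hsurj.surj hne.some
    let x₁ : T'' ⟶ subO I := ac b (pullback.fst h h0) (pullback.snd h h0)
    have hx₁ : x₁ ≫ q = toUnit T'' ≫ y := by
      rw [hqp, hpb.w]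
      have h1 := congrArg (pullback.snd h h0 ≫ ·) hh0
      simp only [comp_ac] at h1
      rw [h1, ← Category.assoc, toUnit_unique (pullback.snd h h0 ≫ toUnit _) (toUnit T'')]
    exact ⟨(hz'pb.lift x₁ (toUnit T'') hx₁).left w⟩
  have hII' : I' = I := by
    refine hmax I' J' (ker_ne_top _) hpr ?_ ?_
    · exact (kills_subι I).comp z'
    · exact (kills_subι J).comp n'
  have hconst : ∀ (T : Over (Spec (CommRingCat.of k))) (x : T ⟶ subO I), x ≫ q = toUnit T ≫ y := by
    intro T x
    have h1 : Kills I' (x ≫ subι I) := by rw [hII']; exact (kills_subι I).comp _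
    obtain ⟨x₂, h2, h3⟩ := (hI' T _).1 h1
    rw [cancel_mono] at h2
    rw [← h2, h3]
  refine K826.Descend.hom_ext_of_locTriv le_rfl hZl fun T' t x => ?_
  rw [comp_one, ← Category.assoc]
  apply hfree T' _ (x ≫ q)
  rw [← hqp, hconst, hconst]

end K826.ZornStep
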