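import Groth.Agent.PrincBund.K826.RuQuot
import Groth.Agent.PrincBund.K826.URad
import Groth.Agent.PrincBund.K826.ZornStep

/-!
# Levi complements: the projection, and conjugacy
-/

set_option autoImplicit false

universe u

open CategoryTheory CategoryTheory.Limits MonoidalCategory CartesianMonoidalCategory MonObj GrpObj AlgebraicGeometry

namespace K826.LeviDec

open Groth.Agent.Books.AffBridge

section gen

variable {S : Scheme.{u}} {G U L : Over S} [GrpObj G] [GrpObj U] [GrpObj L] {u : U ⟶ G} {l : L ⟶ G}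

theorem existsUnique_dec (h : IsIso ((l ⊗ₘ u) ≫ μ[G])) {T : Over S} (g : T ⟶ G) :
    ∃ (x : T ⟶ L) (v : T ⟶ U), (x ≫ l) * (v ≫ u) = g ∧
      ∀ (x' : T ⟶ L) (v' : T ⟶ U), (x' ≫ l) * (v' ≫ u) = g → x' = x ∧ v' = v := by
  have key : ∀ (x : T ⟶ L) (v : T ⟶ U), lift x v ≫ (l ⊗ₘ u) ≫ μ[G] = (x ≫ l) * (v ≫ u) := by
    intro x v
    rw [lift_map_assoc, Hom.mul_def]
  let w := g ≫ inv ((l ⊗ₘ u) ≫ μ[G])
  have hw : lift (w ≫ fst _ _) (w ≫ snd _ _) = w := by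
    apply CartesianMonoidalCategory.hom_ext <;> simp
  refine ⟨w ≫ fst _ _, w ≫ snd _ _, ?_, fun x' v' hx' => ?_⟩
  · rw [← key, hw, Category.assoc, IsIso.inv_hom_id, Category.comp_id]
  · rw [← key] at hx'
    have h1 : w = lift x' v' := by
      rw [← cancel_mono ((l ⊗ₘ u) ≫ μ[G]), hx', Category.assoc, IsIso.inv_hom_id, Category.comp_id]
    rw [h1, lift_fst, lift_snd]
    exact ⟨rfl, rfl⟩

variable [IsMonHom u] [IsMonHom l]

/-- The projection of a semidirect product to the Levi complement. -/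
theorem exists_proj (hn : AlgGrp.IsNormalHom u) (h : IsIso ((l ⊗ₘ u) ≫ μ[G])) :
    ∃ q : G ⟶ L, IsMonHom q ∧ l ≫ q = 𝟙 L ∧
      (∀ (T : Over S) (x : T ⟶ L) (v : T ⟶ U), ((x ≫ l) * (v ≫ u)) ≫ q = x) ∧
      (∀ (T : Over S) (g : T ⟶ G), ∃ v : T ⟶ U, (g ≫ q ≫ l) * (v ≫ u) = g) := by
  let q : G ⟶ L := inv ((l ⊗ₘ u) ≫ μ[G]) ≫ fst L U
  have hq : ∀ (T : Over S) (x : T ⟶ L) (v : T ⟶ U), ((x ≫ l) * (v ≫ u)) ≫ q = x := by
    intro T x v
    have h1 : (x ≫ l) * (v ≫ u) = lift x v ≫ (l ⊗ₘ u) ≫ μ[G] := by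
      rw [lift_map_assoc, Hom.mul_def]
    rw [h1, Category.assoc, IsIso.hom_inv_id_assoc, lift_fst]
  have hdec : ∀ (T : Over S) (g : T ⟶ G), ∃ v : T ⟶ U, (g ≫ q ≫ l) * (v ≫ u) = g := by
    intro T g
    obtain ⟨x, v, hx, -⟩ := existsUnique_dec h g
    refine ⟨v, ?_⟩
    have h1 : g ≫ q = x := by rw [← hx, hq]
    rw [← Category.assoc, h1, hx]
  have hmul : ∀ (T : Over S) (g g' : T ⟶ G), (g * g') ≫ q = (g ≫ q) * (g' ≫ q) := by
    intro T g g'
    obtain ⟨v, hv⟩ := hdec T g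
    obtain ⟨v', hv'⟩ := hdec T g'
    obtain ⟨n, hn⟩ := hn T ((g' ≫ q ≫ l)⁻¹) v
    have h1 : g * g' = (((g ≫ q) * (g' ≫ q)) ≫ l) * ((n * v') ≫ u) := by
      rw [MonObj.mul_comp, MonObj.mul_comp, ← hn]
      conv_lhs => rw [← hv, ← hv']
      simp only [Category.assoc]
      group
    rw [h1, hq]
  have hl : l ≫ q = 𝟙 L := by
    have h1 := hq L (𝟙 L) 1
    rwa [MonObj.one_comp, _root_.mul_one, Category.id_comp] at h1
  refine ⟨q, ?_, hl, hq, hdec⟩
  refine ⟨?_, ?_⟩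
  · have h1 := hmul (𝟙_ (Over S)) 1 1
    rw [_root_.mul_one] at h1
    have h2 : (1 : 𝟙_ (Over S) ⟶ G) ≫ q = 1 := left_eq_mul.1 h1
    rw [Hom.one_def, Hom.one_def] at h2
    simpa using h2
  · have h1 := hmul (G ⊗ G) (fst _ _) (snd _ _)
    rw [Hom.mul_def, Hom.mul_def] at h1
    simp only [lift_fst_snd, Category.id_comp] at h1
    rw [h1]
    congr 1

theorem isKernel {q : G ⟶ L} [IsMonHom q] [Mono u]
    (hq : ∀ (T : Over S) (x : T ⟶ L) (v : T ⟶ U), ((x ≫ l) * (v ≫ u)) ≫ q = x)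
    (hdec : ∀ (T : Over S) (g : T ⟶ G), ∃ v : T ⟶ U, (g ≫ q ≫ l) * (v ≫ u) = g) : AlgGrp.IsKernel u q := by
  have huq : u ≫ q = 1 := by
    have h1 := hq U 1 (𝟙 U)
    rwa [MonObj.one_comp, _root_.one_mul, Category.id_comp] at h1
  apply K826.Tors.isPullback_of_points
  · rw [huq, Hom.one_def]
  · intro T x y hxy
    obtain ⟨v, hv⟩ := hdec T x
    have h1 : x ≫ q = 1 := by rw [hxy, Hom.one_def, toUnit_unique y (toUnit T)]
    rw [← Category.assoc, h1, MonObj.one_comp, _root_.one_mul] at hv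
    refine ⟨v, ⟨hv, toUnit_unique _ _⟩, fun v' hv' => ?_⟩
    rw [← cancel_mono u, hv'.1, hv]

end gen

section field

variable {k : Type u} [Field k] {G U L : Over (Spec (CommRingCat.of k))} [GrpObj G] [GrpObj U] [GrpObj L]
  {u : U ⟶ G} {l : L ⟶ G} [IsMonHom u] [IsMonHom l]

/-- A retract of an affine group: closed immersion. -/
theorem isClosedImmersion_of_retract [IsAffine G.left] {q : G ⟶ L} (h : l ≫ q = 𝟙 L) :
    IsClosedImmersion l.left := by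
  have h1 : IsSeparated (q.left ≫ L.hom) := by
    rw [Over.w]
    infer_instance
  have h2 : IsSeparated q.left := IsSeparated.of_comp q.left L.hom
  have h3 : l.left ≫ q.left = 𝟙 L.left := by
    rw [← Over.comp_left, h, Over.id_left]
  have h4 : IsClosedImmersion (𝟙 L.left) := inferInstance
  have h5 : IsClosedImmersion (l.left ≫ q.left) := by rw [h3]; exact h4
  exact IsClosedImmersion.of_comp l.left q.left

theorem surjective_of_retract {q : G ⟶ L} (h : l ≫ q = 𝟙 L) : Surjective q.left := by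
  have h3 : l.left ≫ q.left = 𝟙 L.left := by
    rw [← Over.comp_left, h, Over.id_left]
  have h4 : Surjective (𝟙 L.left) := inferInstance
  have h5 : Surjective (l.left ≫ q.left) := by rw [h3]; exact h4
  exact Surjective.of_comp l.left q.left

end field

section conj

variable {k : Type u} [Field k] [CharZero k] {G U L₁ L₂ : Over (Spec (CommRingCat.of k))} [GrpObj G] [GrpObj U]
  [GrpObj L₁] [GrpObj L₂] [IsAffine G.left] [LocallyOfFiniteType G.hom]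

/-- Levi complements are conjugate under the rational points of the unipotent radical. -/
theorem exists_conj (u : U ⟶ G) (hU : Par.IsUnipotentRadical u) (l₁ : L₁ ⟶ G) (l₂ : L₂ ⟶ G)
    [IsMonHom l₁] [IsMonHom l₂] (h₁ : IsIso ((l₁ ⊗ₘ u) ≫ μ[G])) (h₂ : IsIso ((l₂ ⊗ₘ u) ≫ μ[G])) :
    ∃ (v : 𝟙_ (Over (Spec (CommRingCat.of k))) ⟶ U) (e : L₁ ≅ L₂), e.hom ≫ l₂ = AGF.conjBy (v ≫ u) l₁ := by
  obtain ⟨haff, H₀, _, _, eU, heU, -, hH₀⟩ := K826.URad.exists_hopf_unip u hU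
  have hum : IsMonHom u := hU.1
  have hn := hU.2.2.1
  have hcl : IsClosedImmersion u.left := hU.2.1
  have hmono : Mono u := by
    have : Mono u.left := inferInstance
    exact Over.mono_of_mono_left u
  obtain ⟨q₁, hq₁m, hl₁, hq₁, hd₁⟩ := exists_proj (l := l₁) hn h₁
  obtain ⟨q₂, hq₂m, hl₂, hq₂, hd₂⟩ := exists_proj (l := l₂) hn h₂
  have hk₁ : AlgGrp.IsKernel u q₁ := isKernel (l := l₁) hq₁ hd₁
  have hc₁ : IsClosedImmersion l₁.left := isClosedImmersion_of_retract hl₁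
  have hs₁ : Surjective q₁.left := surjective_of_retract hl₁
  have haff₁ : IsAffine L₁.left := isAffine_of_isAffineHom l₁.left
  have hlft₁ : LocallyOfFiniteType L₁.hom := by
    rw [← Over.w l₁]
    infer_instance
  obtain ⟨C, _, _, e', he'⟩ := exists_hopf k L₁
  have hC := K826.RuQuot.isLinearlyReductive u hU q₁ hk₁ e'
  -- kernels kill
  have huq₁ : u ≫ q₁ = 1 := by
    have h1 := hq₁ U 1 (𝟙 U)
    rwa [MonObj.one_comp, _root_.one_mul, Category.id_comp] at h1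
  have huq₂ : u ≫ q₂ = 1 := by
    have h1 := hq₂ U 1 (𝟙 U)
    rwa [MonObj.one_comp, _root_.one_mul, Category.id_comp] at h1
  have hcomp₁ : q₂ ≫ l₂ ≫ q₁ = q₁ := by
    obtain ⟨v, hv⟩ := hd₂ G (𝟙 G)
    have h1 := congrArg (· ≫ q₁) hv
    rw [MonObj.mul_comp] at h1
    simp only [Category.assoc, huq₁, MonObj.comp_one, _root_.mul_one, Category.id_comp] at h1
    exact h1
  have hcomp₂ : q₁ ≫ l₁ ≫ q₂ = q₂ := by
    obtain ⟨v, hv⟩ := hd₁ G (𝟙 G)
    have h1 := congrArg (· ≫ q₂) hv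
    rw [MonObj.mul_comp] at h1
    simp only [Category.assoc, huq₂, MonObj.comp_one, _root_.mul_one, Category.id_comp] at h1
    exact h1
  let e : L₁ ≅ L₂ := ⟨l₁ ≫ q₂, l₂ ≫ q₁, by
    rw [Category.assoc, hcomp₁, hl₁], by
    rw [Category.assoc, hcomp₂, hl₂]⟩
  obtain ⟨v, hv⟩ := K826.URad.exists_conj hC e' hH₀ eU u hn l₁ (l₁ ≫ q₂ ≫ l₂) (by
    intro T x
    obtain ⟨v, hv⟩ := hd₂ T (x ≫ l₁)
    obtain ⟨n, hn'⟩ := hn T (x ≫ l₁) v⁻¹
    refine ⟨n, ?_⟩
    rw [← hn', GrpObj.inv_comp, inv_mul_cancel_right]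
    have h1 : x ≫ l₁ ≫ q₂ ≫ l₂ = (x ≫ l₁) * (v ≫ u)⁻¹ := by
      rw [eq_mul_inv_iff_mul_eq]
      simpa only [Category.assoc] using hv
    rw [h1])
  refine ⟨v, e, ?_⟩
  rw [← hv]
  change (l₁ ≫ q₂) ≫ l₂ = _
  rw [Category.assoc]

end conj

end K826.LeviDec
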