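import Groth.Agent.AGF.K798.LinRed
import Groth.Agent.Sga3B.RedBcAny636
import Groth.Agent.Sga3B.RootBridge989
import Groth.Agent.HopfRep.K191.BaseInt

/-!
# Reductive groups over a field of characteristic zero are linearly reductive
-/

set_option autoImplicit false
universe u

open CategoryTheory MonoidalCategory CartesianMonoidalCategory MonObj GrpObj AlgebraicGeometry

namespace K826.LinRedOf

open Groth.Agent.Books.AffBridge

variable {k : Type u} [Field k] [CharZero k] {G : Over (Spec (CommRingCat.of k))} [GrpObj G]

theorem isLinearlyReductive_of_iso (hG : Red.IsReductive G) {A : Type u} [CommRing A] [HopfAlgebra k A]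
    (e : G ≅ SpecOver k A) [IsMonHom e.hom] : HopfRep.IsLinearlyReductive k A := by
  let Ω := AlgebraicClosure k
  have h1 : Red.IsReductiveOver Ω (Red.bc (Groth.Agent.Sga3B.RootBridge989.sm k Ω) G) :=
    Groth.Agent.Sga3B.RedBcAny636.isReductiveOver_bc hG _
  obtain ⟨hd, hft, hred⟩ := Groth.Agent.Sga3B.RootBridge989.isRedPt_bc Ω e h1
  have : CharZero Ω := charZero_of_injective_algebraMap (algebraMap k Ω).injective
  rw [K191.BaseInt.isLinearlyReductive_iff_baseChange (K := Ω)]
  exact K798.LinRed.isLinearlyReductive hred

/-- A reductive group over a field of characteristic zero is the spectrum of a linearly reductive Hopf algebra. -/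
theorem exists_linRed (hG : Red.IsReductive G) :
    ∃ (A : Type u) (_ : CommRing A) (_ : HopfAlgebra k A) (e : G ≅ SpecOver k A), IsMonHom e.hom ∧
      HopfRep.IsLinearlyReductive k A := by
  have hA : IsAffineHom G.hom := hG.1
  have : IsAffine G.left := isAffine_of_isAffineHom G.hom
  obtain ⟨A, _, _, e, he⟩ := exists_hopf k G
  exact ⟨A, inferInstance, inferInstance, e, he, isLinearlyReductive_of_iso hG e⟩

end K826.LinRedOf
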