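import Groth.Agent.Books.CharZeroUnip3
import Groth.Agent.Sga3C.SubHopf
import Groth.Agent.MiscA.HopfFlat
import Groth.Agent.HopfRep.K188.SubGa

/-!
# Linearly independent additive functions on a unipotent group in characteristic zero take independent values
-/

set_option autoImplicit false
universe u

open TensorProduct HopfRep

namespace K826.PrimFlat

open Groth.Agent.Books.CharZeroUnip2 Groth.Agent.Books.CharZeroUnip3 K188.SubGa

variable {k : Type u} [Field k] {H : Type u} [CommRing H] [HopfAlgebra k H]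

/-- Primitive elements generate a Hopf subalgebra. -/
theorem isHopfSubalgebra_adjoin_range {ι : Type u} (l : ι → H) (hl : ∀ i, IsPrim k (l i)) :
    SGA3.IsHopfSubalgebra k H (Algebra.adjoin k (Set.range l)) := by
  constructor
  · intro b hb
    let B := Algebra.adjoin k (Set.range l)
    let F : B ⊗[k] B →ₐ[k] H ⊗[k] H := Algebra.TensorProduct.map B.val B.val
    have h1 : Algebra.adjoin k (Set.range l) ≤ F.range.comap (Bialgebra.comulAlgHom k H) := by
      rw [Algebra.adjoin_le_iff]
      rintro _ ⟨i, rfl⟩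
      have hm : l i ∈ B := Algebra.subset_adjoin ⟨i, rfl⟩
      refine ⟨⟨l i, hm⟩ ⊗ₜ 1 + 1 ⊗ₜ ⟨l i, hm⟩, ?_⟩
      change F _ = CoalgebraStruct.comul (R := k) (l i)
      have h2 : CoalgebraStruct.comul (R := k) (l i) = l i ⊗ₜ[k] (1 : H) + (1 : H) ⊗ₜ[k] l i := hl i
      rw [h2]
      simp [F]
    obtain ⟨z, hz⟩ := h1 hb
    exact ⟨z, hz⟩
  · intro b hb
    have h1 : Algebra.adjoin k (Set.range l) ≤
        (Algebra.adjoin k (Set.range l)).comap (HopfAlgebra.antipodeAlgHom k H) := by
      rw [Algebra.adjoin_le_iff]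
      rintro _ ⟨i, rfl⟩
      change HopfAlgebraStruct.antipode k (l i) ∈ Algebra.adjoin k (Set.range l)
      rw [antipode_of_primitive (hl i)]
      exact Subalgebra.neg_mem _ (Algebra.subset_adjoin ⟨i, rfl⟩)
    exact h1 hb

/-- Linearly independent additive functions on a unipotent group in characteristic zero take any values after
a nonzero extension. -/
theorem exists_values [CharZero k] (hU : IsUnipotent k H) {B : Type u} [CommRing B] [Algebra k B]
    [Nontrivial B] {ι : Type u} (l : ι → H) (hl : ∀ i, IsPrim k (l i)) (hli : LinearIndependent k l)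
    (f : ι → B) : ∃ (R : Type u) (_ : CommRing R) (_ : Algebra k R) (_ : Nontrivial R) (z : B →ₐ[k] R)
      (u : H →ₐ[k] R), ∀ i, u (l i) = z (f i) := by
  have hai := algebraicIndependent_of_isPrim
    (fun a => Groth.Agent.Books.ComodSocle.exists_mem_soc hU H a) l hl hli
  let S := Algebra.adjoin k (Set.range l)
  have hff : Module.FaithfullyFlat S H := by
    have hB := isHopfSubalgebra_adjoin_range l hl
    letI : HopfAlgebra k S := Groth.Agent.Sga3C.SubHopf.hopfB hB
    let f : S →ₐc[k] H := Groth.Agent.Sga3C.SubHopf.valB hB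
    exact Groth.Agent.MiscA.HopfFlat.faithfullyFlat_of_injective' f (fun _ => rfl)
      Subtype.val_injective
  let ψ : S →ₐ[k] B := (MvPolynomial.aeval f).comp hai.aevalEquiv.symm.toAlgHom
  have hψ : ∀ i (hi : l i ∈ S), ψ ⟨l i, hi⟩ = f i := by
    intro i hi
    have h1 : hai.aevalEquiv (MvPolynomial.X i) = ⟨l i, hi⟩ := by
      apply Subtype.ext
      have := hai.algebraMap_aevalEquiv (MvPolynomial.X i)
      rwa [MvPolynomial.aeval_X] at this
    rw [← h1]
    change MvPolynomial.aeval f (hai.aevalEquiv.symm (hai.aevalEquiv (MvPolynomial.X i))) = f i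
    rw [AlgEquiv.symm_apply_apply, MvPolynomial.aeval_X]
  letI : Algebra S B := ψ.toRingHom.toAlgebra
  let z : B →+* B ⊗[S] H := Algebra.TensorProduct.includeLeftRingHom
  let u : H →+* B ⊗[S] H := (Algebra.TensorProduct.includeRight : H →ₐ[S] B ⊗[S] H).toRingHom
  have huz : ∀ s : S, u s = z (ψ s) := by
    intro s
    change (1 : B) ⊗ₜ[S] (s : H) = (ψ s) ⊗ₜ[S] (1 : H)
    have h1 : (ψ s : B) = s • (1 : B) := by rw [Algebra.smul_def, mul_one]; rfl
    have h2 : (s : H) = s • (1 : H) := by rw [Algebra.smul_def, mul_one]; rfl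
    rw [h1, h2, TensorProduct.tmul_smul, TensorProduct.smul_tmul']
  letI : Algebra k (B ⊗[S] H) := (z.comp (algebraMap k B)).toAlgebra
  refine ⟨B ⊗[S] H, inferInstance, inferInstance, inferInstance,
    { z with commutes' := fun c => rfl }, { u with commutes' := fun c => ?_ }, fun i => ?_⟩
  · change u (algebraMap k H c) = z (algebraMap k B c)
    have h1 := huz (algebraMap k S c)
    rw [ψ.commutes] at h1
    exact h1
  · have h1 := huz ⟨l i, Algebra.subset_adjoin ⟨i, rfl⟩⟩
    rw [hψ] at h1
    exact h1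

end K826.PrimFlat
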