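import Groth.Agent.PrincBund.K826.AddFun
import Groth.Agent.PrincBund.K826.PrimFlat
import Groth.Agent.Books.AffBridge2

/-!
# An equivariant torsor under a unipotent group which is not a point has a smaller equivariant reduction
-/

set_option autoImplicit false
universe u

open CategoryTheory MonoidalCategory CartesianMonoidalCategory MonObj GrpObj AlgebraicGeometry
open TensorProduct

namespace K826.MostowStep

open Groth.Agent.Books.AffBridge Groth.Agent.RedSub.H658.TorsDiv Groth.Agent.Sga3.H219.Coact K826.AffHom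
open K826.ActFun K826.AddFun Groth.Agent.Books.ComodBasic Groth.Agent.Books.ComodHom HopfRep
open K826.PrimFlat

variable {k : Type u} [Field k] {B H A : Type u} [CommRing B] [Algebra k B] [CommRing H] [HopfAlgebra k H]
  [CommRing A] [HopfAlgebra k A]

theorem glob_inv {T : Over (Spec (CommRingCat.of k))} (u : T ⟶ SpecOver k H) (m : H) :
    glob u⁻¹ m = glob u (HopfAlgebraStruct.antipode k m) := by
  have h1 : u⁻¹ = u ≫ specMap k (HopfAlgebra.antipodeAlgHom k H) := by
    have h2 := Groth.Agent.Books.AffBridge2.specMap_comp_antipode k (AlgHom.id k H)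
    rw [AlgHom.id_comp, specMap_id] at h2
    rw [h2, comp_inv, Category.comp_id]
  rw [h1, glob_specMap]
  rfl

/-- The additive part of an additive function, as a linear map. -/
noncomputable def Λ (b : AlgGrp.Action (SpecOver k H) (SpecOver k B)) (φ : B →ₗ[k] k) : B →ₗ[k] H :=
  (TensorProduct.lid k H).toLinearMap ∘ₗ φ.rTensor H ∘ₗ
    ((rho k (rt b)).toLinearMap - (TensorProduct.mk k B H).flip 1)

theorem rho_eq {b : AlgGrp.Action (SpecOver k H) (SpecOver k B)} {φ : B →ₗ[k] k} (hφ : φ 1 = 1) {f : B}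
    (hf : f ∈ F b) : rho k (rt b) f = f ⊗ₜ[k] (1 : H) + (1 : B) ⊗ₜ[k] (Λ b φ f) := by
  obtain ⟨l, hl⟩ := hf
  have h1 : Λ b φ f = l := by
    change TensorProduct.lid k H (φ.rTensor H (rho k (rt b) f - f ⊗ₜ[k] (1 : H))) = l
    rw [hl, add_sub_cancel_left, LinearMap.rTensor_tmul, hφ, TensorProduct.lid_tmul, one_smul]
  rw [h1, hl]

theorem exists_step [CharZero k] (hA : IsLinearlyReductive k A) (hU : IsUnipotent k H) [Nontrivial B]
    (d : AlgGrp.Action (SpecOver k A) (SpecOver k B)) (c : AlgGrp.Action (SpecOver k A) (SpecOver k H))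
    (b : AlgGrp.Action (SpecOver k H) (SpecOver k B))
    (hc : ∀ (T : Over (Spec (CommRingCat.of k))) (g : T ⟶ SpecOver k A) (u₁ u₂ : T ⟶ SpecOver k H),
      ac c g (u₁ * u₂) = ac c g u₁ * ac c g u₂)
    (hcomp : ∀ (T : Over (Spec (CommRingCat.of k))) (g : T ⟶ SpecOver k A) (v : T ⟶ SpecOver k H)
      (p : T ⟶ SpecOver k B), ac d g (ac b v p) = ac b (ac c g v) (ac d g p))
    (hb : IsIso (lift b.act (snd (SpecOver k H) (SpecOver k B)))) (hK : K k B ≠ ⊤) :
    ∃ (L : Set B) (M : Set H), (∃ f ∈ L, f ≠ 0) ∧ Ideal.span L ≠ ⊤ ∧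
      (∀ (T : Over (Spec (CommRingCat.of k))) (g : T ⟶ SpecOver k A) (z : T ⟶ SpecOver k B),
        (∀ f ∈ L, glob z f = 0) → ∀ f ∈ L, glob (ac d g z) f = 0) ∧
      (∀ (T : Over (Spec (CommRingCat.of k))) (v : T ⟶ SpecOver k H) (z : T ⟶ SpecOver k B),
        (∀ f ∈ L, glob z f = 0) → ((∀ f ∈ L, glob (ac b v z) f = 0) ↔ ∀ m ∈ M, glob v m = 0)) := by
  obtain ⟨φ, hφ⟩ := Module.Projective.exists_dual_eq_one k (one_ne_zero : (1 : B) ≠ 0)
  obtain ⟨f₁, hf₁, hf₁'⟩ := exists_mem_F hU b hK
  -- the complement of the constants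
  obtain ⟨L, hL, hLF, hLK, hL0⟩ : ∃ L : Submodule k B, (letI := cm d; IsSubcomod (k := k) (A := A) L) ∧
      L ≤ F b ∧ (∀ f ∈ L, f ∈ K k B → f = 0) ∧ ∃ f ∈ L, f ≠ 0 := by
    let _ := cm d
    have hF : IsSubcomod (k := k) (A := A) (F b) := isSubcomod_F d c b hc hcomp
    have hKs : IsSubcomod (k := k) (A := A) (K k B) := isSubcomod_K d
    let _ := subComod (F b) hF
    have hs : IsComodHom k A (F b).subtype := isComodHom_subtype (F b) hF
    obtain ⟨N, hN, hNc⟩ := K688.Reynolds.exists_isCompl_isSubcomod hA ((K k B).comap (F b).subtype)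
      (hs.comap hKs)
    refine ⟨N.map (F b).subtype, hs.map hN, ?_, ?_, ?_⟩
    · rintro _ ⟨x, -, rfl⟩
      exact x.2
    · rintro _ ⟨x, hx, rfl⟩ hxK
      have h1 : x ∈ (K k B).comap (F b).subtype ⊓ N := ⟨hxK, hx⟩
      rw [hNc.inf_eq_bot, Submodule.mem_bot] at h1
      rw [h1, map_zero]
    · by_contra h
      push Not at h
      have h1 : (⟨f₁, hf₁⟩ : F b) ∈ (K k B).comap (F b).subtype ⊔ N := by
        rw [hNc.sup_eq_top]
        trivial
      obtain ⟨y, hy, n, hn, hyn⟩ := Submodule.mem_sup.1 h1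
      have h2 : (F b).subtype n = 0 := h _ ⟨n, hn, rfl⟩
      have h3 : (y : B) + (n : B) = f₁ := congrArg Subtype.val hyn
      rw [show (n : B) = 0 from h2, add_zero] at h3
      exact hf₁' (by rw [← h3]; exact hy)
  have hρ : ∀ f ∈ L, rho k (rt b) f = f ⊗ₜ[k] (1 : H) + (1 : B) ⊗ₜ[k] (Λ b φ f) := fun f hf =>
    rho_eq hφ (hLF hf)
  have hprim : ∀ f ∈ L, CoalgebraStruct.comul (R := k) (Λ b φ f) =
      (Λ b φ f) ⊗ₜ[k] (1 : H) + (1 : H) ⊗ₜ[k] (Λ b φ f) := fun f hf => isPrim b (hρ f hf)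
  refine ⟨L, Λ b φ '' L, hL0, ?_, ?_, ?_⟩
  · -- nonempty
    intro htop
    let β := Module.Basis.ofVectorSpace k L
    have hli : LinearIndependent k (fun i => Λ b φ (β i : B)) := by
      have h1 : LinearIndependent k ((Λ b φ ∘ₗ L.subtype) ∘ β) := by
        refine β.linearIndependent.map' _ ?_
        rw [LinearMap.ker_eq_bot']
        intro x hx
        have hx' : Λ b φ (x : B) = 0 := hx
        apply Subtype.ext
        apply hLK x x.2
        apply mem_K_of_inv b hb
        rw [hρ x x.2, hx', TensorProduct.tmul_zero, add_zero]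
      exact h1
    obtain ⟨R, _, _, _, z, v, hzv⟩ := exists_values hU (B := B) (fun i => Λ b φ (β i : B))
      (fun i => hprim _ (β i).2) hli (fun i => -(β i : B))
    have h2 := lift_comp' b z v
    let w : B →ₐ[k] R := (Algebra.TensorProduct.lift z v (fun _ _ => Commute.all _ _)).comp (rho k (rt b))
    have hw : ∀ f ∈ L, w f = z f + v (Λ b φ f) := by
      intro f hf
      change Algebra.TensorProduct.lift z v (fun _ _ => Commute.all _ _) (rho k (rt b) f) = _
      rw [hρ f hf, map_add, Algebra.TensorProduct.lift_tmul, Algebra.TensorProduct.lift_tmul, map_one, map_one,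
        _root_.mul_one, _root_.one_mul]
    have hw0 : ∀ f ∈ L, w f = 0 := by
      have h3 : (w.toLinearMap ∘ₗ L.subtype) = 0 := by
        apply β.ext
        intro i
        change w (β i : B) = 0
        rw [hw _ (β i).2, hzv, map_neg, add_neg_cancel]
      intro f hf
      exact LinearMap.congr_fun h3 ⟨f, hf⟩
    have h4 : Ideal.span (L : Set B) ≤ RingHom.ker w.toRingHom := by
      rw [Ideal.span_le]
      intro f hf
      exact hw0 f hf
    rw [htop] at h4
    have h5 : w 1 = 0 := h4 (show (1 : B) ∈ ⊤ from trivial)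
    rw [map_one] at h5
    exact one_ne_zero h5
  · intro T g z hz f hf
    obtain ⟨χ, hχ, hχ'⟩ := exists_ev d z g⁻¹
    rw [_root_.inv_inv] at hχ'
    rw [hχ']
    let _ := cm d
    obtain ⟨y, hy⟩ := hL f hf
    rw [coact_cm] at hy
    rw [← hy]
    clear hy
    induction y with
    | zero => rw [map_zero, map_zero]
    | tmul x a =>
      rw [LinearMap.rTensor_tmul, hχ, Submodule.subtype_apply, hz _ x.2, zero_mul]
    | add x y hx hy => rw [map_add, map_add, hx, hy, add_zero]
  · intro T v z hz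
    have h1 : ∀ f ∈ L, glob (ac b v z) f = - glob v (Λ b φ f) := by
      intro f hf
      obtain ⟨χ, hχ, hχ'⟩ := exists_ev b z v⁻¹
      rw [_root_.inv_inv] at hχ'
      rw [hχ', hρ f hf, map_add, hχ, hχ, hz f hf, zero_mul, zero_add, map_one, _root_.one_mul, glob_inv,
        K188.SubGa.antipode_of_primitive (hprim f hf), map_neg]
    constructor
    · rintro h _ ⟨f, hf, rfl⟩
      have := h f hf
      rwa [h1 f hf, neg_eq_zero] at this
    · intro h f hf
      rw [h1 f hf, h _ ⟨f, hf, rfl⟩, neg_zero]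

end K826.MostowStep
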