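import Groth.Agent.PrincBund.K826.TorsAlgClosed
import Groth.Agent.Etcore.FGLim

/-!
# Surjective homomorphisms of affine group schemes over an algebraically closed field are surjective on rational
points; rational points are dense
-/

set_option autoImplicit false
universe u

open CategoryTheory CategoryTheory.Limits MonoidalCategory CartesianMonoidalCategory MonObj GrpObj AlgebraicGeometry

namespace K826.PtSurj

open K826.TorsField K826.ZornStep K826.TorsAlgClosed
open Groth.Agent.Books.AffBridge Groth.Agent.Books.AffBridge2 Groth.Agent.Sga3C.SubHopf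
  Groth.Agent.Sga3C.NormalHopfF

section ker

variable {S : Scheme.{u}} {G G' K : Over S} [GrpObj G] [GrpObj G'] (h : G ⟶ G') [IsMonHom h]
  (κ : K ⟶ G) (hκ : IsPullback κ (toUnit K) h η[G'])

include hκ in
set_option linter.unusedSectionVars false in
theorem comp_eq_one_iff {T : Over S} (g : T ⟶ G) : g ≫ h = 1 ↔ ∃ g' : T ⟶ K, g' ≫ κ = g := by
  constructor
  · intro hg
    exact ⟨hκ.lift g (toUnit T) (by rw [hg, Hom.one_def]), hκ.lift_fst _ _ _⟩
  · rintro ⟨g', rfl⟩
    rw [Category.assoc, hκ.w, ← Category.assoc, toUnit_unique (g' ≫ toUnit K) (toUnit T), Hom.one_def]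

include hκ in
theorem mono_κ : Mono κ :=
  ⟨fun g g' hg => hκ.hom_ext hg (toUnit_unique _ _)⟩

include hκ in
/-- The kernel is a group. -/
theorem exists_grp_ker : ∃ _ : GrpObj K, IsMonHom κ := by
  have := mono_κ h κ hκ
  have h1 : κ ≫ h = 1 := (comp_eq_one_iff h κ hκ κ).2 ⟨𝟙 _, Category.id_comp _⟩
  have h2 : ∀ {T : Over S} (g : T ⟶ K), (g ≫ κ) ≫ h = 1 := fun g => by
    rw [Category.assoc, h1, comp_one]
  apply Groth.Agent.Sga3C.SubGrp.exists_grpObj_of_mono
  · rw [← comp_eq_one_iff h κ hκ]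
    have h3 : (κ ⊗ₘ κ) ≫ μ[G] = (fst _ _ ≫ κ) * (snd _ _ ≫ κ) := by
      simp [Hom.mul_def]
    rw [h3, MonObj.mul_comp, h2, h2, _root_.one_mul]
  · rw [← comp_eq_one_iff h κ hκ, IsMonHom.one_hom, one_eq_one]
  · rw [← comp_eq_one_iff h κ hκ]
    have h3 : κ ≫ ι[G] = κ⁻¹ := by rw [Hom.inv_def]
    rw [h3, GrpObj.inv_comp, h1, inv_one]

variable {P : Over S} (x : 𝟙_ (Over S) ⟶ G') (π : P ⟶ G) (hπ : IsPullback π (toUnit P) h x)

include hπ in
theorem comp_eq_x_iff {T : Over S} (g : T ⟶ G) : g ≫ h = toUnit T ≫ x ↔ ∃ g' : T ⟶ P, g' ≫ π = g := by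
  constructor
  · intro hg
    exact ⟨hπ.lift g (toUnit T) hg, hπ.lift_fst _ _ _⟩
  · rintro ⟨g', rfl⟩
    rw [Category.assoc, hπ.w, ← Category.assoc, toUnit_unique (g' ≫ toUnit P) (toUnit T)]

include hκ hπ in
/-- The fibre of `h` over `x` is a pseudo-torsor under the kernel. -/
theorem exists_pseudo [GrpObj K] [IsMonHom κ] : ∃ b : AlgGrp.Action K P, NonAbH1.IsPseudoTorsorSch b := by
  have hm : Mono π := ⟨fun g g' hg => hπ.hom_ext hg (toUnit_unique _ _)⟩
  have hmκ := mono_κ h κ hκ
  have h1 : ∀ {T : Over S} (g : T ⟶ K), (g ≫ κ) ≫ h = 1 := fun g =>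
    (comp_eq_one_iff h κ hκ _).2 ⟨g, rfl⟩
  have h2 : ∀ {T : Over S} (p : T ⟶ P), (p ≫ π) ≫ h = toUnit T ≫ x := fun p =>
    (comp_eq_x_iff h x π hπ _).2 ⟨p, rfl⟩
  obtain ⟨m, hm1⟩ := (comp_eq_x_iff h x π hπ ((fst K P ≫ κ) * (snd K P ≫ π))).1 (by
    rw [MonObj.mul_comp, h1, h2, _root_.one_mul])
  have hmp : ∀ {T : Over S} (g : T ⟶ K) (p : T ⟶ P), (lift g p ≫ m) ≫ π = (g ≫ κ) * (p ≫ π) := by
    intro T g p
    rw [Category.assoc, hm1, comp_mul, lift_fst_assoc, lift_snd_assoc]
  let b : AlgGrp.Action K P :=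
    { act := m
      one_act := by
        rw [← cancel_mono π]
        apply AlgGrp.Action.hom_ext_lift₂
        intro T t p
        have ht : t ≫ η[K] = 1 := by rw [Hom.one_def, toUnit_unique (toUnit T) t]
        rw [Category.assoc, lift_whiskerRight_assoc, ht, ← Category.assoc, hmp, MonObj.one_comp,
          _root_.one_mul, leftUnitor_hom, lift_snd_assoc]
      mul_act := by
        rw [← cancel_mono π]
        apply AlgGrp.Action.hom_ext_lift₃
        intro T g g' p
        rw [Category.assoc, lift_whiskerRight_assoc, ← Hom.mul_def, ← Category.assoc, hmp,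
          Category.assoc, Category.assoc, lift_lift_associator_hom_assoc, lift_whiskerLeft_assoc,
          ← Category.assoc (lift g _), hmp, hmp, MonObj.mul_comp, _root_.mul_assoc] }
  refine ⟨b, K826.Tors.pseudo_of_existsUnique fun T p p' => ?_⟩
  obtain ⟨g, hg⟩ := (comp_eq_one_iff h κ hκ ((p' ≫ π) * (p ≫ π)⁻¹)).1 (by
    rw [MonObj.mul_comp, GrpObj.inv_comp, h2, h2, mul_inv_cancel])
  refine ⟨g, ?_, fun g' hg' => ?_⟩
  · change lift g p ≫ m = p'
    rw [← cancel_mono π, hmp, hg, inv_mul_cancel_right]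
  · change lift g' p ≫ m = p' at hg'
    rw [← cancel_mono κ, hg, eq_mul_inv_iff_mul_eq, ← hmp, hg']

end ker

section pts

variable (k : Type u) [CommRing k]

/-- The unit object is `Spec k`. -/
noncomputable def unitIso : 𝟙_ (Over (Spec (CommRingCat.of k))) ≅ SpecOver k k where
  hom := Over.homMk (U := 𝟙_ (Over (Spec (CommRingCat.of k)))) (V := SpecOver k k)
    (𝟙 (Spec (CommRingCat.of k))) (by
      change 𝟙 (Spec (CommRingCat.of k)) ≫ Spec.map (CommRingCat.ofHom (algebraMap k k)) = 𝟙 _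
      rw [show CommRingCat.ofHom (algebraMap k k) = 𝟙 (CommRingCat.of k) from rfl, Spec.map_id,
        Category.id_comp])
  inv := toUnit _
  hom_inv_id := toUnit_unique _ _
  inv_hom_id := by
    apply Over.OverMorphism.ext
    have h : (toUnit (SpecOver k k)).left = (SpecOver k k).hom := K826.Tors.toUnit_left_eq _
    rw [Over.comp_left, h]
    change Spec.map (CommRingCat.ofHom (algebraMap k k)) ≫ 𝟙 (Spec (CommRingCat.of k)) = _
    rw [show CommRingCat.ofHom (algebraMap k k) = 𝟙 (CommRingCat.of k) from rfl, Spec.map_id,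
      Category.id_comp]
    rfl

variable {k} {A B : Type u} [CommRing A] [Algebra k A] [CommRing B] [Algebra k B]

/-- The section of `Spec A` given by an algebra map `A → k`. -/
noncomputable def ptOf (f : A →ₐ[k] k) : 𝟙_ (Over (Spec (CommRingCat.of k))) ⟶ SpecOver k A :=
  (unitIso k).hom ≫ specMap k f

theorem ptOf_left (f : A →ₐ[k] k) : (ptOf f).left = Spec.map (CommRingCat.ofHom f.toRingHom) := by
  rw [ptOf, Over.comp_left, specMap_left]
  exact Category.id_comp _

theorem ptOf_comp (f : A →ₐ[k] k) (φ : B →ₐ[k] A) : ptOf f ≫ specMap k φ = ptOf (f.comp φ) := by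
  rw [ptOf, ptOf, specMap_comp, Category.assoc]

theorem ptOf_injective : Function.Injective (ptOf : (A →ₐ[k] k) → _) := by
  intro f g h
  rw [ptOf, ptOf, cancel_epi] at h
  exact specMap_injective k h

theorem exists_ptOf (x : 𝟙_ (Over (Spec (CommRingCat.of k))) ⟶ SpecOver k A) :
    ∃ f : A →ₐ[k] k, ptOf f = x := by
  refine ⟨specPreimage k ((unitIso k).inv ≫ x), ?_⟩
  rw [ptOf, specMap_specPreimage, Iso.hom_inv_id_assoc]

end pts

variable {k : Type u} [Field k] [IsAlgClosed k]

theorem exists_lift_point (G G' : Over (Spec (CommRingCat.of k))) [GrpObj G] [GrpObj G'] [IsAffine G.left]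
    [IsAffine G'.left] (h : G ⟶ G') [IsMonHom h] (hs : Surjective h.left)
    (x : 𝟙_ (Over (Spec (CommRingCat.of k))) ⟶ G') :
    ∃ g : 𝟙_ (Over (Spec (CommRingCat.of k))) ⟶ G, g ≫ h = x := by
  let K : Over (Spec (CommRingCat.of k)) := pullback h η[G']
  let κ : K ⟶ G := pullback.fst h η[G']
  have hκ : IsPullback κ (toUnit K) h η[G'] := by
    have := IsPullback.of_hasPullback h η[G']
    rwa [show pullback.snd h η[G'] = toUnit K from toUnit_unique _ _] at this
  let P : Over (Spec (CommRingCat.of k)) := pullback h x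
  let π : P ⟶ G := pullback.fst h x
  have hπ : IsPullback π (toUnit P) h x := by
    have := IsPullback.of_hasPullback h x
    rwa [show pullback.snd h x = toUnit P from toUnit_unique _ _] at this
  obtain ⟨_, _⟩ := exists_grp_ker h κ hκ
  obtain ⟨b, hb⟩ := exists_pseudo h κ hκ x π hπ
  have hη : IsClosedImmersion (η[G'] : 𝟙_ (Over (Spec (CommRingCat.of k))) ⟶ G').left :=
    isClosedImmersion_section _
  have hκcl : IsClosedImmersion κ.left :=
    MorphismProperty.of_isPullback (P := @IsClosedImmersion) (hκ.map (Over.forget _)).flip hη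
  have hKaff : IsAffine K.left := isAffine_of_isAffineHom κ.left
  have hsurj : Surjective (toUnit P).left :=
    MorphismProperty.of_isPullback (P := @Surjective) (hπ.map (Over.forget _)) hs
  have hne : Nonempty P.left := by
    obtain ⟨p, -⟩ := hsurj.surj (IsLocalRing.closedPoint k)
    exact ⟨p⟩
  obtain ⟨p⟩ := exists_section K P b hb
  refine ⟨p ≫ π, ?_⟩
  rw [Category.assoc, hπ.w, ← Category.assoc, toUnit_unique (p ≫ toUnit P) (𝟙 _), Category.id_comp]

/-- rational points are dense -/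
theorem exists_point_basicOpen {B : Type u} [CommRing B] [HopfAlgebra k B] (b : B) (hb : ¬ IsNilpotent b) :
    ∃ g : B →ₐ[k] k, g b ≠ 0 := by
  obtain ⟨D, hD, hfg, hbD'⟩ := exists_fg_hopfSubalgebra (k := k) (A := B) {b}
  let _ := hopfB hD
  have hbD : b ∈ D := hbD' (by simp)
  have hft : Algebra.FiniteType k D := D.fg_iff_finiteType.1 hfg
  let L := Localization.Away (⟨b, hbD⟩ : D)
  have hLnt : Nontrivial L := by
    by_contra hcon
    rw [not_nontrivial_iff_subsingleton] at hcon
    have h1 : IsNilpotent (⟨b, hbD⟩ : D) := by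
      have h2 : (algebraMap D L) 1 = algebraMap D L 0 := Subsingleton.elim _ _
      rw [IsLocalization.eq_iff_exists (Submonoid.powers (⟨b, hbD⟩ : D))] at h2
      obtain ⟨⟨_, n, rfl⟩, hc⟩ := h2
      exact ⟨n, by simpa using hc⟩
    apply hb
    obtain ⟨n, hn⟩ := h1
    refine ⟨n, ?_⟩
    have := congrArg Subtype.val hn
    simpa using this
  have hLft : Algebra.FiniteType k L := by
    have : Algebra.FiniteType D L := IsLocalization.finiteType_of_monoid_fg (Submonoid.powers (⟨b, hbD⟩ : D)) L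
    exact Algebra.FiniteType.trans hft this
  obtain ⟨φ⟩ := Groth.Agent.Etcore.FGLim.exists_algHom_of_isAlgClosed k L
  let x : D →ₐ[k] k := φ.comp (IsScalarTower.toAlgHom k D L)
  have hx : x ⟨b, hbD⟩ ≠ 0 := by
    have h1 : IsUnit (algebraMap D L ⟨b, hbD⟩) :=
      IsLocalization.map_units L (⟨⟨b, hbD⟩, Submonoid.mem_powers _⟩ : Submonoid.powers (⟨b, hbD⟩ : D))
    exact (h1.map φ).ne_zero
  have := isMonHom_specMap k (valB hD)
  have : IsAffine (SpecOver k B).left := inferInstanceAs (IsAffine (Spec _))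
  have : IsAffine (SpecOver k D).left := inferInstanceAs (IsAffine (Spec _))
  obtain ⟨g, hg⟩ := exists_lift_point (SpecOver k B) (SpecOver k D)
    (specMap k (valB hD : D →ₐ[k] B)) (surjective_specMap_valB hD).2 (ptOf x)
  obtain ⟨g, rfl⟩ := exists_ptOf g
  rw [ptOf_comp] at hg
  have h2 := ptOf_injective hg
  refine ⟨g, ?_⟩
  have h3 : g b = x ⟨b, hbD⟩ := congrArg (fun f : D →ₐ[k] k => f ⟨b, hbD⟩) h2
  rw [h3]
  exact hx

end K826.PtSurj
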