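import Groth.Agent.PrincBund.K826.Tors
import Groth.Agent.PrincBund.K826.Descend
import Groth.Agent.PrincBund.K826.TorsCover
import Groth.Agent.PrincBund.K826.FpqcSheaf
import Groth.Agent.PrincBund.K826.BcTors
import Groth.Agent.Sga3.H828.FpqcRep
import Groth.Agent.Etbase.FpqcDescent

/-!
# Push forward of a torsor along a homomorphism `u : J ⟶ J'` of group schemes, `J'` affine over the base

The push forward is the fpqc sheaf `T ↦ {s : T ×_X P ⟶ J' | s (g p) = s p * u(g)⁻¹}`, with `J'` acting by left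
translations.
-/

set_option autoImplicit false
universe u

open CategoryTheory CategoryTheory.Limits MonoidalCategory CartesianMonoidalCategory MonObj GrpObj AlgebraicGeometry Opposite

namespace K826.Push

open K826.FpqcSheaf Groth.Agent.Desc.SecFunctor

variable {X : Scheme.{u}} {J J' P : Over X} [GrpObj J] [GrpObj J'] (v : J ⟶ J')
  (a : AlgGrp.Action J P)

/-- Equivariance of a morphism `T ⊗ P ⟶ J'`: `s (g p) = s p * v(g)⁻¹`. -/
def Eqv {T : Over X} (s : T ⊗ P ⟶ J') : Prop :=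
  ∀ (T' : Over X) (t : T' ⟶ T) (g : T' ⟶ J) (p : T' ⟶ P),
    lift t (lift g p ≫ a.act) ≫ s = (lift t p ≫ s) * (g ≫ v)⁻¹

theorem Eqv.comp {T T' : Over X} {s : T ⊗ P ⟶ J'} (hs : Eqv v a s) (f : T' ⟶ T) :
    Eqv v a (f ▷ P ≫ s) := by
  intro T'' t g p
  rw [lift_whiskerRight_assoc, lift_whiskerRight_assoc, hs]

/-- The push forward functor. -/
noncomputable def pushF : (Over X)ᵒᵖ ⥤ Type u where
  obj T := {s : T.unop ⊗ P ⟶ J' // Eqv v a s}
  map f := ↾fun s => ⟨f.unop ▷ P ≫ s.1, s.2.comp v a f.unop⟩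
  map_id T := by
    refine ConcreteCategory.ext_apply fun s => ?_
    apply Subtype.ext
    change (𝟙 _ ▷ P) ≫ s.1 = s.1
    rw [id_whiskerRight, Category.id_comp]
  map_comp f g := by
    refine ConcreteCategory.ext_apply fun s => ?_
    apply Subtype.ext
    change ((g.unop ≫ f.unop) ▷ P) ≫ s.1 = g.unop ▷ P ≫ f.unop ▷ P ≫ s.1
    rw [comp_whiskerRight, Category.assoc]

theorem pushF_map_val {T T' : Over X} (f : T' ⟶ T) (s : (pushF v a).obj (op T)) :
    ((pushF v a).map f.op s).1 = f ▷ P ≫ s.1 := rfl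

theorem fst_pull_mem {T : Over X} {Sv : Sieve T.left} (hS : Sv ∈ Scheme.fpqcTopology T.left)
    {Y : Over X} (f : Y ⟶ T) : Sv.pullback f.left ∈ Scheme.fpqcTopology Y.left :=
  (Scheme.fpqcTopology).pullback_stable f.left hS

theorem isFpqcSheaf_pushF : IsFpqcSheaf (pushF v a) := by
  intro T Sv hS f hf
  have hS' := fst_pull_mem hS (fst T P)
  have hm : ∀ {T' : Over X} {t : T' ⟶ T ⊗ P}, Sv.pullback (fst T P).left t.left →
      Sv (t ≫ fst T P).left := fun h => h
  have hfv : ∀ (T' T'' : Over X) (r : T'' ⟶ T') (t : T' ⟶ T) (ht : Sv t.left)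
      (ht' : Sv (r ≫ t).left), r ▷ P ≫ (f T' t ht).1 = (f T'' (r ≫ t) ht').1 := by
    intro T' T'' r t ht ht'
    exact congrArg Subtype.val (hf T' T'' r t ht ht')
  have hcg : ∀ (T' : Over X) (t t' : T' ⟶ T) (_ : t = t') (ht : Sv t.left) (ht' : Sv t'.left),
      (f T' t ht).1 = (f T' t' ht').1 := by
    rintro T' t t' rfl ht ht'
    rfl
  obtain ⟨h, hh, hu⟩ := isFpqcSheaf_yoneda J' (T ⊗ P) _ hS'
    (fun T' t ht => (lift (𝟙 T') (t ≫ snd T P) ≫ (f T' (t ≫ fst T P) (hm ht)).1 : T' ⟶ J')) (by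
      intro T' T'' r t ht ht'
      change r ≫ lift (𝟙 T') (t ≫ snd T P) ≫ (f T' (t ≫ fst T P) (hm ht)).1 =
        lift (𝟙 T'') ((r ≫ t) ≫ snd T P) ≫ (f T'' ((r ≫ t) ≫ fst T P) (hm ht')).1
      have h1 := hfv T' T'' r (t ≫ fst T P) (hm ht) (by
        have := hm ht'
        rwa [Category.assoc] at this)
      rw [hcg T'' ((r ≫ t) ≫ fst T P) (r ≫ t ≫ fst T P) (Category.assoc _ _ _) (hm ht') (by
        have := hm ht'
        rwa [Category.assoc] at this), ← h1, lift_whiskerRight_assoc, comp_lift_assoc,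
        Category.id_comp, Category.comp_id, Category.assoc])
  replace hh : ∀ (T' : Over X) (t : T' ⟶ T ⊗ P) (ht : Sv (t ≫ fst T P).left),
      t ≫ h = lift (𝟙 T') (t ≫ snd T P) ≫ (f T' (t ≫ fst T P) ht).1 := fun T' t ht => hh T' t ht
  have hh2 : ∀ (T' : Over X) (t : T' ⟶ T) (p : T' ⟶ P) (ht : Sv t.left),
      lift t p ≫ h = lift (𝟙 T') p ≫ (f T' t ht).1 := by
    intro T' t p ht
    rw [hh T' (lift t p) (by rwa [lift_fst]), hcg T' (lift t p ≫ fst T P) t (lift_fst _ _) _ ht,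
      lift_snd]
  have hE : Eqv v a h := by
    intro T' t g p
    have hS'' := fst_pull_mem hS t
    refine (isFpqcSheaf_yoneda J').ext hS'' fun T'' r hr => ?_
    change r ≫ _ = r ≫ _
    have hr' : Sv (r ≫ t).left := hr
    have h1 : r ≫ lift t (lift g p ≫ a.act) = lift (r ≫ t) (lift (r ≫ g) (r ≫ p) ≫ a.act) := by
      rw [comp_lift, comp_lift_assoc]
    have h2 : r ≫ lift t p = lift (r ≫ t) (r ≫ p) := comp_lift _ _ _
    rw [← Category.assoc, h1, hh2 _ _ _ hr', (f T'' (r ≫ t) hr').2, comp_mul, comp_inv,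
      ← Category.assoc r (lift t p), h2, hh2 _ _ _ hr', Category.assoc]
  refine ⟨⟨h, hE⟩, fun T' t ht => ?_, fun h' hh' => ?_⟩
  · apply Subtype.ext
    change t ▷ P ≫ h = (f T' t ht).1
    have h3 : (t ▷ P : T' ⊗ P ⟶ T ⊗ P) = lift (fst T' P ≫ t) (snd T' P) := by
      apply CartesianMonoidalCategory.hom_ext <;> simp
    rw [h3, hh2 _ _ _ (Sv.downward_closed ht _), ← hfv _ _ (fst T' P) t ht, lift_whiskerRight_assoc,
      Category.id_comp, lift_fst_snd, Category.id_comp]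
  · apply Subtype.ext
    change h'.1 = h
    apply hu
    intro T' t ht
    change t ≫ h'.1 = _
    have h4 := congrArg Subtype.val (hh' T' (t ≫ fst T P) (hm ht))
    change (t ≫ fst T P) ▷ P ≫ h'.1 = _ at h4
    rw [← h4, lift_whiskerRight_assoc, Category.id_comp, ← comp_lift, lift_fst_snd,
      Category.comp_id]

end K826.Push
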