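import Groth.Agent.PrincBund.K826.Push
import Groth.Agent.RedSub.H658.TorsDiv

/-!
# Representability of the push forward functor, and the push forward torsor
-/

set_option autoImplicit false
universe u

open CategoryTheory CategoryTheory.Limits MonoidalCategory CartesianMonoidalCategory MonObj GrpObj AlgebraicGeometry Opposite

namespace K826.PushRep

open K826.FpqcSheaf K826.Push Groth.Agent.Desc.SecFunctor Groth.Agent.Desc.SecDescent
open Groth.Agent.RedSub.H658.TorsDiv

theorem quasiAffine_of_affine {X Y : Scheme.{u}} (f : X ⟶ Y) [IsAffineHom f] : Mor2.IsQuasiAffine f := by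
  refine ⟨inferInstance, fun V hV => ?_⟩
  have : IsAffine (f ⁻¹ᵁ V) := hV.preimage f
  infer_instance

variable {X : Scheme.{u}} {J J' P : Over X} [GrpObj J] [GrpObj J'] (v : J ⟶ J')
  (a : AlgGrp.Action J P) (ha : IsIso (lift a.act (snd J P)))

/-- The equivariant map attached to a point `p0` of `P` and a point `j` of `J'`. -/
noncomputable def mkS {T : Over X} (p0 : T ⟶ P) (j : T ⟶ J') : T ⊗ P ⟶ J' :=
  (fst T P ≫ j) * (dv a ha (fst T P ≫ p0) (snd T P) ≫ v)⁻¹

theorem lift_mkS {T T' : Over X} (p0 : T ⟶ P) (j : T ⟶ J') (t : T' ⟶ T) (p : T' ⟶ P) :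
    lift t p ≫ mkS v a ha p0 j = (t ≫ j) * (dv a ha (t ≫ p0) p ≫ v)⁻¹ := by
  rw [mkS, comp_mul, comp_inv, ← Category.assoc, lift_fst, ← Category.assoc, comp_dv,
    ← Category.assoc, lift_fst, lift_snd]

theorem eqv_mkS [IsMonHom v] {T : Over X} (p0 : T ⟶ P) (j : T ⟶ J') : Eqv v a (mkS v a ha p0 j) := by
  intro T' t g p
  rw [lift_mkS, lift_mkS]
  have h1 : dv a ha (t ≫ p0) (lift g p ≫ a.act) = g * dv a ha (t ≫ p0) p := by
    symm
    apply eq_dv
    rw [mul_ac, ac_dv]
    rfl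
  rw [h1, MonObj.mul_comp, _root_.mul_inv_rev, _root_.mul_assoc]

theorem dv_self {T : Over X} (p : T ⟶ P) : dv a ha p p = 1 :=
  (eq_dv a ha (one_ac a p)).symm

theorem Eqv.lift_eq {T T' : Over X} {s : T ⊗ P ⟶ J'} (hs : Eqv v a s) (t : T' ⟶ T) (p p0 : T' ⟶ P) :
    lift t p ≫ s = (lift t p0 ≫ s) * (dv a ha p0 p ≫ v)⁻¹ := by
  have := hs T' t (dv a ha p0 p) p0
  rw [← this]
  congr 2
  exact (ac_dv a ha p0 p).symm

theorem mkS_ev [IsMonHom v] {T : Over X} (p0 : T ⟶ P) (s : T ⊗ P ⟶ J') (hs : Eqv v a s) :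
    mkS v a ha p0 (lift (𝟙 T) p0 ≫ s) = s := by
  apply AlgGrp.Action.hom_ext_lift₂
  intro T' t p
  rw [lift_mkS, Eqv.lift_eq v a ha hs t p (t ≫ p0), ← Category.assoc, comp_lift, Category.comp_id]

theorem ev_mkS [IsMonHom v] {T : Over X} (p0 : T ⟶ P) (j : T ⟶ J') :
    lift (𝟙 T) p0 ≫ mkS v a ha p0 j = j := by
  rw [lift_mkS, Category.id_comp, Category.id_comp, dv_self, MonObj.one_comp, inv_one, _root_.mul_one]

/-- The trivialisation of the push forward functor over `S' ⟶ P`. -/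
noncomputable def trivIso [IsMonHom v] {S' : Scheme.{u}} (f : S' ⟶ X) (y : S' ⟶ P.left)
    (hy : y ≫ P.hom = f) : restr f (yoneda.obj J') ≅ restr f (pushF v a) :=
  let pt (T' : Over S') : (Over.map f).obj T' ⟶ P := Over.homMk (T'.hom ≫ y) (by simp [hy])
  NatIso.ofComponents (fun T' => Equiv.toIso
    { toFun := fun (j : (Over.map f).obj T'.unop ⟶ J') =>
        (⟨mkS v a ha (pt T'.unop) j, eqv_mkS v a ha _ _⟩ :
          {s : (Over.map f).obj T'.unop ⊗ P ⟶ J' // Eqv v a s})
      invFun := fun s => lift (𝟙 _) (pt T'.unop) ≫ s.1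
      left_inv := fun j => ev_mkS v a ha (pt T'.unop) j
      right_inv := fun s => Subtype.ext (mkS_ev v a ha (pt T'.unop) s.1 s.2) }) (by
    intro T' T'' g
    refine ConcreteCategory.ext_apply fun j => ?_
    apply Subtype.ext
    have hpt : (Over.map f).map g.unop ≫ pt T'.unop = pt T''.unop := by
      ext1
      simp [pt]
    change mkS v a ha (pt T''.unop) ((Over.map f).map g.unop ≫ j) =
      ((Over.map f).map g.unop) ▷ P ≫ mkS v a ha (pt T'.unop) j
    apply AlgGrp.Action.hom_ext_lift₂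
    intro Y t p
    rw [lift_mkS, lift_whiskerRight_assoc, lift_mkS, ← hpt, Category.assoc, Category.assoc])

include ha in
/-- Representability of the push forward functor by a scheme affine over the base. -/
theorem exists_rep [IsMonHom v] [IsAffineHom J'.hom]
    (hl : NonAbH1.IsLocallyTrivialFor Scheme.fpqcPrecoverage P) :
    ∃ E : Over X, IsAffineHom E.hom ∧ Nonempty ((pushF v a).RepresentableBy E) := by
  have hsh := isFpqcSheaf_pushF v a
  obtain ⟨S', f, hf, hs, y, hy, hc⟩ := K826.TorsCover.exists_cover hl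
  have := Groth.Agent.Etbase.FpqcDescent.descendsAlong_isAffineHom.{u}
  refine Groth.Agent.Sga3.H828.FpqcRep.exists_rep_of_fpqcCover (pushF v a) hsh.isZarSheaf
    (fun g h1 h2 h3 => hsh.isDesc g h1 h2 h3) @IsAffineHom f hc fun s' => ?_
  refine ⟨⊤, trivial, (Over.pullback ((⊤ : S'.Opens).ι ≫ f)).obj J', ?_, ?_, ⟨?_⟩⟩
  · exact MorphismProperty.pullback_snd (P := @IsAffineHom) _ _ inferInstance
  · have : IsAffineHom ((Over.pullback ((⊤ : S'.Opens).ι ≫ f)).obj J').hom :=
      MorphismProperty.pullback_snd (P := @IsAffineHom) _ _ inferInstance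
    exact quasiAffine_of_affine _
  · refine (pullRep ((⊤ : S'.Opens).ι ≫ f) (G := yoneda.obj J') (V := J')
      (Functor.RepresentableBy.yoneda J')).ofIso ?_
    exact trivIso v a ha ((⊤ : S'.Opens).ι ≫ f) ((⊤ : S'.Opens).ι ≫ y) (by rw [Category.assoc, hy])

end K826.PushRep
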