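import Groth.Agent.RedSub.H650.QuotPts
import Groth.Agent.Etbase.FpqcDescent
import Groth.Agent.PrincBund.K826.Tors

/-!
# The fibration `G/G' → G₁/G₁'` for a normal subgroup `G₀` with quotient `G₁`
-/

set_option autoImplicit false

universe u

open CategoryTheory MonoidalCategory CartesianMonoidalCategory MonObj GrpObj AlgebraicGeometry Limits

namespace K826.QuotFib

open Groth.Agent.RedSub.H650 Groth.Agent.RedSub.H650.QuotPts

variable {S : Scheme.{u}}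

/-- fppf coverings -/
def Cov {T' T : Over S} (t : T' ⟶ T) : Prop :=
  Surjective t.left ∧ Flat t.left ∧ LocallyOfFinitePresentation t.left

theorem Cov.comp {T'' T' T : Over S} {t' : T'' ⟶ T'} {t : T' ⟶ T} (h' : Cov t') (h : Cov t) :
    Cov (t' ≫ t) := by
  obtain ⟨h1, h2, h3⟩ := h
  obtain ⟨h1', h2', h3'⟩ := h'
  rw [Cov, Over.comp_left]
  exact ⟨inferInstance, inferInstance, inferInstance⟩

theorem Cov.epi {T' T : Over S} {t : T' ⟶ T} (h : Cov t) : Epi t := by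
  obtain ⟨h1, h2, h3⟩ := h
  have : Epi t.left := Flat.epi_of_flat_of_surjective t.left
  exact Over.epi_of_epi_left t

theorem Cov.cancel {T' T Y : Over S} {t : T' ⟶ T} (h : Cov t) {a b : T ⟶ Y} (hab : t ≫ a = t ≫ b) :
    a = b := by
  have := h.epi
  exact (cancel_epi t).1 hab

/-- Points lift along coverings, locally. -/
theorem Cov.exists_lift {G Q : Over S} {q : G ⟶ Q} (h : Cov q) {T : Over S} (x : T ⟶ Q) :
    ∃ (T' : Over S) (t : T' ⟶ T) (g : T' ⟶ G), Cov t ∧ g ≫ q = t ≫ x := by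
  obtain ⟨h1, h2, h3⟩ := h
  refine ⟨pullback x q, pullback.fst x q, pullback.snd x q, ?_, pullback.condition.symm⟩
  have hpb := (IsPullback.of_hasPullback x q).map (Over.forget S)
  exact ⟨MorphismProperty.of_isPullback (P := @Surjective) hpb.flip h1,
    MorphismProperty.of_isPullback (P := @Flat) hpb.flip h2,
    MorphismProperty.of_isPullback (P := @LocallyOfFinitePresentation) hpb.flip h3⟩

/-- Descent of morphisms. -/
theorem Cov.desc {T' T Y : Over S} {t : T' ⟶ T} (h : Cov t) (y : T' ⟶ Y)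
    (hy : ∀ (Z : Over S) (a b : Z ⟶ T'), a ≫ t = b ≫ t → a ≫ y = b ≫ y) : ∃ z : T ⟶ Y, t ≫ z = y := by
  obtain ⟨h1, h2, h3⟩ := h
  obtain ⟨g, hg⟩ := Groth.Agent.Sga3C.QuotRel.exists_desc t.left y.left fun {Z} a b hab => by
    have hw : b ≫ T'.hom = a ≫ T'.hom := by
      rw [← Over.w t, ← Category.assoc, ← hab, Category.assoc]
    let a' : Over.mk (a ≫ T'.hom) ⟶ T' := Over.homMk a rfl
    let b' : Over.mk (a ≫ T'.hom) ⟶ T' := Over.homMk b hw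
    exact congrArg (fun x => x.left) (hy _ a' b' (Over.OverMorphism.ext hab))
  have hgw : g ≫ Y.hom = T.hom := by
    have : Epi t.left := Flat.epi_of_flat_of_surjective t.left
    rw [← cancel_epi t.left, ← Category.assoc, hg, Over.w, Over.w]
  exact ⟨Over.homMk g hgw, Over.OverMorphism.ext hg⟩

variable {G G' G₀ G₁ G₀' G₁' Qa Qb Q : Over S} [GrpObj G] [GrpObj G'] [GrpObj G₀] [GrpObj G₁]
  [GrpObj G₀'] [GrpObj G₁']
  (i' : G' ⟶ G) [IsMonHom i'] (i₀ : G₀ ⟶ G) [IsMonHom i₀] (q₁ : G ⟶ G₁) [IsMonHom q₁]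
  (hq₁ : RedSub.IsQuotient i₀ q₁) (j : G₀' ⟶ G₀) (j' : G₀' ⟶ G') (hj : IsPullback j j' i₀ i')
  (i₁' : G₁' ⟶ G₁) (p : G' ⟶ G₁') (hp : p ≫ i₁' = i' ≫ q₁) (hpc : Cov p)
  (qa : G₀ ⟶ Qa) (hqa : RedSub.IsQuotient j qa) (qb : G₁ ⟶ Qb) (hqb : RedSub.IsQuotient i₁' qb)
  (q : G ⟶ Q) (hq : RedSub.IsQuotient i' q)

theorem cov_of_isQuotient {G P Q : Over S} [GrpObj G] {i : P ⟶ G} {q : G ⟶ Q} (h : RedSub.IsQuotient i q) :
    Cov q := ⟨h.1, h.2.1, h.2.2.1⟩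

include hp hqb hq in
/-- The morphism `G/G' → G₁/G₁'`. -/
theorem exists_rho : ∃ ρ : Q ⟶ Qb, q ≫ ρ = q₁ ≫ qb := by
  refine exists_desc hq (q₁ ≫ qb) fun T a y => ?_
  rw [← Category.assoc, MonObj.mul_comp, Category.assoc y, ← hp, ← Category.assoc y, QuotPts.mul_comp hqb,
    Category.assoc]

include hj hqa hq in
/-- The morphism `G × G₀/G₀' → G/G'`. -/
theorem exists_m : ∃ m : G ⊗ Qa ⟶ Q, ∀ (T : Over S) (g : T ⟶ G) (x : T ⟶ G₀),
    lift g (x ≫ qa) ≫ m = (g * (x ≫ i₀)) ≫ q := by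
  have hcov : Cov (G ◁ qa) := by
    have h1 : IsPullback (snd G G₀) (G ◁ qa) qa (snd G Qa) := by
      refine K826.Tors.isPullback_of_points (by rw [whiskerLeft_snd]) fun T a b hab => ?_
      refine ⟨lift (b ≫ fst G Qa) a, ⟨by simp, ?_⟩, ?_⟩
      · apply CartesianMonoidalCategory.hom_ext
        · simp
        · simp [hab]
      · rintro y ⟨rfl, rfl⟩
        apply CartesianMonoidalCategory.hom_ext <;> simp
    have h2 := h1.map (Over.forget S)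
    obtain ⟨c1, c2, c3⟩ := cov_of_isQuotient hqa
    exact ⟨MorphismProperty.of_isPullback (P := @Surjective) h2 c1,
      MorphismProperty.of_isPullback (P := @Flat) h2 c2,
      MorphismProperty.of_isPullback (P := @LocallyOfFinitePresentation) h2 c3⟩
  obtain ⟨m, hm⟩ := hcov.desc ((fst G G₀ * (snd G G₀ ≫ i₀)) ≫ q) (by
    intro Z a b hab
    have h1 : a ≫ fst G G₀ = b ≫ fst G G₀ := by
      have := congrArg (· ≫ fst G Qa) hab
      simpa using this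
    have h2 : (a ≫ snd G G₀) ≫ qa = (b ≫ snd G G₀) ≫ qa := by
      have := congrArg (· ≫ snd G Qa) hab
      simpa using this
    obtain ⟨y, hy⟩ := (ptQuot_of_isPullback hqa.2.2.2 _ _ _).1 h2
    have e1 : a ≫ (fst G G₀ * (snd G G₀ ≫ i₀)) = (a ≫ fst G G₀) * ((a ≫ snd G G₀) ≫ i₀) := by
      rw [MonObj.comp_mul, Category.assoc]
    have e2 : b ≫ (fst G G₀ * (snd G G₀ ≫ i₀)) =
        (a ≫ fst G G₀) * ((a ≫ snd G G₀) ≫ i₀) * ((y ≫ j') ≫ i') := by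
      rw [MonObj.comp_mul, ← Category.assoc b (snd G G₀), hy, MonObj.mul_comp, ← h1, Category.assoc y, hj.w,
        Category.assoc y, _root_.mul_assoc]
    rw [← Category.assoc, ← Category.assoc, e1, e2, QuotPts.mul_comp hq])
  refine ⟨m, fun T g x => ?_⟩
  have h1 : lift g (x ≫ qa) = lift g x ≫ (G ◁ qa) := by simp
  rw [h1, Category.assoc, hm, ← Category.assoc, MonObj.comp_mul, lift_fst, ← Category.assoc (lift g x),
    lift_snd]

include hj hqa hq in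
/-- Uniqueness of the second coordinate. -/
theorem m_uniq {m : G ⊗ Qa ⟶ Q} (hm : ∀ (T : Over S) (g : T ⟶ G) (x : T ⟶ G₀),
    lift g (x ≫ qa) ≫ m = (g * (x ≫ i₀)) ≫ q) {T : Over S} (g : T ⟶ G) (y y' : T ⟶ Qa)
    (h : lift g y ≫ m = lift g y' ≫ m) : y = y' := by
  have hc := cov_of_isQuotient hqa
  obtain ⟨T₁, t₁, a, ht₁, ha⟩ := hc.exists_lift y
  obtain ⟨T₂, t₂, a', ht₂, ha'⟩ := hc.exists_lift (t₁ ≫ y')
  apply (ht₂.comp ht₁).cancel
  have h1 : (((t₂ ≫ t₁) ≫ g) * ((t₂ ≫ a) ≫ i₀)) ≫ q = (((t₂ ≫ t₁) ≫ g) * (a' ≫ i₀)) ≫ q := by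
    rw [← hm, ← hm, ha', Category.assoc t₂ a, ha]
    have h2 := congrArg ((t₂ ≫ t₁) ≫ ·) h
    simpa [comp_lift_assoc] using h2
  obtain ⟨z, hz⟩ := (ptQuot_of_isPullback hq.2.2.2 _ _ _).1 h1
  have h2 : ((t₂ ≫ a)⁻¹ * a') ≫ i₀ = z ≫ i' := by
    rw [MonObj.mul_comp, GrpObj.inv_comp, inv_mul_eq_iff_eq_mul, ← mul_right_inj ((t₂ ≫ t₁) ≫ g), hz,
      _root_.mul_assoc]
  have h3 : a' = (t₂ ≫ a) * (hj.lift _ _ h2 ≫ j) := by
    rw [hj.lift_fst, mul_inv_cancel_left]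
  have h4 : (t₂ ≫ a) ≫ qa = a' ≫ qa := by
    rw [h3, QuotPts.mul_comp hqa]
  rw [Category.assoc t₂ a, ha, ha'] at h4
  simpa using h4

include hp hpc hq₁ hj hqa hqb hq in
/-- The square. -/
theorem isPullback_m {m : G ⊗ Qa ⟶ Q} (hm : ∀ (T : Over S) (g : T ⟶ G) (x : T ⟶ G₀),
    lift g (x ≫ qa) ≫ m = (g * (x ≫ i₀)) ≫ q) {ρ : Q ⟶ Qb} (hρ : q ≫ ρ = q₁ ≫ qb) :
    IsPullback (fst G Qa) m (q₁ ≫ qb) ρ := by
  have hker : ∀ {T : Over S} (x : T ⟶ G₀), (x ≫ i₀) ≫ q₁ = 1 := by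
    intro T x
    have h1 := QuotPts.mul_comp hq₁ (1 : T ⟶ G) x
    rw [_root_.one_mul] at h1
    rw [h1, MonObj.one_comp]
  have hw : fst G Qa ≫ q₁ ≫ qb = m ≫ ρ := by
    have hc := cov_of_isQuotient hqa
    obtain ⟨T₁, t₁, a, ht₁, ha⟩ := hc.exists_lift (snd G Qa)
    apply ht₁.cancel
    have h1 : t₁ = lift (t₁ ≫ fst G Qa) (a ≫ qa) := by
      rw [ha]
      apply CartesianMonoidalCategory.hom_ext <;> simp
    have h2 : t₁ ≫ m = ((t₁ ≫ fst G Qa) * (a ≫ i₀)) ≫ q := by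
      rw [← hm, ← h1]
    have h3 : ((t₁ ≫ fst G Qa) * (a ≫ i₀)) ≫ q₁ = (t₁ ≫ fst G Qa) ≫ q₁ := by
      rw [MonObj.mul_comp, hker, _root_.mul_one]
    have h4 : ((t₁ ≫ fst G Qa) * (a ≫ i₀)) ≫ q₁ ≫ qb = (t₁ ≫ fst G Qa) ≫ q₁ ≫ qb := by
      rw [← Category.assoc, h3, Category.assoc]
    rw [← Category.assoc t₁ m, h2, Category.assoc _ q, hρ, h4, Category.assoc]
  refine K826.Tors.isPullback_of_points hw fun T g x hgx => ?_
  -- local lifts
  obtain ⟨T₁, t₁, h, ht₁, hh⟩ := (cov_of_isQuotient hq).exists_lift x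
  have h1 : ((t₁ ≫ g) ≫ q₁) ≫ qb = (h ≫ q₁) ≫ qb := by
    rw [Category.assoc h, ← hρ, ← Category.assoc h, hh, Category.assoc t₁ x, ← hgx]
    simp only [Category.assoc]
  obtain ⟨z, hz⟩ := (ptQuot_of_isPullback hqb.2.2.2 _ _ _).1 h1
  obtain ⟨T₂, t₂, g', ht₂, hg'⟩ := hpc.exists_lift z
  let w : T₂ ⟶ G := (t₂ ≫ t₁ ≫ g)⁻¹ * (t₂ ≫ h) * (g' ≫ i')⁻¹
  have hw1 : w ≫ q₁ = 1 := by
    have e1 : (g' ≫ i') ≫ q₁ = t₂ ≫ z ≫ i₁' := by
      rw [Category.assoc, ← hp, ← Category.assoc, hg', Category.assoc]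
    have e2 : (t₂ ≫ h) ≫ q₁ = (t₂ ≫ t₁ ≫ g) ≫ q₁ * (t₂ ≫ z ≫ i₁') := by
      rw [Category.assoc, hz, MonObj.comp_mul]
      simp only [Category.assoc]
    rw [MonObj.mul_comp, MonObj.mul_comp, GrpObj.inv_comp, GrpObj.inv_comp, e1, e2, inv_mul_cancel_left,
      mul_inv_cancel]
  obtain ⟨a, ha⟩ := (ptQuot_of_isPullback hq₁.2.2.2 T₂ (1 : T₂ ⟶ G) w).1 (by rw [hw1, MonObj.one_comp])
  rw [_root_.one_mul] at ha
  have h2 : t₂ ≫ h = ((t₂ ≫ t₁ ≫ g) * (a ≫ i₀)) * (g' ≫ i') := by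
    rw [← ha]
    simp only [w]
    group
  have h3 : lift ((t₂ ≫ t₁) ≫ g) (a ≫ qa) ≫ m = (t₂ ≫ t₁) ≫ x := by
    rw [hm, Category.assoc t₂ t₁ g, ← QuotPts.mul_comp hq _ g', ← h2, Category.assoc, hh, Category.assoc]
  obtain ⟨y, hy⟩ := (ht₂.comp ht₁).desc (a ≫ qa) (by
    intro Z b b' hbb
    refine m_uniq i' i₀ j j' hj qa hqa q hq hm (b ≫ (t₂ ≫ t₁) ≫ g) _ _ ?_
    have e1 := congrArg (b ≫ ·) h3
    have e2 := congrArg (b' ≫ ·) h3
    rw [← Category.assoc b, comp_lift] at e1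
    rw [← Category.assoc b', comp_lift, ← Category.assoc b' (t₂ ≫ t₁) g, ← hbb, Category.assoc b (t₂ ≫ t₁) g,
      ← Category.assoc b' (t₂ ≫ t₁) x, ← hbb, Category.assoc b (t₂ ≫ t₁) x] at e2
    rw [e1, e2])
  refine ⟨lift g y, ⟨lift_fst _ _, ?_⟩, ?_⟩
  · apply (ht₂.comp ht₁).cancel
    rw [← h3, ← hy, comp_lift_assoc]
  · rintro e ⟨rfl, he⟩
    apply CartesianMonoidalCategory.hom_ext
    · rw [lift_fst]
    · rw [lift_snd]
      refine m_uniq i' i₀ j j' hj qa hqa q hq hm (e ≫ fst G Qa) _ _ ?_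
      have h5 : lift (e ≫ fst G Qa) (e ≫ snd G Qa) = e := by
        apply CartesianMonoidalCategory.hom_ext <;> simp
      rw [h5, he]
      apply (ht₂.comp ht₁).cancel
      rw [← h3, ← hy, comp_lift_assoc]

include hp hpc hq₁ hj hqa hqb hq in
/-- `G/G'` is affine over `G₁/G₁'` when `G₀/G₀'` is affine over the base. -/
theorem isAffineHom_rho [IsAffineHom Qa.hom] [QuasiCompact (q₁ ≫ qb).left] {ρ : Q ⟶ Qb}
    (hρ : q ≫ ρ = q₁ ≫ qb) : IsAffineHom ρ.left := by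
  obtain ⟨m, hm⟩ := exists_m i' i₀ j j' hj qa hqa q hq
  have hpb := (isPullback_m i' i₀ q₁ hq₁ j j' hj i₁' p hp hpc qa hqa qb hqb q hq hm hρ).map (Over.forget S)
  have hc : Cov (q₁ ≫ qb) := (cov_of_isQuotient hq₁).comp (cov_of_isQuotient hqb)
  have h1 : IsAffineHom (fst G Qa).left :=
    MorphismProperty.of_isPullback (P := @IsAffineHom)
      (IsPullback.of_hasPullback G.hom Qa.hom).flip inferInstance
  exact MorphismProperty.of_isPullback_of_descendsAlong (P := @IsAffineHom)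
    (Q := (@Surjective ⊓ @Flat ⊓ @QuasiCompact : MorphismProperty Scheme.{u})) hpb
    ⟨⟨hc.1, hc.2.1⟩, (inferInstance : QuasiCompact (q₁ ≫ qb).left)⟩ h1

end K826.QuotFib
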