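import Groth.Agent.AGF.K494.RadSch
import Groth.Agent.AGF.K494.HomDict
import Groth.Agent.AGF.K494.RadRed
import Groth.Agent.HopfRep.K192.RedQuot
import Groth.Agent.HopfRep.K191.BaseInt
import Groth.Agent.S0353

/-!
# The quotient by the unipotent radical is linearly reductive in characteristic zero (no connectedness)
-/

set_option autoImplicit false

universe u

open CategoryTheory MonoidalCategory CartesianMonoidalCategory MonObj GrpObj AlgebraicGeometry
open Groth.Agent Groth.Agent.Books.AffBridge Groth.Agent.Books.AffBridge2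
open TensorProduct WithConv
open Groth.Agent.Sga3B Groth.Agent.Sga3B.RG Groth.Agent.Sga3B.RG.BrPts
open Groth.Agent.Sga3B.RootBridge989 Groth.Agent.Sga3B.RG.BcPt
open Groth.Agent.Sga3B.Parab.BorelPts172
open Groth.Agent.Agf.H604.SemiDesc Groth.Agent.Agf.H604.BcSub
open Groth.Agent.Agf.H612.GalMain

namespace K826.RuQuot

section points

variable {K : Type u} [Field K] [IsAlgClosed K] {A : Type u} [CommRing A] [HopfAlgebra K A]
  [Algebra.FiniteType K A]

/-- The quotient by the unipotent radical has trivial unipotent radical (no connectedness). -/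
theorem isRedPt_of_ker' {C : Type u} [CommRing C] [HopfAlgebra K C] [_root_.IsReduced A]
    (φ : C →ₐc[K] A) (hs : Function.Surjective (Pt.map φ)) (hu : ∀ g ∈ (Pt.map φ).ker, IsUnip g)
    (hmax : ∀ M : Subgroup (Pt K A), (M.Normal ∧ IsCl (M : Set (Pt K A)) ∧
      IsConn (M : Set (Pt K A)) ∧ ∀ g ∈ M, IsUnip g) → M ≤ (Pt.map φ).ker) : IsRedPt K C := by
  intro M hMn hMcl hMconn hMu
  have hPcl : IsCl ((M.comap (Pt.map φ) : Subgroup (Pt K A)) : Set (Pt K A)) :=
    hMcl.preimage_map φ
  have hmap : (M.comap (Pt.map φ)).map (Pt.map φ) = M :=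
    Subgroup.map_comap_eq_self_of_surjective hs M
  have hnP : (M.comap (Pt.map φ)).Normal := hMn.comap _
  have hle : idComp (M.comap (Pt.map φ)) ≤ M.comap (Pt.map φ) := idComp_le hPcl
  have h1 : idComp (M.comap (Pt.map φ)) ≤ (Pt.map φ).ker := by
    refine hmax _ ⟨normal_idComp hPcl hnP, isCl_idComp _, isConn_idComp _, ?_⟩
    refine Groth.Agent.Agf.H593.UnipRad.isUnip_of_map_of_ker φ (isCl_idComp _) (isConn_idComp _) ?_ ?_
    · intro g hg
      exact hMu _ (hle hg)
    · intro g _ hg1
      exact hu _ hg1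
  have h2 := Groth.Agent.Agf.H593.UnipRad.map_idComp φ hPcl (by rw [hmap]; exact hMconn)
  rw [hmap] at h2
  rw [← h2, eq_bot_iff]
  rintro _ ⟨x, hx, rfl⟩
  exact h1 hx

end points

section main

variable {k : Type u} [Field k] [CharZero k] {G U L : Over (Spec (CommRingCat.of k))} [GrpObj G] [GrpObj U]
  [GrpObj L] [IsAffine G.left] [LocallyOfFiniteType G.hom] [LocallyOfFiniteType L.hom]

/-- **The quotient of an affine group of finite type by its unipotent radical is linearly reductive** in
characteristic zero. -/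
theorem isLinearlyReductive (u : U ⟶ G) (hU : Par.IsUnipotentRadical u) (q : G ⟶ L) [IsMonHom q]
    [Surjective q.left] (hq : AlgGrp.IsKernel u q) {C : Type u} [CommRing C] [HopfAlgebra k C]
    (e' : L ≅ SpecOver k C) [IsMonHom e'.hom] : HopfRep.IsLinearlyReductive k C := by
  have hu := hU.1
  have hsm : Smooth G.hom := Groth.Agent.S0353.result k G
  have hsm' : Smooth L.hom := Groth.Agent.S0353.result k L
  obtain ⟨A, _, _, e, he, hft⟩ := K494.RadRed.exists_hopf_ft k G
  have hsmC : Smooth (SpecOver k C).hom := by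
    rw [hom_eq_of_iso e'.symm]
    infer_instance
  have hftC : Algebra.FiniteType k C := (locallyOfFiniteType_specOver_iff k C).1 inferInstance
  obtain ⟨φ, hφ⟩ := K494.HomDict.exists_hom e e' q
  let s : Spec (CommRingCat.of k) := IsLocalRing.closedPoint k
  have hrad := K494.RadSch.isURad_gmPts e s u hU
  rw [← K494.HomDict.ker_eq e e' hφ u hq] at hrad
  have hs := K494.HomDict.surjective_map (Om k s) e e' hφ
  have hred : _root_.IsReduced (Om k s ⊗[k] A) := K494.RadSch.isReduced_tensor e
  have hredC : _root_.IsReduced (Om k s ⊗[k] C) := K494.RadSch.isReduced_tensor e'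
  have h1 : IsRedPt (Om k s) (Om k s ⊗[k] C) := isRedPt_of_ker' _ hs hrad.isUnip
    fun M hM => hrad.le M hM.1 hM.2.1 hM.2.2.1 hM.2.2.2
  have : CharZero (Om k s) := charZero_of_injective_algebraMap (algebraMap k (Om k s)).injective
  rw [K191.BaseInt.isLinearlyReductive_iff_baseChange (K := Om k s)]
  exact K192.RedQuot.isLinearlyReductive h1

end main

end K826.RuQuot
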