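import Groth.Agent.LoccohA.HomDense
import Groth.Agent.VarietyB.PullSec
import Mathlib.RingTheory.Unramified.Finite
import Mathlib.AlgebraicGeometry.Morphisms.Etale

/-!
# The counit `p^* p_* V → V` splits for `p` finite étale
-/

set_option autoImplicit false
universe u

open CategoryTheory AlgebraicGeometry TopologicalSpace Opposite TensorProduct

namespace K826.SplitCounit

section alg

variable {R S : Type*} [CommRing R] [CommRing S] [Algebra R S]

theorem mul_eq {t : S ⊗[R] S} (ht : ∀ s, ((1 : S) ⊗ₜ[R] s) * t = (s ⊗ₜ[R] (1 : S)) * t) (z : S ⊗[R] S) :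
    z * t = (Algebra.TensorProduct.lmul' R z ⊗ₜ 1) * t := by
  induction z with
  | zero => simp
  | add x y hx hy => rw [add_mul, hx, hy, map_add, TensorProduct.add_tmul, add_mul]
  | tmul x y =>
    have h1 : (x ⊗ₜ[R] y : S ⊗[R] S) = (x ⊗ₜ 1) * (1 ⊗ₜ y) := by simp
    rw [h1, mul_assoc, ht, ← mul_assoc]
    simp

theorem idem_unique {t t' : S ⊗[R] S} (ht : ∀ s, ((1 : S) ⊗ₜ[R] s) * t = (s ⊗ₜ[R] (1 : S)) * t)
    (ht1 : Algebra.TensorProduct.lmul' R t = 1)
    (ht' : ∀ s, ((1 : S) ⊗ₜ[R] s) * t' = (s ⊗ₜ[R] (1 : S)) * t')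
    (ht1' : Algebra.TensorProduct.lmul' R t' = 1) : t = t' := by
  have h1 := mul_eq ht t'
  have h2 := mul_eq ht' t
  rw [ht1', ← Algebra.TensorProduct.one_def, one_mul] at h1
  rw [ht1, ← Algebra.TensorProduct.one_def, one_mul] at h2
  rw [← h1, mul_comm, h2]

/-- Localization of the separability idempotent. -/
theorem elem_map {R R' S S' : Type*} [CommRing R] [CommRing S] [Algebra R S] [CommRing R'] [CommRing S']
    [Algebra R' S'] (f : R →+* R') (g : S →+* S')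
    (h : g.comp (algebraMap R S) = (algebraMap R' S').comp f) (a : R)
    (ha : IsUnit (f a)) (hloc : ∀ s' : S', ∃ (n : ℕ) (s : S), g s = algebraMap R' S' (f a) ^ n * s')
    {t : S ⊗[R] S} (ht : ∀ s, ((1 : S) ⊗ₜ[R] s) * t = (s ⊗ₜ[R] (1 : S)) * t)
    {t' : S' ⊗[R'] S'} (ht' : ∀ s, ((1 : S') ⊗ₜ[R'] s) * t' = (s ⊗ₜ[R'] (1 : S')) * t')
    (ht1 : Algebra.TensorProduct.lmul' R t = 1)
    (ht1' : Algebra.TensorProduct.lmul' R' t' = 1) :
    Algebra.TensorProduct.mapRingHom f g g h h t = t' := by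
  refine idem_unique (fun s' => ?_) ?_ ht' ht1'
  · obtain ⟨n, s, hs⟩ := hloc s'
    have h1 := congrArg (Algebra.TensorProduct.mapRingHom f g g h h) (ht s)
    rw [map_mul, map_mul, Algebra.TensorProduct.mapRingHom_tmul, Algebra.TensorProduct.mapRingHom_tmul,
      map_one, hs] at h1
    have e1 : (1 : S') ⊗ₜ[R'] (algebraMap R' S' (f a) ^ n * s') = f a ^ n • ((1 : S') ⊗ₜ[R'] s') := by
      rw [← map_pow, ← Algebra.smul_def, TensorProduct.tmul_smul]
    have e2 : (algebraMap R' S' (f a) ^ n * s') ⊗ₜ[R'] (1 : S') = f a ^ n • (s' ⊗ₜ[R'] (1 : S')) := by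
      rw [← map_pow, ← Algebra.smul_def, TensorProduct.smul_tmul']
    rw [e1, e2, smul_mul_assoc, smul_mul_assoc] at h1
    exact (ha.pow n).smul_left_cancel.1 h1
  · have h2 : (Algebra.TensorProduct.lmul' R' (S := S')).toRingHom.comp
        (Algebra.TensorProduct.mapRingHom f g g h h) =
        g.comp (Algebra.TensorProduct.lmul' R (S := S)).toRingHom := by
      ext z
      · simp
      · simp
    have h3 := congrArg (fun φ => φ t) h2
    change Algebra.TensorProduct.lmul' R' (Algebra.TensorProduct.mapRingHom f g g h h t) =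
      g (Algebra.TensorProduct.lmul' R t) at h3
    rw [h3, ht1, map_one]

end alg

open Groth.Agent.Ega1.QCohLoc
open Groth.Agent.LoccohB.GlueHom (LHom exists_glue)
open Groth.Agent.VarietyB.PullSec Groth.Agent.LoccohA.HomDense

variable {X X' : Scheme.{u}} (p : X' ⟶ X)

/-- The algebra structure. -/
@[reducible] noncomputable def alg (U : X.Opens) : Algebra Γ(X, U) Γ(X', p ⁻¹ᵁ U) :=
  (p.appLE U (p ⁻¹ᵁ U) le_rfl).hom.toAlgebra

variable (V' : X'.Modules)

/-- The pullback of the pushforward. -/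
noncomputable abbrev PP : X'.Modules :=
  (Scheme.Modules.pullback p).obj ((Scheme.Modules.pushforward p).obj V')

/-- `V'`-sections over `p⁻¹ U` as sections of `p^* p_* V'`. -/
noncomputable def sc (U : X.Opens) : Γ(V', p ⁻¹ᵁ U) →+ Γ(PP p V', p ⁻¹ᵁ U) :=
  sec p ((Scheme.Modules.pushforward p).obj V') (le_refl (p ⁻¹ᵁ U))

theorem appLE_self (U : X.Opens) : p.appLE U (p ⁻¹ᵁ U) le_rfl = p.app U :=
  p.app_eq_appLE.symm

theorem sc_smul (U : X.Opens) (a : Γ(X, U)) (m : Γ(V', p ⁻¹ᵁ U)) :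
    sc p V' U ((p.appLE U (p ⁻¹ᵁ U) le_rfl).hom a • m) =
      (p.appLE U (p ⁻¹ᵁ U) le_rfl).hom a • sc p V' U m := by
  have h1 := sec_smul p ((Scheme.Modules.pushforward p).obj V') (le_refl (p ⁻¹ᵁ U)) a
    (show Γ((Scheme.Modules.pushforward p).obj V', U) from m)
  refine Eq.trans ?_ h1
  have h2 : (p.appLE U (p ⁻¹ᵁ U) le_rfl).hom a = (p.app U).hom a := by rw [appLE_self]
  rw [h2]
  rfl

theorem sc_res {U W : X.Opens} (h : W ≤ U) (m : Γ(V', p ⁻¹ᵁ U)) :
    res (PP p V') (p.preimage_mono h) (sc p V' U m) = sc p V' W (res V' (p.preimage_mono h) m) :=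
  sec_res p ((Scheme.Modules.pushforward p).obj V') (le_refl (p ⁻¹ᵁ U)) (le_refl (p ⁻¹ᵁ W)) h
    (p.preimage_mono h) (show Γ((Scheme.Modules.pushforward p).obj V', U) from m)

theorem counit_sc (U : X.Opens) (m : Γ(V', p ⁻¹ᵁ U)) :
    ((Scheme.Modules.pullbackPushforwardAdjunction p).counit.app V').app (p ⁻¹ᵁ U) (sc p V' U m) = m := by
  have h := (Scheme.Modules.pullbackPushforwardAdjunction p).right_triangle_components V'
  have h1 := ConcreteCategory.congr_hom (congrArg (fun k => Scheme.Modules.Hom.app k U) h)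
    (show Γ((Scheme.Modules.pushforward p).obj V', U) from m)
  have h2 : sc p V' U m = (((Scheme.Modules.pullbackPushforwardAdjunction p).unit.app
      ((Scheme.Modules.pushforward p).obj V')).app U (show Γ((Scheme.Modules.pushforward p).obj V', U) from m)) := by
    refine (sec_apply p ((Scheme.Modules.pushforward p).obj V') (le_refl (p ⁻¹ᵁ U)) _).trans ?_
    exact congrArg (fun φ => φ.hom (((Scheme.Modules.pullbackPushforwardAdjunction p).unit.app
      ((Scheme.Modules.pushforward p).obj V')).app U (show Γ((Scheme.Modules.pushforward p).obj V', U) from m)))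
      ((PP p V').presheaf.map_id (op (p ⁻¹ᵁ U)))
  rw [h2]
  exact h1

/-- the pairing -/
noncomputable def pair (U : X.Opens) (m : Γ(V', p ⁻¹ᵁ U)) :
    letI := alg p U
    Γ(X', p ⁻¹ᵁ U) ⊗[Γ(X, U)] Γ(X', p ⁻¹ᵁ U) →+ Γ(PP p V', p ⁻¹ᵁ U) :=
  letI := alg p U
  TensorProduct.liftAddHom
    { toFun := fun x =>
        { toFun := fun y => x • sc p V' U (y • m)
          map_zero' := by rw [zero_smul, map_zero, smul_zero]
          map_add' := fun y y' => by rw [add_smul, map_add, smul_add] }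
      map_zero' := by ext; simp
      map_add' := fun x x' => by ext; simp [add_smul] }
    (fun r x y => by
      change (r • x) • sc p V' U (y • m) = x • sc p V' U ((r • y) • m)
      rw [Algebra.smul_def, Algebra.smul_def, mul_smul (algebraMap Γ(X, U) Γ(X', p ⁻¹ᵁ U) r) y m]
      have h1 := sc_smul p V' U r (y • m)
      change sc p V' U ((algebraMap Γ(X, U) Γ(X', p ⁻¹ᵁ U) r) • y • m) =
        (algebraMap Γ(X, U) Γ(X', p ⁻¹ᵁ U) r) • sc p V' U (y • m) at h1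
      rw [h1, ← mul_smul, mul_comm])

theorem pair_tmul (U : X.Opens) (m : Γ(V', p ⁻¹ᵁ U)) (x y : Γ(X', p ⁻¹ᵁ U)) :
    letI := alg p U
    pair p V' U m (x ⊗ₜ y) = x • sc p V' U (y • m) := rfl

theorem pair_smul_right (U : X.Opens) (m : Γ(V', p ⁻¹ᵁ U)) (b : Γ(X', p ⁻¹ᵁ U)) :
    letI := alg p U
    ∀ z : Γ(X', p ⁻¹ᵁ U) ⊗[Γ(X, U)] Γ(X', p ⁻¹ᵁ U),
      pair p V' U (b • m) z = pair p V' U m ((1 ⊗ₜ b) * z) := by
  let _ := alg p U
  intro z
  induction z with
  | zero => rw [mul_zero, map_zero, map_zero]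
  | add x y hx hy => rw [mul_add, map_add, map_add, hx, hy]
  | tmul x y =>
    rw [pair_tmul, Algebra.TensorProduct.tmul_mul_tmul, pair_tmul, one_mul, ← mul_smul, mul_comm y b]

theorem pair_smul_left (U : X.Opens) (m : Γ(V', p ⁻¹ᵁ U)) (b : Γ(X', p ⁻¹ᵁ U)) :
    letI := alg p U
    ∀ z : Γ(X', p ⁻¹ᵁ U) ⊗[Γ(X, U)] Γ(X', p ⁻¹ᵁ U),
      b • pair p V' U m z = pair p V' U m ((b ⊗ₜ 1) * z) := by
  let _ := alg p U
  intro z
  induction z with
  | zero => rw [mul_zero, map_zero, smul_zero]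
  | add x y hx hy => rw [mul_add, map_add, map_add, smul_add, hx, hy]
  | tmul x y =>
    rw [pair_tmul, Algebra.TensorProduct.tmul_mul_tmul, pair_tmul, one_mul, ← mul_smul]

theorem pair_add (U : X.Opens) (m m' : Γ(V', p ⁻¹ᵁ U)) :
    letI := alg p U
    ∀ z : Γ(X', p ⁻¹ᵁ U) ⊗[Γ(X, U)] Γ(X', p ⁻¹ᵁ U),
      pair p V' U (m + m') z = pair p V' U m z + pair p V' U m' z := by
  let _ := alg p U
  intro z
  induction z with
  | zero => rw [map_zero, map_zero, map_zero, add_zero]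
  | add x y hx hy => rw [map_add, map_add, map_add, hx, hy]; abel
  | tmul x y => rw [pair_tmul, pair_tmul, pair_tmul, smul_add, map_add, smul_add]

theorem counit_pair (U : X.Opens) (m : Γ(V', p ⁻¹ᵁ U)) :
    letI := alg p U
    ∀ z : Γ(X', p ⁻¹ᵁ U) ⊗[Γ(X, U)] Γ(X', p ⁻¹ᵁ U),
      ((Scheme.Modules.pullbackPushforwardAdjunction p).counit.app V').app (p ⁻¹ᵁ U) (pair p V' U m z) =
        Algebra.TensorProduct.lmul' Γ(X, U) z • m := by
  let _ := alg p U
  intro z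
  induction z with
  | zero => rw [map_zero, map_zero, map_zero, zero_smul]
  | add x y hx hy => rw [map_add, map_add, map_add, add_smul, hx, hy]
  | tmul x y =>
    rw [pair_tmul, Scheme.Modules.Hom.app_smul, counit_sc, Algebra.TensorProduct.lmul'_apply_tmul, mul_smul]

theorem comm_res {U W : X.Opens} (h : W ≤ U) :
    (resO (p.preimage_mono h)).comp (p.appLE U (p ⁻¹ᵁ U) le_rfl).hom =
      (p.appLE W (p ⁻¹ᵁ W) le_rfl).hom.comp (resO h) := by
  rw [appLE_self, appLE_self]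
  ext r
  exact (congrArg (fun φ => φ.hom r) (p.naturality (homOfLE h).op)).symm

theorem pair_res {U W : X.Opens} (h : W ≤ U) (m : Γ(V', p ⁻¹ᵁ U)) :
    letI := alg p U
    letI := alg p W
    ∀ z : Γ(X', p ⁻¹ᵁ U) ⊗[Γ(X, U)] Γ(X', p ⁻¹ᵁ U),
      res (PP p V') (p.preimage_mono h) (pair p V' U m z) =
        pair p V' W (res V' (p.preimage_mono h) m)
          (Algebra.TensorProduct.mapRingHom (resO h) (resO (p.preimage_mono h)) (resO (p.preimage_mono h))
            (comm_res p h) (comm_res p h) z) := by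
  let _ := alg p U
  let _ := alg p W
  intro z
  induction z with
  | zero => rw [map_zero, map_zero, map_zero, map_zero]
  | add x y hx hy => rw [map_add, map_add, map_add, map_add, hx, hy]
  | tmul x y =>
    rw [pair_tmul, Algebra.TensorProduct.mapRingHom_tmul, pair_tmul, res_smul, sc_res p V' h, res_smul]

/-- the characterizing property of the separability idempotent -/
def IsSep (U : X.Opens) : letI := alg p U
    Γ(X', p ⁻¹ᵁ U) ⊗[Γ(X, U)] Γ(X', p ⁻¹ᵁ U) → Prop :=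
  letI := alg p U
  fun e => (∀ s, ((1 : Γ(X', p ⁻¹ᵁ U)) ⊗ₜ[Γ(X, U)] s) * e = (s ⊗ₜ[Γ(X, U)] (1 : Γ(X', p ⁻¹ᵁ U))) * e) ∧
    Algebra.TensorProduct.lmul' Γ(X, U) e = 1

theorem exists_sep [IsAffineHom p] [Etale p] {U : X.Opens} (hU : IsAffineOpen U) :
    letI := alg p U
    ∃ e : Γ(X', p ⁻¹ᵁ U) ⊗[Γ(X, U)] Γ(X', p ⁻¹ᵁ U), IsSep p U e := by
  let _ := alg p U
  have h1 : (p.appLE U (p ⁻¹ᵁ U) le_rfl).hom.Etale :=
    HasRingHomProperty.appLE (P := @Etale) p inferInstance ⟨U, hU⟩ ⟨p ⁻¹ᵁ U, hU.preimage p⟩ le_rfl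
  have h2 : Algebra.Etale Γ(X, U) Γ(X', p ⁻¹ᵁ U) := h1
  have h3 : Algebra.FiniteType Γ(X, U) Γ(X', p ⁻¹ᵁ U) := inferInstance
  exact ⟨Algebra.FormallyUnramified.elem Γ(X, U) Γ(X', p ⁻¹ᵁ U),
    fun s => Algebra.FormallyUnramified.one_tmul_mul_elem s, Algebra.FormallyUnramified.lmul_elem⟩

/-- the local splitting -/
noncomputable def lU (U : X.Opens) (e : letI := alg p U
    Γ(X', p ⁻¹ᵁ U) ⊗[Γ(X, U)] Γ(X', p ⁻¹ᵁ U)) (he : IsSep p U e) :
    Γ(V', p ⁻¹ᵁ U) →ₗ[Γ(X', p ⁻¹ᵁ U)] Γ(PP p V', p ⁻¹ᵁ U) :=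
  letI := alg p U
  { toFun := fun m => pair p V' U m e
    map_add' := fun m m' => pair_add p V' U m m' e
    map_smul' := fun b m => by
      rw [pair_smul_right, he.1, RingHom.id_apply, ← pair_smul_left] }

theorem loc_surj {Y : Scheme.{u}} {V : Y.Opens} (hV : IsAffineOpen V) (f : Γ(Y, V)) {W : Y.Opens}
    (hW : W = Y.basicOpen f) (h : W ≤ V) (s : Γ(Y, W)) :
    ∃ (n : ℕ) (t : Γ(Y, V)), resO h t = resO h f ^ n * s := by
  subst hW
  have := hV.isLocalization_basicOpen f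
  obtain ⟨n, t, ht⟩ := IsLocalization.Away.surj f s
  exact ⟨n, t, ht.symm.trans (mul_comm _ _)⟩

theorem res_lU [IsAffineHom p] {U W : X.Opens} (hU : IsAffineOpen U) (a : Γ(X, U)) (hW : W = X.basicOpen a)
    (h : W ≤ U) (e : letI := alg p U
    Γ(X', p ⁻¹ᵁ U) ⊗[Γ(X, U)] Γ(X', p ⁻¹ᵁ U)) (he : IsSep p U e) (e' : letI := alg p W
    Γ(X', p ⁻¹ᵁ W) ⊗[Γ(X, W)] Γ(X', p ⁻¹ᵁ W)) (he' : IsSep p W e') (m : Γ(V', p ⁻¹ᵁ U)) :
    res (PP p V') (p.preimage_mono h) (lU p V' U e he m) =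
      lU p V' W e' he' (res V' (p.preimage_mono h) m) := by
  let _ := alg p U
  let _ := alg p W
  refine (pair_res p V' h m e).trans ?_
  have h1 : Algebra.TensorProduct.mapRingHom (resO h) (resO (p.preimage_mono h)) (resO (p.preimage_mono h))
            (comm_res p h) (comm_res p h) e = e' := by
    refine elem_map (resO h) (resO (p.preimage_mono h)) (comm_res p h) a (isUnit_resO' a hW h) ?_
      he.1 he'.1 he.2 he'.2
    intro s'
    have hpre : p ⁻¹ᵁ W = X'.basicOpen (p.app U a) := by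
      rw [hW, Scheme.preimage_basicOpen]
    obtain ⟨n, t, ht⟩ := loc_surj (hU.preimage p) (p.app U a) hpre (p.preimage_mono h) s'
    refine ⟨n, t, ht.trans ?_⟩
    congr 2
    have h3 := congrArg (fun φ => φ a) (comm_res p h)
    refine Eq.trans ?_ h3
    change resO (p.preimage_mono h) ((p.app U).hom a) = resO _ ((p.appLE U (p ⁻¹ᵁ U) le_rfl).hom a)
    rw [appLE_self]
  rw [h1]
  rfl

theorem exists_affine_near (U W : X.Opens) (hU : IsAffineOpen U) (hW : IsAffineOpen W) (x : X) (hxU : x ∈ U)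
    (hxW : x ∈ W) : ∃ (D : X.Opens) (_ : IsAffineOpen D) (f : Γ(X, U)) (g : Γ(X, W)), x ∈ D ∧
      D = X.basicOpen f ∧ D = X.basicOpen g := by
  obtain ⟨f, g, hfg, hx⟩ := exists_basicOpen_le_affine_inter hU hW x ⟨hxU, hxW⟩
  exact ⟨X.basicOpen f, hU.basicOpen f, f, g, hx, rfl, hfg⟩

/-- The counit splits. -/
theorem exists_splitting [IsAffineHom p] [Etale p] (hV' : Coh.IsQCoh V') :
    ∃ σ : V' ⟶ PP p V',
      σ ≫ (Scheme.Modules.pullbackPushforwardAdjunction p).counit.app V' = 𝟙 V' := by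
  choose e he using fun U : X.affineOpens => exists_sep p U.2
  choose φ hφ using fun U : X.affineOpens =>
    exists_lhom (G := V') (N := PP p V') hV' (U.2.preimage p) (lU p V' U.1 (e U) (he U))
  have hcov : ⨆ U : X.affineOpens, p ⁻¹ᵁ U.1 = ⊤ := by
    rw [← Scheme.Hom.preimage_iSup, iSup_affineOpens_eq_top X]
    rfl
  -- compatibility on basic opens
  have hbas : ∀ (U D : X.affineOpens) (f : Γ(X, U.1)) (hD : D.1 = X.basicOpen f) (h : D.1 ≤ U.1)
      (V : X'.Opens) (hV : V ≤ p ⁻¹ᵁ D.1) (s : Γ(V', V)),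
      (φ U).app V (hV.trans (p.preimage_mono h)) s = (φ D).app V hV s := by
    intro U D f hD h V hV s
    refine lhom_ext hV' (D.2.preimage p) (p.preimage_mono h) le_rfl (φ U) (φ D) ?_ hV s
    intro s
    rw [hφ D]
    obtain ⟨n, t, ht⟩ := (isLocAt_of_isQCoh hV' (U.2.preimage p) (p.app U.1 f)).surj'
      (W := p ⁻¹ᵁ D.1) (by rw [hD, Scheme.preimage_basicOpen]) (p.preimage_mono h) s
    have e1 := (φ U).nat (p ⁻¹ᵁ U.1) (p ⁻¹ᵁ D.1) (p.preimage_mono h) le_rfl t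
    have e2 : (φ U).app (p ⁻¹ᵁ D.1) (p.preimage_mono h) (res V' (p.preimage_mono h) t) =
        lU p V' D.1 (e D) (he D) (res V' (p.preimage_mono h) t) := by
      refine e1.trans ?_
      rw [hφ U]
      exact res_lU p V' U.2 f hD h (e U) (he U) (e D) (he D) t
    rw [ht, _root_.map_smul, _root_.map_smul] at e2
    have hu : IsUnit (resO (p.preimage_mono h) (p.app U.1 f)) :=
      isUnit_resO' (X := X') (p.app U.1 f) (by rw [hD, Scheme.preimage_basicOpen]) (p.preimage_mono h)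
    exact (hu.pow n).smul_left_cancel.mp e2
  obtain ⟨σ, hσ⟩ := exists_glue V' (PP p V') (fun U : X.affineOpens => p ⁻¹ᵁ U.1) hcov φ (by
    intro U W V hi hj s
    have key : ∀ x : V, ∃ E : X'.Opens, ∃ hE : E ≤ V, (x : X') ∈ E ∧ ∀ t : Γ(V', E),
        (φ U).app E (hE.trans hi) t = (φ W).app E (hE.trans hj) t := by
      intro x
      obtain ⟨D, hDaff, f, g, hxD, hDf, hDg⟩ := exists_affine_near U.1 W.1 U.2 W.2 (p x.1) (hi x.2) (hj x.2)
      have hDU : D ≤ U.1 := hDf ▸ X.basicOpen_le f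
      have hDW : D ≤ W.1 := hDg ▸ X.basicOpen_le g
      refine ⟨V ⊓ p ⁻¹ᵁ D, inf_le_left, ⟨x.2, hxD⟩, fun t => ?_⟩
      rw [hbas U ⟨D, hDaff⟩ f hDf hDU (V ⊓ p ⁻¹ᵁ D) inf_le_right t]
      exact (hbas W ⟨D, hDaff⟩ g hDg hDW (V ⊓ p ⁻¹ᵁ D) inf_le_right t).symm
    choose E hE hxE hEe using key
    refine eq_of_locally_eq (PP p V') E V hE (fun x hx => Opens.mem_iSup.mpr ⟨⟨x, hx⟩, hxE _⟩) _ _ fun x => ?_
    have e1 := (φ U).nat V (E x) (hE x) hi s
    have e2 := (φ W).nat V (E x) (hE x) hj s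
    exact e1.symm.trans ((hEe x _).trans e2))
  refine ⟨σ, ?_⟩
  refine Groth.Agent.FormalB.ModPowAff2.hom_ext_of_affine_cover hV' _ _ fun x => ?_
  obtain ⟨U, hU, hxU⟩ : ∃ U : X.Opens, IsAffineOpen U ∧ p x ∈ U := by
    obtain ⟨_, ⟨U, hU, rfl⟩, hxU, -⟩ := X.isBasis_affineOpens.exists_subset_of_mem_open
      (show p x ∈ (⊤ : X.Opens) from trivial) (⊤ : X.Opens).2
    exact ⟨U, hU, hxU⟩
  refine ⟨p ⁻¹ᵁ U, hxU, hU.preimage p, fun m => ?_⟩
  have h1 := hσ ⟨U, hU⟩ (p ⁻¹ᵁ U) le_rfl m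
  change ((Scheme.Modules.pullbackPushforwardAdjunction p).counit.app V').app (p ⁻¹ᵁ U) (σ.app (p ⁻¹ᵁ U) m) = m
  rw [h1, hφ ⟨U, hU⟩ m]
  refine (counit_pair p V' U m (e ⟨U, hU⟩)).trans ?_
  rw [(he ⟨U, hU⟩).2, one_smul]

end K826.SplitCounit
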