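import Groth.Agent.PrincBund.K826.ZornStep
import Groth.Agent.Sga3C.NormalHopfF
import Groth.Agent.Books.AffBridge2

/-!
# Torsors under affine group schemes over an algebraically closed field are trivial
-/

set_option autoImplicit false
universe u

open CategoryTheory CategoryTheory.Limits MonoidalCategory CartesianMonoidalCategory MonObj GrpObj AlgebraicGeometry

namespace K826.TorsAlgClosed

open K826.Kill K826.TorsField K826.ZornPair K826.ZornStep
open Groth.Agent.Books.AffBridge Groth.Agent.Books.AffBridge2 Groth.Agent.Sga3C.SubHopf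
  Groth.Agent.Sga3C.NormalHopfF

variable {k : Type u} [Field k]

/-- Spectrum of a finitely generated sub-Hopf-algebra: the quotient map. -/
theorem surjective_specMap_valB {B : Type u} [CommRing B] [HopfAlgebra k B] {D : Subalgebra k B}
    (hD : SGA3.IsHopfSubalgebra k B D) : letI := hopfB hD;
    Flat (specMap k (valB hD : D →ₐ[k] B)).left ∧ Surjective (specMap k (valB hD : D →ₐ[k] B)).left := by
  let _ := hopfB hD
  rw [flat_and_surjective_specMap_iff]
  have h := Groth.Agent.MiscA.HopfFlat.faithfullyFlat (valB hD) Subtype.val_injective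
  exact h

/-- An affine group all of whose affine algebraic quotients are trivial is trivial. -/
theorem trivial_of_quot (N : Over (Spec (CommRingCat.of k))) [GrpObj N] [IsAffine N.left]
    (hN : ∀ (H : Over (Spec (CommRingCat.of k))) [GrpObj H] [IsAffine H.left] [LocallyOfFiniteType H.hom]
      (h : N ⟶ H) [IsMonHom h] [Surjective h.left] (T : Over (Spec (CommRingCat.of k))) (g : T ⟶ N),
      g ≫ h = 1) (T : Over (Spec (CommRingCat.of k))) (g g' : T ⟶ N) : g = g' := by
  obtain ⟨B, _, _, e, he⟩ := exists_hopf k N
  have hsurj : Function.Surjective (algebraMap k B) := by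
    intro b
    obtain ⟨D, hD, hfg, hb⟩ := exists_fg_hopfSubalgebra (k := k) (A := B) {b}
    let _ := hopfB hD
    have hbD : b ∈ D := hb (by simp)
    have : LocallyOfFiniteType (SpecOver k D).hom :=
      (locallyOfFiniteType_specOver_iff (k := k) D).2 (D.fg_iff_finiteType.1 hfg)
    have : IsAffine (SpecOver k D).left := inferInstanceAs (IsAffine (Spec _))
    have := isMonHom_specMap k (valB hD)
    have : Surjective (e.hom ≫ specMap k (valB hD : D →ₐ[k] B)).left := by
      have := (surjective_specMap_valB hD).2
      rw [Over.comp_left]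
      have : IsIso e.hom.left := inferInstanceAs (IsIso ((Over.forget _).map e.hom))
      infer_instance
    have h1 := hN (SpecOver k D) (e.hom ≫ specMap k (valB hD : D →ₐ[k] B)) _ e.inv
    rw [Iso.inv_hom_id_assoc] at h1
    rw [← specMap_one] at h1
    have h2 := specMap_injective k h1
    refine ⟨CoalgebraStruct.counit (R := k) (⟨b, hbD⟩ : D), ?_⟩
    exact (congrArg (fun f : D →ₐ[k] B => f ⟨b, hbD⟩) h2).symm
  have hcl : IsClosedImmersion (Spec.map (CommRingCat.ofHom (algebraMap k B))) :=
    IsClosedImmersion.spec_of_surjective _ hsurj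
  rw [← cancel_mono e.hom]
  apply Over.OverMorphism.ext
  have : Mono (SpecOver k B).hom := inferInstanceAs (Mono (Spec.map (CommRingCat.ofHom (algebraMap k B))))
  rw [← cancel_mono (SpecOver k B).hom, Over.w, Over.w]

/-- Torsors for the fpqc topology under affine group schemes over an algebraically closed field have a
rational point; version for pseudo-torsors. -/
theorem exists_section [IsAlgClosed k] (G : Over (Spec (CommRingCat.of k))) [GrpObj G] [IsAffine G.left]
    (P : Over (Spec (CommRingCat.of k))) (a : AlgGrp.Action G P) (ha : NonAbH1.IsPseudoTorsorSch a)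
    [Nonempty P.left] : Nonempty (𝟙_ (Over (Spec (CommRingCat.of k))) ⟶ P) := by
  have haff : IsAffine P.left := isAffine_of_torsor a ha
  have hbot : (⊥ : Ideal Γ(P.left, ⊤)) ≠ ⊤ := by
    have h1 := ker_ne_top (𝟙 P)
    intro h
    apply h1
    rw [eq_top_iff, ← h]
    exact bot_le
  obtain ⟨I, J, hI, hp, hmax⟩ := exists_max a hbot
  have hne : Nonempty (subO I).left := nonempty_subO hI
  have hZl : NonAbH1.IsLocallyTrivialFor Scheme.fpqcPrecoverage (subO I) := locTriv_of_nonempty _
  obtain ⟨_, _⟩ := exists_grp hp hZl
  obtain ⟨b, hb⟩ := exists_act hp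
  have hbp := pseudo_act hp ha b hb
  have hN := trivial_of_quot (subO J) (fun H _ _ _ h _ _ T g => hom_trivial ha hp hI hmax H h T g)
  have hZ : ∀ (T : Over (Spec (CommRingCat.of k))) (x x' : T ⟶ subO I), x = x' := by
    intro T x x'
    obtain ⟨g, hg, -⟩ := K826.Tors.existsUnique_of_pseudo hbp x x'
    replace hg : lift g x ≫ b.act = x' := hg
    rw [hN T g 1, b.lift_one_act] at hg
    exact hg
  obtain ⟨σ, -, -⟩ := K826.Descend.existsUnique_descend_unit le_rfl hZl (𝟙 (subO I)) (by
    intro T' x x'
    rw [hZ T' x x'])
  exact ⟨σ ≫ subι I⟩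

end K826.TorsAlgClosed
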