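import Mathlib.LinearAlgebra.Eigenspace.Charpoly
import Mathlib.LinearAlgebra.Eigenspace.Zero
import Mathlib.FieldTheory.AlgebraicClosure
import Mathlib.Analysis.Complex.Basic
import Mathlib.Analysis.Complex.Polynomial.Basic
import Mathlib.FieldTheory.IsAlgClosed.Basic
import Mathlib.LinearAlgebra.Semisimple

/-!
# Traces of linear maps of finite order in characteristic zero
-/

set_option autoImplicit false
universe u v

open Module

namespace K826.TorsionLin

theorem multiset_bound {K : Type u} [Field K] [CharZero K] (s : Multiset K) (N : ℕ) (hN : N ≠ 0)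
    (hs : ∀ x ∈ s, x ^ N = 1) (m : ℕ) (hm : s.sum = m) :
    m ≤ s.card ∧ (m = s.card → ∀ x ∈ s, x = 1) := by
  let F := algebraicClosure ℚ K
  have hF : ∀ x ∈ s, x ∈ F := by
    intro x hx
    rw [mem_algebraicClosure_iff]
    refine (IsIntegral.of_pow (n := N) (Nat.pos_of_ne_zero hN) ?_).isAlgebraic
    rw [hs x hx]
    exact isIntegral_one
  obtain ⟨t, rfl⟩ : ∃ t : Multiset F, t.map (algebraMap F K) = s := by
    refine ⟨s.pmap (fun x hx => ⟨x, hx⟩) hF, ?_⟩
    rw [Multiset.map_pmap]
    exact (Multiset.pmap_eq_map _ id s hF).trans (Multiset.map_id s)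
  have hFalg : Algebra.IsAlgebraic ℚ F := algebraicClosure.isAlgebraic ℚ K
  let σ : F →ₐ[ℚ] ℂ := IsAlgClosed.lift
  have hpow : ∀ x ∈ t, (σ x) ^ N = 1 := by
    intro x hx
    have h1 := hs (algebraMap F K x) (Multiset.mem_map_of_mem _ hx)
    rw [← map_pow, map_eq_one_iff _ (algebraMap F K).injective] at h1
    rw [← map_pow, h1, map_one]
  have hsum : (t.map σ).sum = m := by
    have h1 : t.sum = m := by
      apply (algebraMap F K).injective
      rw [map_multiset_sum, hm, map_natCast]
    rw [← map_multiset_sum, h1, map_natCast]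
  have hre : ∀ x ∈ t, (σ x).re ≤ 1 := by
    intro x hx
    refine (Complex.re_le_norm _).trans ?_
    rw [Complex.norm_eq_one_of_pow_eq_one (hpow x hx) hN]
  have hre1 : ∀ x ∈ t, (σ x).re = 1 → x = 1 := by
    intro x hx h
    have h2 : ‖σ x‖ = 1 := Complex.norm_eq_one_of_pow_eq_one (hpow x hx) hN
    have h3 : (σ x).im = 0 := by
      have h4 : (σ x).re * (σ x).re + (σ x).im * (σ x).im = 1 := by
        have := Complex.norm_mul_self_eq_normSq (σ x)
        rw [h2, Complex.normSq_apply] at this
        linarith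
      rw [h] at h4
      nlinarith
    have h5 : σ x = 1 := Complex.ext (by simp [h]) (by simp [h3])
    exact σ.injective (h5.trans (map_one σ).symm)
  have hsumre : (t.map (fun x => (σ x).re)).sum = m := by
    have h1 := congrArg Complex.reAddGroupHom hsum
    rw [map_multiset_sum, Multiset.map_map] at h1
    simpa using h1
  have hdiff : (t.map (fun x => 1 - (σ x).re)).sum = t.card - m := by
    rw [Multiset.sum_map_sub, hsumre]
    simp
  have hnn : ∀ y ∈ t.map (fun x => 1 - (σ x).re), (0 : ℝ) ≤ y := by
    intro y hy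
    obtain ⟨x, hx, rfl⟩ := Multiset.mem_map.1 hy
    linarith [hre x hx]
  have hge : (0 : ℝ) ≤ t.card - m := by
    rw [← hdiff]
    exact Multiset.sum_nonneg hnn
  rw [Multiset.card_map]
  refine ⟨by exact_mod_cast (sub_nonneg.1 hge), fun heq x hx => ?_⟩
  obtain ⟨y, hy, rfl⟩ := Multiset.mem_map.1 hx
  have h0 : (t.map (fun x => 1 - (σ x).re)).sum = 0 := by
    rw [hdiff, heq, sub_self]
  have h1 : 1 - (σ y).re = 0 :=
    Multiset.all_zero_of_le_zero_le_of_sum_eq_zero hnn h0 _ (Multiset.mem_map.2 ⟨y, hy, rfl⟩)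
  rw [hre1 y hy (by linarith), map_one]

variable {K : Type u} [Field K] [CharZero K] [IsAlgClosed K] {V : Type v} [AddCommGroup V] [Module K V]
  [FiniteDimensional K V]

omit [CharZero K] [IsAlgClosed K] in
theorem roots_pow {M : End K V} {N : ℕ} (hM : M ^ N = 1) {x : K} (hx : x ∈ M.charpoly.roots) :
    x ^ N = 1 := by
  have h1 : M.HasEigenvalue x := by
    rw [Module.End.hasEigenvalue_iff_isRoot_charpoly]
    exact Polynomial.isRoot_of_mem_roots hx
  obtain ⟨v, hv⟩ := h1.exists_hasEigenvector
  have h2 : (M ^ N) v = x ^ N • v := hv.pow_apply N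
  rw [hM, Module.End.one_apply] at h2
  have h3 : (x ^ N - 1) • v = 0 := by rw [sub_smul, ← h2, one_smul, sub_self]
  rcases smul_eq_zero.1 h3 with h | h
  · exact sub_eq_zero.1 h
  · exact (hv.2 h).elim

theorem trace_bound {M : End K V} {N : ℕ} (hN : N ≠ 0) (hM : M ^ N = 1) (m : ℕ)
    (hm : LinearMap.trace K V M = m) : m ≤ finrank K V ∧ (m = finrank K V → M = 1) := by
  have hspl : M.charpoly.Splits := IsAlgClosed.splits _
  have hcard : M.charpoly.roots.card = finrank K V := by
    rw [← LinearMap.charpoly_natDegree (f := M)]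
    exact (Polynomial.splits_iff_card_roots).1 hspl
  have h1 := multiset_bound M.charpoly.roots N hN (fun x hx => roots_pow hM hx) m
    (by rw [← Module.End.trace_eq_sum_roots_charpoly_of_splits hspl, hm])
  rw [hcard] at h1
  refine ⟨h1.1, fun h => ?_⟩
  have hroots := h1.2 h
  have hch : M.charpoly = (Polynomial.X - Polynomial.C 1) ^ finrank K V := by
    have h3 := hspl.eq_prod_roots_of_monic (LinearMap.charpoly_monic M)
    rw [h3]
    have h4 : M.charpoly.roots = Multiset.replicate (finrank K V) 1 := by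
      rw [Multiset.eq_replicate]
      exact ⟨hcard, hroots⟩
    rw [h4, Multiset.map_replicate, Multiset.prod_replicate]
  have hnil : IsNilpotent (M - 1) := by
    refine ⟨finrank K V, ?_⟩
    have := LinearMap.aeval_self_charpoly M
    rw [hch] at this
    simpa using this
  have hss : M.IsSemisimple := by
    refine Module.End.isSemisimple_of_squarefree_aeval_eq_zero (p := Polynomial.X ^ N - 1) ?_ (by simp [hM])
    exact (Polynomial.X_pow_sub_one_separable_iff.2 (by exact_mod_cast hN)).squarefree
  have hss' : (M - 1).IsSemisimple := by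
    have := hss.aeval (Polynomial.X - 1)
    simpa using this
  exact sub_eq_zero.1 (Module.End.eq_zero_of_isNilpotent_isSemisimple hnil hss')

end K826.TorsionLin
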